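/-
Facts on the alternating group of degree five used for the affine group.
-/
import Mathlib

set_option autoImplicit false

namespace CfsgLib.SpecFive.AltFive

/-- An element of order three. -/
def x : alternatingGroup (Fin 5) :=
  ⟨Equiv.swap 0 1 * Equiv.swap 1 2, by rw [Equiv.Perm.mem_alternatingGroup]; decide⟩

/-- An involution inverting `x`. -/
def s : alternatingGroup (Fin 5) :=
  ⟨Equiv.swap 1 2 * Equiv.swap 3 4, by rw [Equiv.Perm.mem_alternatingGroup]; decide⟩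

/-- An involution with `(u s)^3 = 1`. -/
def u : alternatingGroup (Fin 5) :=
  ⟨Equiv.swap 0 3 * Equiv.swap 1 2, by rw [Equiv.Perm.mem_alternatingGroup]; decide⟩

theorem rels : x ^ 3 = 1 ∧ x ≠ 1 ∧ s ^ 2 = 1 ∧ s ≠ 1 ∧ s * x * s⁻¹ = x⁻¹ ∧ u ^ 2 = 1 ∧ u ≠ 1 ∧
    (u * s) ^ 3 = 1 ∧ u * s ≠ 1 ∧ u * (x * u * x⁻¹) = x ^ 2 * u * (x ^ 2)⁻¹ ∧
    (x * u * x⁻¹) * u = x ^ 2 * u * (x ^ 2)⁻¹ := by
  decide +kernel

/-- The four elements of the Klein group, by index. -/
def U : Fin 4 → alternatingGroup (Fin 5) := ![1, u, x * u * x⁻¹, x ^ 2 * u * (x ^ 2)⁻¹]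

theorem cover : ∀ a : alternatingGroup (Fin 5),
    (∃ p : Fin 4, ∃ q : Fin 3, a = U p * x ^ (q : ℕ)) ∨
      ∃ r : Fin 4, ∃ p : Fin 4, ∃ q : Fin 3, a = U r * s * (U p * x ^ (q : ℕ)) := by
  decide +kernel

theorem no_four : ∀ a : alternatingGroup (Fin 5), a ^ 4 = 1 → a ^ 2 = 1 := by
  decide +kernel

theorem closure_eq_top : Subgroup.closure ({x, s, u} : Set (alternatingGroup (Fin 5))) = ⊤ := by
  rw [eq_top_iff]
  intro a _
  set K := Subgroup.closure ({x, s, u} : Set (alternatingGroup (Fin 5))) with hK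
  have hx : x ∈ K := Subgroup.subset_closure (by simp)
  have hs : s ∈ K := Subgroup.subset_closure (by simp)
  have hu : u ∈ K := Subgroup.subset_closure (by simp)
  have hU : ∀ p, U p ∈ K := by
    intro p
    fin_cases p
    · exact one_mem K
    · exact hu
    · exact mul_mem (mul_mem hx hu) (inv_mem hx)
    · exact mul_mem (mul_mem (pow_mem hx 2) hu) (inv_mem (pow_mem hx 2))
  rcases cover a with ⟨p, q, rfl⟩ | ⟨r, p, q, rfl⟩
  · exact mul_mem (hU p) (pow_mem hx _)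
  · exact mul_mem (mul_mem (hU r) hs) (mul_mem (hU p) (pow_mem hx _))

end CfsgLib.SpecFive.AltFive
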