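/-
Finite groups all of whose element orders are at most five: first consequences.
-/
import Mathlib
import Cfsg.Agent.Lib.CharTwoEarly
import Cfsg.Agent.Lib.Frobenius.Complement

set_option autoImplicit false
set_option linter.unusedSectionVars false

namespace CfsgLib.SpecFive

universe u

/-- Every element has order at most five. -/
def Spec5 (G : Type u) [Group G] : Prop := ∀ g : G, orderOf g ≤ 5

variable {G : Type u} [Group G] [Finite G]

theorem Spec5.subgroup (h : Spec5 G) (H : Subgroup G) : Spec5 H := fun g => by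
  rw [← Subgroup.orderOf_coe]; exact h g

theorem Spec5.quotient (h : Spec5 G) (N : Subgroup G) [N.Normal] : Spec5 (G ⧸ N) := by
  intro g
  obtain ⟨g, rfl⟩ := QuotientGroup.mk'_surjective N g
  exact le_trans (Nat.le_of_dvd (orderOf_pos g) (orderOf_map_dvd _ g)) (h g)

theorem Spec5.prime_cases (h : Spec5 G) {p : ℕ} (hp : p.Prime) (hd : p ∣ Nat.card G) :
    p = 2 ∨ p = 3 ∨ p = 5 := by
  haveI := Fact.mk hp
  obtain ⟨x, hx⟩ := exists_prime_orderOf_dvd_card' (G := G) p hd
  have h5 : p ≤ 5 := hx ▸ h x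
  have := hp.two_le
  interval_cases p <;> first | omega | norm_num at hp

/-- Commuting elements do not have two prime divisors in their orders. -/
theorem Spec5.not_commute (h : Spec5 G) {x y : G} {p q : ℕ} (hp : p.Prime) (hq : q.Prime) (hpq : p ≠ q)
    (hc : Commute x y) (hx : p ∣ orderOf x) (hy : q ∣ orderOf y) : False := by
  set x' := x ^ (orderOf x / p)
  set y' := y ^ (orderOf y / q)
  have hx' : orderOf x' = p := orderOf_pow_orderOf_div (orderOf_pos x).ne' hx
  have hy' : orderOf y' = q := orderOf_pow_orderOf_div (orderOf_pos y).ne' hy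
  have ho : orderOf (x' * y') = p * q := by
    rw [((hc.pow_left _).pow_right _).orderOf_mul_eq_mul_orderOf_of_coprime, hx', hy']
    rw [hx', hy']; exact (Nat.coprime_primes hp hq).mpr hpq
  have h5 := h (x' * y')
  rw [ho] at h5
  have h2 := hp.two_le
  have h2' := hq.two_le
  rcases Nat.lt_or_ge p 3 with hlt | hge
  · have : 3 ≤ q := by omega
    nlinarith
  · nlinarith

/-- The centraliser of an element of prime order `p` is a `p`-group. -/
theorem Spec5.isPGroup_centralizer (h : Spec5 G) {x : G} {p : ℕ} (hp : p.Prime) (hx : orderOf x = p) :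
    IsPGroup p (Subgroup.centralizer ({x} : Set G)) := by
  haveI := Fact.mk hp
  rw [IsPGroup.iff_orderOf]
  intro y
  refine ⟨_, Nat.eq_prime_pow_of_unique_prime_dvd (orderOf_pos y).ne' fun {q} hq hqy => ?_⟩
  by_contra hqp
  rw [← Subgroup.orderOf_coe] at hqy
  exact h.not_commute hp hq (Ne.symm hqp) (Subgroup.mem_centralizer_singleton_iff.mp y.2).symm
    (dvd_of_eq hx.symm) hqy

theorem Spec5.isPGroup_of_commute (h : Spec5 G) {x : G} {p : ℕ} (hp : p.Prime) (hx : p ∣ orderOf x)
    {H : Subgroup G} (hH : ∀ y ∈ H, y * x = x * y) : IsPGroup p H := by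
  have hx' : orderOf (x ^ (orderOf x / p)) = p := orderOf_pow_orderOf_div (orderOf_pos x).ne' hx
  refine (h.isPGroup_centralizer hp hx').to_le fun y hy => ?_
  rw [Subgroup.mem_centralizer_singleton_iff]
  exact ((show Commute y x from hH y hy).pow_right _).eq

/-- For an odd prime, `p`-elements have order at most `p`. -/
theorem Spec5.pow_eq_one (h : Spec5 G) {p : ℕ} (hp : p = 3 ∨ p = 5) {x : G} {n : ℕ}
    (hx : orderOf x = p ^ n) : x ^ p = 1 := by
  have h5 := h x
  rw [hx] at h5
  have hn : n ≤ 1 := by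
    by_contra hn
    have : p ^ 2 ≤ p ^ n := Nat.pow_le_pow_right (by omega) (by omega)
    rcases hp with rfl | rfl <;> omega
  rw [← orderOf_dvd_iff_pow_eq_one, hx]
  calc p ^ n ∣ p ^ 1 := pow_dvd_pow p hn
    _ = p := pow_one p

theorem Spec5.pgroup_pow_eq_one (h : Spec5 G) {p : ℕ} [Fact p.Prime] (hp : p = 3 ∨ p = 5) {H : Subgroup G}
    (hH : IsPGroup p H) {x : G} (hx : x ∈ H) : x ^ p = 1 := by
  obtain ⟨n, hn⟩ := IsPGroup.iff_orderOf.mp hH ⟨x, hx⟩
  rw [Subgroup.orderOf_mk] at hn
  exact h.pow_eq_one hp hn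

theorem Spec5.two_pow_four (h : Spec5 G) {x : G} {n : ℕ} (hx : orderOf x = 2 ^ n) : x ^ 4 = 1 := by
  have h5 := h x
  rw [hx] at h5
  have hn : n ≤ 2 := by
    by_contra hn
    have : (2:ℕ) ^ 3 ≤ 2 ^ n := Nat.pow_le_pow_right (by omega) (by omega)
    omega
  rw [← orderOf_dvd_iff_pow_eq_one, hx]
  exact pow_dvd_pow 2 hn

/-- An element of order two has no fixed points on a subgroup of odd prime power order. -/
theorem Spec5.fpf_two (h : Spec5 G) {p : ℕ} [Fact p.Prime] (hp2 : p ≠ 2) {M : Subgroup G} (hM : IsPGroup p M)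
    {u : G} (hu : orderOf u = 2) : ∀ m ∈ M, m * u = u * m → m = 1 := by
  intro m hm hc
  by_contra hm1
  obtain ⟨n, hn⟩ := IsPGroup.iff_orderOf.mp hM ⟨m, hm⟩
  rw [Subgroup.orderOf_mk] at hn
  have hn0 : n ≠ 0 := fun e => hm1 (orderOf_eq_one_iff.mp (by rw [hn, e, pow_zero]))
  exact h.not_commute (Fact.out : p.Prime) Nat.prime_two hp2 hc (by rw [hn]; exact dvd_pow_self p hn0)
    (dvd_of_eq hu.symm)

theorem mul_self_of_orderOf_two {u : G} (hu : orderOf u = 2) : u * u = 1 := by
  rw [← sq, ← hu, pow_orderOf_eq_one]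

/-- **A normal subgroup of odd prime power order forces a normal Sylow subgroup**, whose index is a power
of two if the group has even order, and one of `1`, `8 - p` otherwise. -/
theorem Spec5.sylow_of_normal (h : Spec5 G) {p : ℕ} [Fact p.Prime] (hp : p = 3 ∨ p = 5)
    {M : Subgroup G} [M.Normal] (hM : IsPGroup p M) (hM1 : M ≠ ⊥) (P : Sylow p G) :
    (P : Subgroup G).Normal ∧
      (2 ∣ Nat.card G → (∃ n, (P : Subgroup G).index = 2 ^ n) ∧
        (∀ u v : G, orderOf u = 2 → orderOf v = 2 → u * v ∈ (P : Subgroup G))) ∧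
      (¬ 2 ∣ Nat.card G → (P : Subgroup G).index ∣ (8 - p)) := by
  classical
  have hpp : p.Prime := Fact.out
  have hp2 : p ≠ 2 := by omega
  by_cases h2 : 2 ∣ Nat.card G
  · refine (?_ : _ ∧ ((∃ n, (P : Subgroup G).index = 2 ^ n) ∧ _)).imp id
      fun h' => ⟨fun _ => h', fun hn => absurd h2 hn⟩
    set C := Subgroup.centralizer (M : Set G) with hC
    have hCp : IsPGroup p C := by
      obtain ⟨m, hm, hm1⟩ := (Subgroup.bot_or_exists_ne_one M).resolve_left hM1
      obtain ⟨n, hn⟩ := IsPGroup.iff_orderOf.mp hM ⟨m, hm⟩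
      rw [Subgroup.orderOf_mk] at hn
      have hn0 : n ≠ 0 := fun e => hm1 (orderOf_eq_one_iff.mp (by rw [hn, e, pow_zero]))
      exact h.isPGroup_of_commute hpp (x := m) (by rw [hn]; exact dvd_pow_self p hn0)
        fun y hy => (Subgroup.mem_centralizer_iff.mp hy m hm).symm
    have hodd : Odd (Nat.card M) := by
      obtain ⟨n, hn⟩ := hM.exists_card_eq
      rw [hn]; exact (hpp.odd_of_ne_two hp2).pow
    have hinv : ∀ u : G, orderOf u = 2 → ∀ m ∈ M, u * m * u⁻¹ = m⁻¹ := fun u hu =>
      CfsgLib.CharTwoEarly.inverts hodd (mul_self_of_orderOf_two hu) (fun y hy => ‹M.Normal›.conj_mem _ hy u)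
        (h.fpf_two hp2 hM hu)
    have huv : ∀ u v : G, orderOf u = 2 → orderOf v = 2 → u * v ∈ C := by
      intro u v hu hv
      rw [hC, Subgroup.mem_centralizer_iff]
      intro m hm
      have : (u * v) * m * (u * v)⁻¹ = m := by
        calc (u * v) * m * (u * v)⁻¹ = u * (v * m * v⁻¹) * u⁻¹ := by group
          _ = m := by rw [hinv v hv m hm, ← conj_inv, hinv u hu m hm, inv_inv]
      rw [mul_inv_eq_iff_eq_mul] at this
      exact this.symm
    obtain ⟨u, hu⟩ := exists_prime_orderOf_dvd_card' (G := G) 2 h2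
    have huC : u ∉ C := fun hmem => by
      obtain ⟨n, hn⟩ := IsPGroup.iff_orderOf.mp hCp ⟨u, hmem⟩
      rw [Subgroup.orderOf_mk, hu] at hn
      exact hp2 ((Nat.prime_dvd_prime_iff_eq Nat.prime_two hpp).mp
        (Nat.prime_two.dvd_of_dvd_pow (dvd_of_eq hn))).symm
    have hū : orderOf (u : G ⧸ C) = 2 := by
      refine orderOf_eq_prime ?_ fun e => huC ((QuotientGroup.eq_one_iff u).mp e)
      rw [← QuotientGroup.mk_pow, ← hu, pow_orderOf_eq_one, QuotientGroup.mk_one]
    have h5 := h.quotient C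
    have hind : ∃ n, C.index = 2 ^ n := by
      refine ⟨_, Nat.eq_prime_pow_of_unique_prime_dvd Subgroup.index_ne_zero_of_finite fun {q} hq hqd => ?_⟩
      by_contra hq2
      haveI := Fact.mk hq
      obtain ⟨y, hy⟩ := exists_prime_orderOf_dvd_card' (G := G ⧸ C) q
        (by rwa [← Subgroup.index_eq_card])
      refine h5.not_commute hq Nat.prime_two hq2 (x := y) (y := (u : G ⧸ C)) ?_ (dvd_of_eq hy.symm)
        (dvd_of_eq hū.symm)
      obtain ⟨y, rfl⟩ := QuotientGroup.mk'_surjective C y
      have hv : orderOf (y * u * y⁻¹) = 2 := by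
        rw [← hu]
        simpa using orderOf_injective (MulAut.conj y).toMonoidHom (MulEquiv.injective _) u
      have hcen : ((y * u * y⁻¹ : G) : G ⧸ C) = (u : G ⧸ C) := by
        rw [QuotientGroup.eq, inv_eq_of_mul_eq_one_right (mul_self_of_orderOf_two hv)]
        exact huv _ _ hv hu
      rw [QuotientGroup.mk_mul, QuotientGroup.mk_mul, QuotientGroup.mk_inv, mul_inv_eq_iff_eq_mul] at hcen
      exact hcen
    obtain ⟨n, hn⟩ := hind
    have hndvd : ¬ p ∣ C.index := by
      rw [hn]
      exact fun hd => hp2 ((Nat.prime_dvd_prime_iff_eq hpp Nat.prime_two).mp (hpp.dvd_of_dvd_pow hd))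
    have hPC : (P : Subgroup G) = C := by
      haveI : (hCp.toSylow hndvd : Subgroup G).Normal := by rw [IsPGroup.toSylow_coe]; infer_instance
      haveI := Sylow.unique_of_normal (hCp.toSylow hndvd) this
      rw [Subsingleton.elim P (hCp.toSylow hndvd), IsPGroup.toSylow_coe]
    rw [hPC]
    exact ⟨inferInstance, ⟨n, hn⟩, huv⟩
  · refine (?_ : _ ∧ (P : Subgroup G).index ∣ (8 - p)).imp id fun h' => ⟨fun h => absurd h h2, fun _ => h'⟩
    set q := 8 - p with hq
    have hqp : q.Prime := by rcases hp with rfl | rfl <;> norm_num [hq]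
    haveI := Fact.mk hqp
    have hqp' : q ≠ p := by omega
    obtain ⟨Q⟩ : Nonempty (Sylow q G) := inferInstance
    set V := (Subgroup.center M).map M.subtype with hV
    haveI : Nontrivial M := M.nontrivial_iff_ne_bot.mpr hM1
    have hV1 : V ≠ ⊥ := by
      haveI := hM.center_nontrivial
      rw [hV, Ne, Subgroup.map_eq_bot_iff_of_injective _ M.subtype_injective, ← Ne,
        ← Subgroup.nontrivial_iff_ne_bot]
      infer_instance
    haveI : IsMulCommutative V := by
      refine ⟨⟨fun a b => Subtype.ext ?_⟩⟩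
      obtain ⟨a', ha', e⟩ := a.2
      obtain ⟨b', hb', e'⟩ := b.2
      show (a : G) * b = b * a
      rw [← e, ← e']
      exact congrArg Subtype.val (Subgroup.mem_center_iff.mp hb' a')
    haveI : V.Normal := by rw [hV]; infer_instance
    have hfpf : ∀ x ∈ (Q : Subgroup G), x ≠ 1 → V ⊓ Subgroup.centralizer {x} = ⊥ := by
      intro x hx hx1
      rw [Subgroup.eq_bot_iff_forall]
      rintro v ⟨hv, hvc⟩
      by_contra hv1
      obtain ⟨m, hm, rfl⟩ := hv
      obtain ⟨n, hn⟩ := IsPGroup.iff_orderOf.mp Q.isPGroup' ⟨x, hx⟩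
      obtain ⟨k, hk⟩ := IsPGroup.iff_orderOf.mp hM m
      rw [Subgroup.orderOf_mk] at hn
      rw [← Subgroup.orderOf_coe] at hk
      have hn0 : n ≠ 0 := fun e => hx1 (orderOf_eq_one_iff.mp (by rw [hn, e, pow_zero]))
      have hk0 : k ≠ 0 := fun e => hv1 (orderOf_eq_one_iff.mp (by rw [Subgroup.subtype_apply, hk, e, pow_zero]))
      exact h.not_commute hqp hpp hqp' (Subgroup.mem_centralizer_singleton_iff.mp hvc).symm
        (by rw [hn]; exact dvd_pow_self q hn0) (by rw [Subgroup.subtype_apply, hk]; exact dvd_pow_self p hk0)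
    have hQ : Nat.card Q ∣ q := by
      rcases (Subgroup.bot_or_exists_ne_one (Q : Subgroup G)) with hb | ⟨y, hy, hy1⟩
      · rw [hb, Subgroup.card_bot]; exact one_dvd _
      haveI : Nontrivial Q := (Q : Subgroup G).nontrivial_iff_ne_bot.mpr fun e => hy1 (by simpa [e] using hy)
      haveI := Q.isPGroup'.center_nontrivial
      obtain ⟨⟨z, hz⟩, hz1⟩ := exists_ne (1 : Subgroup.center Q)
      have hord : ∀ w : Q, w ≠ 1 → orderOf (w : G) = q := fun w hw =>
        orderOf_eq_prime (h.pgroup_pow_eq_one (by omega) Q.isPGroup' w.2) fun e => hw (Subtype.ext e)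
      have hz1' : z ≠ 1 := fun e => hz1 (Subtype.ext e)
      have hle : ∀ w : Q, (w : G) ∈ Subgroup.zpowers (z : G) := by
        intro w
        by_cases hw : w = 1
        · rw [hw]; exact one_mem _
        exact CfsgLib.Frob.no_elementary_fpf hV1 hqp (A := (Q : Subgroup G))
          (by rw [Subgroup.normalizer_eq_top V]; exact le_top) hfpf z.2 w.2 (hord z hz1') (hord w hw)
          (congrArg Subtype.val (Subgroup.mem_center_iff.mp hz w).symm)
      have hle' : (Q : Subgroup G) ≤ Subgroup.zpowers (z : G) := fun w hw => hle ⟨w, hw⟩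
      have := Subgroup.card_dvd_of_le hle'
      rwa [Nat.card_zpowers, hord z hz1'] at this
    have hdiv : (P : Subgroup G).index ∣ q := by
      refine dvd_trans ?_ hQ
      have hne : (P : Subgroup G).index ≠ 0 := Subgroup.index_ne_zero_of_finite
      have hone : ∀ r, r.Prime → r ∣ (P : Subgroup G).index → r = q := by
        intro r hr hrd
        have hrp : r ≠ p := fun e => P.not_dvd_index (e ▸ hrd)
        have := h.prime_cases hr (hrd.trans (P : Subgroup G).index_dvd_card)
        rcases this with rfl | rfl | rfl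
        · exact absurd (hrd.trans (P : Subgroup G).index_dvd_card) h2
        · omega
        · omega
      rw [Nat.eq_prime_pow_of_unique_prime_dvd hne fun {r} hr hrd => hone r hr hrd]
      refine (Nat.Prime.pow_dvd_iff_le_factorization hqp Nat.card_pos.ne').mpr ?_
      rw [Q.card_eq_multiplicity, Nat.Prime.factorization_pow hqp, Finsupp.single_eq_same,
        ← Nat.Prime.pow_dvd_iff_le_factorization hqp Nat.card_pos.ne']
      set m := (P : Subgroup G).index with hm
      have he := Nat.eq_prime_pow_of_unique_prime_dvd hne fun {r} hr hrd => hone r hr hrd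
      exact he ▸ (P : Subgroup G).index_dvd_card
    refine ⟨?_, hdiv⟩
    have h1 : Nat.card (Sylow p G) = 1 := by
      have hd := (Sylow.card_dvd_index P).trans hdiv
      rcases (Nat.dvd_prime hqp).mp hd with e | e
      · exact e
      · have hmod := card_sylow_modEq_one p G
        rw [e] at hmod
        unfold Nat.ModEq at hmod
        rcases hp with rfl | rfl <;> simp [hq] at hmod
    haveI : Subsingleton (Sylow p G) := (Nat.card_eq_one_iff_unique.mp h1).1
    exact Sylow.normal_of_subsingleton P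

end CfsgLib.SpecFive
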