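/-
An irreducible elementary abelian two-group extended by the alternating group of degree five, with
element orders at most five, is the affine group over the field with four elements.
-/
import Cfsg.Agent.Lib.SpecFive.Basic
import Cfsg.Agent.Lib.SpecFive.AltFive
import Cfsg.Agent.Lib.SLCard

set_option autoImplicit false
set_option linter.unusedSectionVars false

namespace CfsgLib.SpecFive

open Matrix

universe u

local instance affineFactTwo : Fact (Nat.Prime 2) := ⟨Nat.prime_two⟩

/-- Left multiplication closure for the explicit list of sixty elements. -/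
theorem bruhat_card {G : Type u} [Group G] [Finite G] {x s n : G} (hx : x ^ 3 = 1) (hs : s * s = 1)
    (hn : n * n = 1) (hsx : s * x * s⁻¹ = x⁻¹) (hns : (n * s) ^ 3 = 1) (hnx : (n * x) ^ 3 = 1) :
    Nat.card (Subgroup.closure ({x, s, n} : Set G)) ≤ 60 := by
  classical
  let U : Fin 4 → G := ![1, n, x * n * x⁻¹, x ^ 2 * n * (x ^ 2)⁻¹]
  let fB : Fin 4 × Fin 3 → G := fun p => U p.1 * x ^ (p.2 : ℕ)
  let InB : G → Prop := fun g => ∃ p, g = fB p
  let InS : G → Prop := fun g => InB g ∨ ∃ r b, InB b ∧ g = U r * s * b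
  have hxi : x⁻¹ = x ^ 2 := inv_eq_of_mul_eq_one_right (by rw [← pow_succ']; exact hx)
  have hsi : s⁻¹ = s := inv_eq_of_mul_eq_one_right hs
  have hni : n⁻¹ = n := inv_eq_of_mul_eq_one_right hn
  have h3 : n * (x * n * x⁻¹) * (x ^ 2 * n * (x ^ 2)⁻¹) = 1 := by
    have e : n * (x * n * x⁻¹) * (x ^ 2 * n * (x ^ 2)⁻¹) = (n * x) ^ 3 * (x ^ 3)⁻¹ := by
      simp only [pow_succ, pow_zero, one_mul, _root_.mul_inv_rev]; group
    rw [e, hnx, hx, inv_one, mul_one]
  have hU3i : (x ^ 2 * n * (x ^ 2)⁻¹)⁻¹ = x ^ 2 * n * (x ^ 2)⁻¹ := by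
    rw [show (x ^ 2 * n * (x ^ 2)⁻¹)⁻¹ = x ^ 2 * n⁻¹ * (x ^ 2)⁻¹ by group, hni]
  have hn12 : n * (x * n * x⁻¹) = x ^ 2 * n * (x ^ 2)⁻¹ := (mul_eq_one_iff_eq_inv.mp h3).trans hU3i
  have hnU : ∀ p, ∃ p', n * U p = U p' := by
    intro p
    fin_cases p
    · exact ⟨1, by simp [U]⟩
    · exact ⟨0, by simp [U, hn]⟩
    · exact ⟨3, by simpa [U] using hn12⟩
    · refine ⟨2, ?_⟩
      show n * (x ^ 2 * n * (x ^ 2)⁻¹) = x * n * x⁻¹
      rw [← hn12, ← mul_assoc, hn, one_mul]
  have hxU : ∀ p, ∃ p', x * U p = U p' * x := by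
    intro p
    fin_cases p
    · exact ⟨0, by simp [U]⟩
    · exact ⟨2, by simp [U]⟩
    · refine ⟨3, ?_⟩
      show x * (x * n * x⁻¹) = x ^ 2 * n * (x ^ 2)⁻¹ * x
      rw [sq]; group
    · refine ⟨1, ?_⟩
      show x * (x ^ 2 * n * (x ^ 2)⁻¹) = n * x
      calc x * (x ^ 2 * n * (x ^ 2)⁻¹) = (x ^ 3) * n * (x ^ 3)⁻¹ * x := by
            simp only [pow_succ, pow_zero, one_mul, _root_.mul_inv_rev]; group
        _ = n * x := by rw [hx, inv_one, one_mul, mul_one]
  have hxpow : ∀ q : Fin 3, ∃ q' : Fin 3, x * x ^ (q : ℕ) = x ^ (q' : ℕ) := by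
    intro q
    refine ⟨⟨((q : ℕ) + 1) % 3, Nat.mod_lt _ (by norm_num)⟩, ?_⟩
    rw [← pow_succ']
    exact pow_eq_pow_mod _ hx
  have hnB : ∀ g, InB g → InB (n * g) := by
    rintro _ ⟨⟨p, q⟩, rfl⟩
    obtain ⟨p', hp⟩ := hnU p
    exact ⟨(p', q), by show n * (U p * x ^ (q : ℕ)) = _; rw [← mul_assoc, hp]⟩
  have hxB : ∀ g, InB g → InB (x * g) := by
    rintro _ ⟨⟨p, q⟩, rfl⟩
    obtain ⟨p', hp⟩ := hxU p
    obtain ⟨q', hq⟩ := hxpow q
    exact ⟨(p', q'), by show x * (U p * x ^ (q : ℕ)) = U p' * x ^ (q' : ℕ); rw [← mul_assoc, hp, mul_assoc, hq]⟩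
  have hsxx : x * s = s * (x * x) := by
    rw [← sq, ← hxi]
    calc x * s = s * (s * x * s⁻¹) := by rw [hsi, ← mul_assoc, ← mul_assoc, hs, one_mul]
      _ = s * x⁻¹ := by rw [hsx]
  have hnS : ∀ g, InS g → InS (n * g) := by
    rintro g (hg | ⟨r, b, hb, rfl⟩)
    · exact Or.inl (hnB g hg)
    · obtain ⟨r', hr⟩ := hnU r
      exact Or.inr ⟨r', b, hb, by rw [← mul_assoc, ← mul_assoc, hr]⟩
  have hxS : ∀ g, InS g → InS (x * g) := by
    rintro g (hg | ⟨r, b, hb, rfl⟩)
    · exact Or.inl (hxB g hg)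
    · obtain ⟨r', hr⟩ := hxU r
      refine Or.inr ⟨r', x * (x * b), hxB _ (hxB _ hb), ?_⟩
      rw [← mul_assoc, ← mul_assoc, hr, mul_assoc (U r') x s, hsxx]
      group
  have hsB : ∀ g, InB g → InS (s * g) := fun g hg => Or.inr ⟨0, g, hg, by simp [U]⟩
  have hsns : s * n * s = n * s * n := by
    have e : (n * s) * ((n * s) * (n * s)) = 1 := by rw [← pow_two, ← pow_succ']; exact hns
    have e' := eq_inv_of_mul_eq_one_right e
    rw [_root_.mul_inv_rev, hni, hsi] at e'
    calc s * n * s = n * ((n * s) * (n * s)) := by simp only [mul_assoc]; rw [← mul_assoc n n, hn, one_mul]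
      _ = n * (s * n) := by rw [e']
      _ = n * s * n := by group
  have hsS : ∀ g, InS g → InS (s * g) := by
    rintro g (hg | ⟨r, b, hb, rfl⟩)
    · exact hsB g hg
    · fin_cases r
      · left
        show InB (s * (1 * s * b))
        rwa [one_mul, ← mul_assoc, hs, one_mul]
      · show InS (s * (n * s * b))
        rw [← mul_assoc, ← mul_assoc, hsns, mul_assoc, mul_assoc]
        exact hnS _ (hsB _ (hnB _ hb))
      · show InS (s * (x * n * x⁻¹ * s * b))
        have e : s * (x * n * x⁻¹ * s * b) = x * (x * (n * (s * (n * (x * b))))) := by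
          calc s * (x * n * x⁻¹ * s * b) = (s * x * s⁻¹) * (s * n * s) * (s⁻¹ * x⁻¹ * s) * b := by group
            _ = x⁻¹ * (n * s * n) * x * b := by
                rw [hsx, hsns, show s⁻¹ * x⁻¹ * s = (s * x * s⁻¹)⁻¹ by rw [hsi]; simp [mul_assoc, hsi],
                  hsx, inv_inv]
            _ = _ := by rw [hxi, sq]; group
        rw [e]
        exact hxS _ (hxS _ (hnS _ (hsB _ (hnB _ (hxB _ hb)))))
      · show InS (s * (x ^ 2 * n * (x ^ 2)⁻¹ * s * b))
        have e : s * (x ^ 2 * n * (x ^ 2)⁻¹ * s * b) = x * (n * (s * (n * (x * (x * b))))) := by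
          have h1 : s * x ^ 2 * s⁻¹ = x := by rw [← conj_pow, hsx, hxi, ← pow_mul, show 2 * 2 = 3 + 1 by norm_num, pow_succ, hx, one_mul]
          calc s * (x ^ 2 * n * (x ^ 2)⁻¹ * s * b) = (s * x ^ 2 * s⁻¹) * (s * n * s) * (s * x ^ 2 * s⁻¹)⁻¹ * b := by
                rw [show (s * x ^ 2 * s⁻¹)⁻¹ = s⁻¹ * (x ^ 2)⁻¹ * s by rw [hsi]; simp [mul_assoc, hsi]]; group
            _ = x * (n * s * n) * x⁻¹ * b := by rw [h1, hsns]
            _ = _ := by rw [hxi, sq]; group
        rw [e]
        exact hxS _ (hnS _ (hsB _ (hnB _ (hxB _ (hxB _ hb)))))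
  have h1 : InS 1 := Or.inl ⟨(0, 0), by simp [fB, U]⟩
  have hall : ∀ g ∈ Subgroup.closure ({x, s, n} : Set G), InS g := by
    intro g hg
    induction hg using Subgroup.closure_induction_left with
    | one => exact h1
    | mul_left a ha b _ ih =>
      rcases ha with rfl | rfl | rfl
      · exact hxS b ih
      · exact hsS b ih
      · exact hnS b ih
    | inv_mul_cancel a ha b _ ih =>
      rcases ha with rfl | rfl | rfl
      · rw [hxi, sq, mul_assoc]; exact hxS _ (hxS b ih)
      · rw [hsi]; exact hsS b ih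
      · rw [hni]; exact hnS b ih
  let F : (Fin 4 × Fin 3) ⊕ (Fin 4 × (Fin 4 × Fin 3)) → G :=
    Sum.elim fB (fun p => U p.1 * s * fB p.2)
  have hsub : (Subgroup.closure ({x, s, n} : Set G) : Set G) ⊆ Set.range F := by
    intro g hg
    rcases hall g hg with ⟨p, rfl⟩ | ⟨r, b, ⟨p, rfl⟩, rfl⟩
    · exact ⟨Sum.inl p, rfl⟩
    · exact ⟨Sum.inr (r, p), rfl⟩
  rw [← SetLike.coe_sort_coe, Nat.card_coe_set_eq]
  refine (Set.ncard_le_ncard hsub (Set.toFinite _)).trans ?_
  rw [← Set.image_univ]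
  refine (Set.ncard_image_le (Set.toFinite _)).trans ?_
  rw [Set.ncard_univ, Nat.card_eq_fintype_card]
  simp

/-- **The affine group.** -/
theorem affine {G : Type u} [Group G] [Finite G] (h : Spec5 G) (V : Subgroup G) [V.Normal]
    (hcomm : IsMulCommutative V) (hexp : ∀ v ∈ V, v ^ 2 = 1) (hV : V ≠ ⊥)
    (e : G ⧸ V ≃* alternatingGroup (Fin 5))
    (hirr : ∀ W : Subgroup G, W.Normal → W ≤ V → W = ⊥ ∨ W = V) :
    ∃ (F : Type) (_ : Field F) (_ : Fintype F), Fintype.card F = 4 ∧
      Nonempty (G ≃* ↥(Subgroup.closure {M : Matrix.SpecialLinearGroup (Fin 3) F |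
          (M : Matrix (Fin 3) (Fin 3) F) 2 0 = 0 ∧ (M : Matrix (Fin 3) (Fin 3) F) 2 1 = 0 ∧
            (M : Matrix (Fin 3) (Fin 3) F) 2 2 = 1})) := by
  classical
  let π : G →* alternatingGroup (Fin 5) := e.toMonoidHom.comp (QuotientGroup.mk' V)
  have hπs : Function.Surjective π := e.surjective.comp (QuotientGroup.mk'_surjective V)
  have hπk : ∀ g, π g = 1 ↔ g ∈ V := fun g => by
    show e (QuotientGroup.mk' V g) = 1 ↔ _
    rw [map_eq_one_iff _ e.injective]
    exact QuotientGroup.eq_one_iff g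
  have hπeq : ∀ a b, π a = π b → a⁻¹ * b ∈ V := fun a b hab => by
    rw [← hπk, map_mul, map_inv, hab, inv_mul_cancel]
  letI : CommGroup V := { (inferInstance : Group V) with mul_comm := fun a b => hcomm.is_comm.comm a b }
  have hv2 : ∀ v : V, v * v = 1 := fun v => Subtype.ext (by rw [Subgroup.coe_mul, ← sq]; exact hexp v v.2)
  have hvi : ∀ v : V, v⁻¹ = v := fun v => inv_eq_of_mul_eq_one_right (hv2 v)
  let ρ : alternatingGroup (Fin 5) →* MulAut V :=
    (QuotientGroup.lift V (MulAut.conjNormal : G →* MulAut V) (fun v hv => by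
      rw [MonoidHom.mem_ker]
      refine MulEquiv.ext fun w => Subtype.ext ?_
      rw [MulAut.conjNormal_apply, MulAut.one_apply]
      have := congrArg Subtype.val (mul_comm (⟨v, hv⟩ : V) w)
      simp only [Subgroup.coe_mul] at this
      rw [this, mul_inv_cancel_right])).comp e.symm.toMonoidHom
  have hρ : ∀ (g : G) (v : V), ((ρ (π g) v : V) : G) = g * v * g⁻¹ := fun g v => by
    simp only [ρ, π, MonoidHom.coe_comp, Function.comp_apply, MulEquiv.coe_toMonoidHom, e.symm_apply_apply]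
    exact MulAut.conjNormal_apply g v
  have hρm : ∀ a b (v : V), ρ (a * b) v = ρ a (ρ b v) := fun a b v => by rw [map_mul, MulAut.mul_apply]
  -- lifts of elements of order three
  have hlift3 : ∀ g : G, orderOf (π g) = 3 → orderOf g = 3 := fun g hg => by
    have hd := orderOf_map_dvd π g
    rw [hg] at hd
    obtain ⟨k, hk⟩ := hd
    have h5 := h g
    have := orderOf_pos g
    omega
  have hord3 : ∀ a : alternatingGroup (Fin 5), a ^ 3 = 1 → a ≠ 1 → orderOf a = 3 :=
    fun a ha ha1 => orderOf_eq_prime ha ha1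
  have hfix : ∀ a : alternatingGroup (Fin 5), a ^ 3 = 1 → a ≠ 1 → ∀ v : V, ρ a v = v → v = 1 := by
    intro a ha ha1 v hv
    obtain ⟨g, rfl⟩ := hπs a
    by_contra hv1
    have hv' : (v : G) ≠ 1 := fun e => hv1 (Subtype.ext e)
    refine h.not_commute Nat.prime_two Nat.prime_three (by norm_num) (x := (v : G)) (y := g) ?_
      (dvd_of_eq (orderOf_eq_prime (hexp v v.2) hv').symm) (dvd_of_eq (hlift3 g (hord3 _ ha ha1)).symm)
    have := congrArg Subtype.val hv
    rw [hρ] at this
    exact (mul_inv_eq_iff_eq_mul.mp this).symm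
  have hnorm : ∀ a : alternatingGroup (Fin 5), a ^ 3 = 1 → a ≠ 1 → ∀ v : V, v * ρ a v * ρ (a * a) v = 1 := by
    intro a ha ha1 v
    refine hfix a ha ha1 _ ?_
    rw [map_mul, map_mul, ← hρm, ← hρm, ← mul_assoc a a a, ← pow_two, ← pow_succ, ha, map_one, MulAut.one_apply,
      pow_two]
    ac_rfl
  obtain ⟨hx3, hx1, hs2, hs1, hsx, hu2, hu1, hus, hus1, hU12, hU21⟩ := AltFive.rels
  set X := AltFive.x
  set S := AltFive.s
  set U := AltFive.u
  have hSS : S * S = 1 := by rw [← pow_two]; exact hs2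
  have hUU : U * U = 1 := by rw [← pow_two]; exact hu2
  have hρS : ∀ v : V, ρ S (ρ S v) = v := fun v => by rw [← hρm, hSS, map_one, MulAut.one_apply]
  -- a common fixed vector of the Klein group
  obtain ⟨v₀, hv₀⟩ : ∃ v : V, v ≠ 1 := by
    obtain ⟨v, hv, hv1⟩ := (Subgroup.bot_or_exists_ne_one V).resolve_left hV
    exact ⟨⟨v, hv⟩, fun e => hv1 (congrArg Subtype.val e)⟩
  have hstep : ∀ (a : alternatingGroup (Fin 5)), a * a = 1 → ∀ v : V, v ≠ 1 →
      ∃ w : V, w ≠ 1 ∧ ρ a w = w ∧ (w = v ∨ w = v * ρ a v) := by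
    intro a ha v hv
    by_cases hav : ρ a v = v
    · exact ⟨v, hv, hav, Or.inl rfl⟩
    · refine ⟨v * ρ a v, fun e => hav ?_, ?_, Or.inr rfl⟩
      · rw [eq_inv_of_mul_eq_one_right e, hvi]
      · rw [map_mul, ← hρm, ha, map_one, MulAut.one_apply, mul_comm]
  obtain ⟨w₁, hw₁, hw₁u, -⟩ := hstep U hUU v₀ hv₀
  set U1 := X * U * X⁻¹ with hU1
  have hU11 : U1 * U1 = 1 := by rw [hU1]; simp [mul_assoc]; rw [← mul_assoc U U, hUU, one_mul, mul_inv_cancel]
  obtain ⟨w, hw, hwu1, hwor⟩ := hstep U1 hU11 w₁ hw₁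
  have hwu : ρ U w = w := by
    rcases hwor with e | e
    · rw [e]; exact hw₁u
    · rw [e, map_mul, hw₁u, ← hρm, hU12, ← hU21, hρm, hw₁u]
  have hX2 : X⁻¹ = X ^ 2 := inv_eq_of_mul_eq_one_right (by rw [← pow_succ']; exact hx3)
  have hwu2 : ρ (X ^ 2 * U * (X ^ 2)⁻¹) w = w := by rw [← hU12, hρm, hwu1, hwu]
  have hXX : ∀ v : V, v * ρ X v * ρ X (ρ X v) = 1 := fun v => by rw [← hρm]; exact hnorm X hx3 hx1 v
  have hXw : ρ U (ρ X w) = ρ X w := by
    have e : U * X = X * (X ^ 2 * U * (X ^ 2)⁻¹) := by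
      rw [← hX2, inv_inv, ← mul_assoc, ← mul_assoc, mul_inv_cancel, one_mul]
    rw [← hρm, e, hρm, hwu2]
  have hXne : ρ X w ≠ w := fun e => hw (hfix X hx3 hx1 w e)
  have hXX1 : ρ X (ρ X w) = w * ρ X w := by
    rw [eq_inv_of_mul_eq_one_right (hXX w), hvi]
  -- the field
  letI : Fintype (GaloisField 2 2) := Fintype.ofFinite _
  have hcardF : Fintype.card (GaloisField 2 2) = 4 := by
    rw [← Nat.card_eq_fintype_card, GaloisField.card 2 2 (by norm_num)]; norm_num
  obtain ⟨c, hc0, hc1⟩ : ∃ c : GaloisField 2 2, c ≠ 0 ∧ c ≠ 1 := by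
    by_contra hno
    push Not at hno
    have : (Finset.univ : Finset (GaloisField 2 2)) ⊆ {0, 1} := fun a _ => by
      by_cases ha : a = 0
      · simp [ha]
      · simp [hno a ha]
    have := (Finset.card_le_card this).trans Finset.card_le_two
    rw [Finset.card_univ, hcardF] at this
    omega
  have hc3 : c * c * c = 1 := by
    have := FiniteField.pow_card_sub_one_eq_one c hc0
    rw [hcardF] at this
    linear_combination this
  have h2F : (2 : GaloisField 2 2) = 0 := CharTwo.two_eq_zero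
  have hcc : c * c = c + 1 := by
    have h0 : (c - 1) * (c * c + c + 1) = 0 := by linear_combination hc3
    rcases mul_eq_zero.mp h0 with e | e
    · exact absurd (sub_eq_zero.mp e) hc1
    · linear_combination e - (c + 1) * h2F
  have hc01 : c + 1 ≠ 0 ∧ c + 1 ≠ 1 ∧ c + 1 ≠ c := by
    refine ⟨fun e => hc1 ?_, fun e => hc0 ?_, fun e => one_ne_zero (α := GaloisField 2 2) ?_⟩
    · linear_combination e - h2F
    · linear_combination e
    · linear_combination e
  have huniv : ∀ a : GaloisField 2 2, a = 0 ∨ a = 1 ∨ a = c ∨ a = c + 1 := by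
    intro a
    have : ({0, 1, c, c + 1} : Finset (GaloisField 2 2)) = Finset.univ := by
      apply Finset.eq_univ_of_card
      rw [hcardF, Finset.card_insert_of_notMem, Finset.card_insert_of_notMem, Finset.card_insert_of_notMem,
        Finset.card_singleton] <;> simp [hc0.symm, hc1.symm, hc01.1.symm, hc01.2.1.symm, hc01.2.2.symm]
    have := this ▸ Finset.mem_univ a
    simpa using this
  have hcases : ∀ (P : GaloisField 2 2 → Prop), P 0 → P 1 → P c → P (c + 1) → ∀ a, P a := by
    intro P h0 h1 h2 h3 a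
    rcases huniv a with e | e | e | e <;> rw [e] <;> assumption
  let f : GaloisField 2 2 → V := fun a =>
    if a = 0 then 1 else if a = 1 then w else if a = c then ρ X w else w * ρ X w
  have f0 : f 0 = 1 := by simp [f]
  have f1 : f 1 = w := by simp [f]
  have fc : f c = ρ X w := by simp [f, hc0, hc1]
  have fc1 : f (c + 1) = w * ρ X w := by simp [f, hc01]
  have hc11 : (1 : GaloisField 2 2) + 1 = 0 := by linear_combination h2F
  have hccz : c + c = 0 := by linear_combination c * h2F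
  have hfadd : ∀ a b, f (a + b) = f a * f b := by
    refine hcases _ ?_ ?_ ?_ ?_ <;> refine hcases _ ?_ ?_ ?_ ?_ <;>
      (try simp only [zero_add, add_zero, f0, one_mul, mul_one])
    · rw [hc11, f0, hv2]
    · rw [add_comm 1 c, fc1, f1, fc]
    · rw [show (1 : GaloisField 2 2) + (c + 1) = c by linear_combination h2F, f1, fc, fc1, ← mul_assoc, hv2, one_mul]
    · rw [fc1, f1, fc, mul_comm]
    · rw [hccz, f0, hv2]
    · rw [show c + (c + 1) = (1 : GaloisField 2 2) by linear_combination c * h2F, f1, fc, fc1, mul_left_comm, hv2,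
        mul_one]
    · rw [show c + 1 + 1 = (c : GaloisField 2 2) by linear_combination h2F, f1, fc, fc1, mul_right_comm, hv2, one_mul]
    · rw [show c + 1 + c = (1 : GaloisField 2 2) by linear_combination c * h2F, f1, fc, fc1, mul_assoc, hv2, mul_one]
    · rw [show c + 1 + (c + 1) = (0 : GaloisField 2 2) by linear_combination (c + 1) * h2F, f0, hv2]
  have hfX : ∀ a, ρ X (f a) = f (c * a) := by
    refine hcases _ ?_ ?_ ?_ ?_
    · rw [mul_zero, f0, map_one]
    · rw [mul_one, f1, fc]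
    · rw [hcc, fc, fc1, hXX1]
    · rw [mul_add, hcc, mul_one, show c + 1 + c = (1 : GaloisField 2 2) by linear_combination c * h2F, f1, fc1,
        map_mul, hXX1, mul_left_comm, hv2, mul_one]
  have hfU : ∀ a, ρ U (f a) = f a := by
    refine hcases _ ?_ ?_ ?_ ?_
    · rw [f0, map_one]
    · rw [f1, hwu]
    · rw [fc, hXw]
    · rw [fc1, map_mul, hwu, hXw]
  have hfinj : ∀ a, f a = 1 → a = 0 := by
    refine hcases _ ?_ ?_ ?_ ?_ <;> intro ha
    · rfl
    · exact absurd (f1 ▸ ha) hw
    · rw [fc, MulEquiv.map_eq_one_iff] at ha; exact absurd ha hw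
    · exfalso
      rw [fc1] at ha
      exact hXne ((eq_inv_of_mul_eq_one_right ha).trans (hvi w))
  have hfUS : ∀ a, ρ U (ρ S (f a)) = f a * ρ S (f a) := by
    intro a
    have h1 := hnorm (U * S) hus hus1 (f a)
    have e : U * S * (U * S) = S * U := by
      have hA : U * S * (U * S) = (U * S)⁻¹ :=
        eq_inv_of_mul_eq_one_right (by rw [← pow_two, ← pow_succ']; exact hus)
      rw [hA, _root_.mul_inv_rev, inv_eq_of_mul_eq_one_right hSS, inv_eq_of_mul_eq_one_right hUU]
    rw [e, hρm, hρm, hfU] at h1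
    rw [mul_right_comm] at h1
    rw [eq_inv_of_mul_eq_one_right h1, hvi]
  let Φ : (Fin 2 → GaloisField 2 2) → V := fun p => f (p 0) * ρ S (f (p 1))
  have hΦadd : ∀ p q, Φ (p + q) = Φ p * Φ q := by
    intro p q
    simp only [Φ, Pi.add_apply, hfadd, map_mul]
    ac_rfl
  have hΦ0 : Φ 0 = 1 := by simp [Φ, f0]
  have hΦinj : Function.Injective Φ := by
    intro p q hpq
    have h1 : Φ (p + q) = 1 := by rw [hΦadd, hpq, hv2]
    have hu' := congrArg (ρ U) h1
    simp only [Φ, map_mul, map_one, hfU, hfUS, Pi.add_apply] at hu' h1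
    have hb : p 1 + q 1 = 0 := by
      refine hfinj _ ?_
      rw [mul_left_comm] at hu'
      rwa [h1, mul_one] at hu'
    have ha : p 0 + q 0 = 0 := by
      refine hfinj _ ?_
      rwa [hb, f0, map_one, mul_one] at h1
    funext i
    fin_cases i
    · show p 0 = q 0; linear_combination ha - (q 0) * h2F
    · show p 1 = q 1; linear_combination hb - (q 1) * h2F
  have hcm : ∀ A B : SpecialLinearGroup (Fin 2) (GaloisField 2 2),
      ((A * B : SpecialLinearGroup (Fin 2) (GaloisField 2 2)) : Matrix (Fin 2) (Fin 2) (GaloisField 2 2)) =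
        (A : Matrix (Fin 2) (Fin 2) (GaloisField 2 2)) * (B : Matrix (Fin 2) (Fin 2) (GaloisField 2 2)) :=
    fun _ _ => rfl
  have hc1' : ((1 : SpecialLinearGroup (Fin 2) (GaloisField 2 2)) : Matrix (Fin 2) (Fin 2) (GaloisField 2 2)) = 1 :=
    rfl
  -- the action by matrices
  have hact : ∀ a : alternatingGroup (Fin 5), ∃ A : SpecialLinearGroup (Fin 2) (GaloisField 2 2),
      ∀ p, ρ a (Φ p) = Φ ((A : Matrix (Fin 2) (Fin 2) (GaloisField 2 2)) *ᵥ p) := by
    intro a
    have ha : a ∈ Subgroup.closure ({X, S, U} : Set (alternatingGroup (Fin 5))) :=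
      AltFive.closure_eq_top ▸ Subgroup.mem_top a
    induction ha using Subgroup.closure_induction with
    | mem y hy =>
      rcases hy with rfl | rfl | rfl
      · refine ⟨⟨!![c, 0; 0, c * c], by rw [det_fin_two_of]; linear_combination hc3⟩, fun p => ?_⟩
        have e : X * S = S * (X * X) := by
          calc X * S = S * (S * X * S⁻¹) := by
                rw [inv_eq_of_mul_eq_one_right hSS, ← mul_assoc, ← mul_assoc, hSS, one_mul]
            _ = S * (X * X) := by rw [hsx, hX2, pow_two]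
        simp only [Φ, Matrix.mulVec, dotProduct, Fin.sum_univ_two, Matrix.cons_val_zero, Matrix.cons_val_one,
          Matrix.of_apply, zero_mul, add_zero, zero_add, map_mul]
        rw [hfX, ← MulAut.mul_apply, ← map_mul, e, map_mul, map_mul, MulAut.mul_apply, MulAut.mul_apply, hfX, hfX,
          ← mul_assoc c c]
      · refine ⟨⟨!![0, 1; 1, 0], by rw [det_fin_two_of]; linear_combination -h2F⟩, fun p => ?_⟩
        simp only [Φ, Matrix.mulVec, dotProduct, Fin.sum_univ_two, Matrix.cons_val_zero, Matrix.cons_val_one,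
          Matrix.of_apply, zero_mul, one_mul, add_zero, zero_add, map_mul, hρS]
        exact mul_comm _ _
      · refine ⟨⟨!![1, 1; 0, 1], by rw [det_fin_two_of]; ring⟩, fun p => ?_⟩
        simp only [Φ, Matrix.mulVec, dotProduct, Fin.sum_univ_two, Matrix.cons_val_zero, Matrix.cons_val_one,
          Matrix.of_apply, zero_mul, one_mul, add_zero, zero_add, map_mul, hfU, hfUS, hfadd, mul_assoc]
    | one => exact ⟨1, fun p => by simp⟩
    | mul a b _ _ iha ihb =>
      obtain ⟨A, hA⟩ := iha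
      obtain ⟨B, hB⟩ := ihb
      exact ⟨A * B, fun p => by rw [hρm, hB, hA, hcm, mulVec_mulVec]⟩
    | inv a _ iha =>
      obtain ⟨A, hA⟩ := iha
      refine ⟨A⁻¹, fun p => ?_⟩
      have := hA (((A⁻¹ : SpecialLinearGroup (Fin 2) (GaloisField 2 2)) : Matrix _ _ _) *ᵥ p)
      rw [mulVec_mulVec, ← hcm, mul_inv_cancel, hc1', one_mulVec] at this
      rw [← this, ← hρm, inv_mul_cancel, map_one, MulAut.one_apply]
  choose L hL using hact
  have huniq : ∀ A B : SpecialLinearGroup (Fin 2) (GaloisField 2 2),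
      (∀ p, Φ ((A : Matrix (Fin 2) (Fin 2) (GaloisField 2 2)) *ᵥ p) = Φ ((B : Matrix (Fin 2) (Fin 2) _) *ᵥ p)) →
      A = B := by
    intro A B hAB
    refine Subtype.ext (Matrix.ext fun i j => ?_)
    have := congrFun (hΦinj (hAB (Pi.single j 1))) i
    simpa using this
  have hLmul : ∀ a b, L (a * b) = L a * L b := fun a b => huniq _ _ fun p => by
    rw [← hL, hρm, hL, hL, hcm, mulVec_mulVec]
  -- the image of the coordinate map is the whole of `V`
  have hΦsurj : Function.Surjective Φ := by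
    let W : Subgroup G :=
      { carrier := {g | ∃ p, ((Φ p : V) : G) = g}
        one_mem' := ⟨0, by rw [hΦ0]; rfl⟩
        mul_mem' := by
          rintro _ _ ⟨p, rfl⟩ ⟨q, rfl⟩
          exact ⟨p + q, by rw [hΦadd]; rfl⟩
        inv_mem' := by
          rintro _ ⟨p, rfl⟩
          exact ⟨p, by rw [← Subgroup.coe_inv, hvi]⟩ }
    have hWn : W.Normal := ⟨by
      rintro _ ⟨p, rfl⟩ g
      exact ⟨_, by rw [← hρ g (Φ p), hL (π g) p]⟩⟩
    rcases hirr W hWn (by rintro _ ⟨p, rfl⟩; exact (Φ p).2) with e | e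
    · exfalso
      have hmem : ((Φ ![1, 0] : V) : G) ∈ W := ⟨_, rfl⟩
      rw [e, Subgroup.mem_bot, OneMemClass.coe_eq_one] at hmem
      simp [Φ, f1, f0] at hmem
      exact hw hmem
    · intro v
      have hmem : (v : G) ∈ W := by rw [e]; exact v.2
      obtain ⟨p, hp⟩ := hmem
      exact ⟨p, Subtype.ext hp⟩
  -- lifts generating a complement
  obtain ⟨x, hx⟩ := hπs X
  have hxo : orderOf x = 3 := hlift3 x (by rw [hx]; exact hord3 X hx3 hx1)
  have hxx3 : x ^ 3 = 1 := by rw [← hxo, pow_orderOf_eq_one]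
  obtain ⟨s, hsπ, hsxx⟩ : ∃ s, π s = S ∧ s * x * s⁻¹ = x⁻¹ := by
    obtain ⟨g, hg⟩ := hπs S
    let δ : V → V := fun v => ρ X v * v
    have hδ : Function.Surjective δ := by
      refine Finite.injective_iff_surjective.mp fun a b hab => ?_
      have : ρ X (a * b) = a * b := by
        have e : ρ X a * a * (ρ X b * b) = 1 := by rw [show ρ X a * a = ρ X b * b from hab, hv2]
        have e' : ρ X (a * b) * (a * b) = 1 := by rw [map_mul, ← e]; ac_rfl
        rw [eq_inv_of_mul_eq_one_left e', hvi]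
      have h1 := hfix X hx3 hx1 _ this
      rw [← hvi b] at h1
      exact mul_inv_eq_one.mp h1
    have hmem : x * (g * x * g⁻¹) ∈ V := by
      rw [← hπk, map_mul, map_mul, map_mul, map_inv, hx, hg, hsx, mul_inv_cancel]
    obtain ⟨v, hv⟩ := hδ ⟨_, hmem⟩
    have hv' : x * (v : G) * x⁻¹ * v = x * (g * x * g⁻¹) := by
      have := congrArg Subtype.val hv
      simp only [δ, Subgroup.coe_mul] at this
      rwa [← hx, hρ] at this
    refine ⟨(v : G) * g, by rw [map_mul, (hπk _).mpr v.2, one_mul, hg], ?_⟩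
    have e2 : g * x * g⁻¹ = (v : G) * x⁻¹ * v := by
      have := congrArg (x⁻¹ * ·) hv'
      simp only [inv_mul_cancel_left, mul_assoc] at this
      simpa [mul_assoc] using this.symm
    calc (v : G) * g * x * ((v : G) * g)⁻¹ = (v : G) * (g * x * g⁻¹) * (v : G)⁻¹ := by group
      _ = ((v : G) * v) * x⁻¹ := by rw [e2]; group
      _ = x⁻¹ := by rw [← sq, hexp v v.2, one_mul]
  have hss : s * s = 1 := by
    have hmem : s * s ∈ V := by rw [← hπk, map_mul, hsπ, hSS]
    have := hfix X hx3 hx1 ⟨_, hmem⟩ (Subtype.ext (by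
      rw [← hx, hρ]
      show x * (s * s) * x⁻¹ = s * s
      have e : s * s * x * (s * s)⁻¹ = x := by
        calc s * s * x * (s * s)⁻¹ = s * (s * x * s⁻¹) * s⁻¹ := by group
          _ = x := by rw [hsxx, show s * x⁻¹ * s⁻¹ = (s * x * s⁻¹)⁻¹ by group, hsxx, inv_inv]
      rw [mul_inv_eq_iff_eq_mul] at e ⊢
      exact e.symm))
    exact congrArg Subtype.val this
  obtain ⟨n, hnπ, hnn⟩ : ∃ n, π n = U ∧ n * n = 1 := by
    obtain ⟨g, hg⟩ := hπs U
    have hmem : g * g ∈ V := by rw [← hπk, map_mul, hg, hUU]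
    obtain ⟨p, hp⟩ := hΦsurj ⟨_, hmem⟩
    have hfx : ρ U (Φ p) = Φ p := by
      rw [hp]
      refine Subtype.ext ?_
      rw [← hg, hρ]
      show g * (g * g) * g⁻¹ = g * g
      group
    have hp1 : f (p 1) = 1 := by
      simp only [Φ, map_mul, hfU, hfUS] at hfx
      have := mul_left_cancel hfx
      exact mul_eq_right.mp this
    set v := ρ S (f (p 0)) with hv
    have hgv : g * (v : G) * g⁻¹ = ((f (p 0) * v : V) : G) := by rw [← hρ, hg, hv, hfUS]
    have hgg : g * g = ((f (p 0) : V) : G) := by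
      have := congrArg Subtype.val hp
      simp only [Φ, hp1, map_one, mul_one] at this
      exact this.symm
    refine ⟨(v : G) * g, by rw [map_mul, (hπk _).mpr v.2, one_mul, hg], ?_⟩
    calc (v : G) * g * ((v : G) * g) = (v : G) * (g * v * g⁻¹) * (g * g) := by group
      _ = ((v * (f (p 0) * v) * f (p 0) : V) : G) := by rw [hgv, hgg]; simp only [Subgroup.coe_mul]
      _ = 1 := by
          rw [show v * (f (p 0) * v) * f (p 0) = (v * v) * (f (p 0) * f (p 0)) by ac_rfl, hv2, hv2, one_mul,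
            Subgroup.coe_one]
  have hns : (n * s) ^ 3 = 1 := by
    rw [← hlift3 (n * s) (by rw [map_mul, hnπ, hsπ]; exact hord3 _ hus hus1), pow_orderOf_eq_one]
  have hnx : (n * x) ^ 3 = 1 := by
    have hUX : (U * X) ^ 3 = 1 ∧ U * X ≠ 1 := by
      constructor <;> decide +kernel
    rw [← hlift3 (n * x) (by rw [map_mul, hnπ, hx]; exact hord3 _ hUX.1 hUX.2), pow_orderOf_eq_one]
  set H := Subgroup.closure ({x, s, n} : Set G) with hH
  have hH60 : Nat.card H ≤ 60 := bruhat_card hxx3 hss hnn hsxx hns hnx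
  have hA60 : Nat.card (alternatingGroup (Fin 5)) = 60 := by rw [Nat.card_eq_fintype_card]; rfl
  have hπH : Function.Surjective (π.comp H.subtype) := by
    rw [← MonoidHom.range_eq_top, MonoidHom.range_eq_map, ← Subgroup.map_map, ← MonoidHom.range_eq_map,
      Subgroup.range_subtype, hH, MonoidHom.map_closure, Set.image_insert_eq, Set.image_insert_eq,
      Set.image_singleton, hx, hsπ, hnπ]
    exact AltFive.closure_eq_top
  have hbij : Function.Bijective (π.comp H.subtype) := by
    refine (Nat.bijective_iff_surjective_and_card _).mpr ⟨hπH, ?_⟩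
    exact le_antisymm (hA60 ▸ hH60) (Nat.card_le_card_of_surjective _ hπH)
  let eH := MulEquiv.ofBijective _ hbij
  let τ : G →* G := H.subtype.comp (eH.symm.toMonoidHom.comp π)
  have hτπ : ∀ g, π (τ g) = π g := fun g => eH.apply_symm_apply (π g)
  have hτV : ∀ g, g * (τ g)⁻¹ ∈ V := fun g => by rw [← hπk, map_mul, map_inv, hτπ, mul_inv_cancel]
  choose t ht using fun g => hΦsurj ⟨_, hτV g⟩
  have ht' : ∀ g, ((Φ (t g) : V) : G) = g * (τ g)⁻¹ := fun g => congrArg Subtype.val (ht g)
  have htmul : ∀ g g', t (g * g') = t g + (L (π g) : Matrix (Fin 2) (Fin 2) (GaloisField 2 2)) *ᵥ t g' := by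
    intro g g'
    apply hΦinj
    rw [hΦadd, ← hL, mul_comm]
    refine Subtype.ext ?_
    have e : (((ρ (π g) (Φ (t g')) * Φ (t g)) : V) : G) = g * (g' * (τ g')⁻¹) * g⁻¹ * (g * (τ g)⁻¹) :=
      (Subgroup.coe_mul _ _ _).trans (congrArg₂ (· * ·) ((hρ _ _).trans (by rw [ht'])) (ht' g))
    rw [e, ht', map_mul]
    group
  let M : G → Matrix (Fin 3) (Fin 3) (GaloisField 2 2) := fun g =>
    !![(L (π g) : Matrix (Fin 2) (Fin 2) (GaloisField 2 2)) 0 0,
       (L (π g) : Matrix (Fin 2) (Fin 2) (GaloisField 2 2)) 0 1, t g 0;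
       (L (π g) : Matrix (Fin 2) (Fin 2) (GaloisField 2 2)) 1 0,
       (L (π g) : Matrix (Fin 2) (Fin 2) (GaloisField 2 2)) 1 1, t g 1;
       0, 0, 1]
  have hMdet : ∀ g, (M g).det = 1 := fun g => by
    have hd := (L (π g)).det_coe
    rw [det_fin_two] at hd
    rw [det_fin_three]
    simp [M]
    linear_combination hd
  have hMmul : ∀ g g', M (g * g') = M g * M g' := by
    intro g g'
    have e1 : (L (π g * π g') : Matrix (Fin 2) (Fin 2) (GaloisField 2 2)) =
        (L (π g) : Matrix (Fin 2) (Fin 2) (GaloisField 2 2)) * (L (π g') : Matrix (Fin 2) (Fin 2) _) := by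
      rw [hLmul, hcm]
    have e2 := htmul g g'
    ext i j
    fin_cases i <;> fin_cases j <;>
      simp [M, Matrix.mul_apply, Fin.sum_univ_three, Fin.sum_univ_two, e1, e2, Matrix.mulVec, dotProduct,
        add_comm, add_left_comm]
  let Ψ : G →* SpecialLinearGroup (Fin 3) (GaloisField 2 2) :=
    MonoidHom.mk' (fun g => ⟨M g, hMdet g⟩) fun g g' => Subtype.ext (hMmul g g')
  have hΨinj : Function.Injective Ψ := by
    rw [injective_iff_map_eq_one]
    intro g hg
    have hMg : M g = 1 := congrArg Subtype.val hg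
    have hL1 : L (π g) = 1 := by
      refine Subtype.ext (Matrix.ext fun i j => ?_)
      fin_cases i <;> fin_cases j
      · simpa [M] using congrFun (congrFun hMg 0) 0
      · simpa [M] using congrFun (congrFun hMg 0) 1
      · simpa [M] using congrFun (congrFun hMg 1) 0
      · simpa [M] using congrFun (congrFun hMg 1) 1
    have ht0 : t g = 0 := by
      funext i
      fin_cases i
      · simpa [M] using congrFun (congrFun hMg 0) 2
      · simpa [M] using congrFun (congrFun hMg 1) 2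
    have hgH : g = τ g := by
      have := ht' g
      rw [ht0, hΦ0, Subgroup.coe_one, eq_comm, mul_inv_eq_one] at this
      exact this
    -- the action of `A₅` is faithful
    let K : Subgroup (alternatingGroup (Fin 5)) := ρ.ker
    have hK : π g ∈ K := by
      refine MonoidHom.mem_ker.mpr (MulEquiv.ext fun v => ?_)
      obtain ⟨p, rfl⟩ := hΦsurj v
      rw [hL, hL1, hc1', one_mulVec, MulAut.one_apply]
    haveI : IsSimpleGroup (alternatingGroup (Fin 5)) := alternatingGroup.isSimpleGroup_five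
    rcases (inferInstance : K.Normal).eq_bot_or_eq_top with e' | e'
    · rw [e', Subgroup.mem_bot] at hK
      rw [hgH]
      show ((eH.symm (π g) : H) : G) = 1
      rw [hK, map_one]
      rfl
    · exfalso
      have : ρ X = 1 := MonoidHom.mem_ker.mp (show X ∈ K by rw [e']; exact Subgroup.mem_top X)
      exact hXne (by rw [this]; rfl)
  set S3 := {M : Matrix.SpecialLinearGroup (Fin 3) (GaloisField 2 2) |
          (M : Matrix (Fin 3) (Fin 3) (GaloisField 2 2)) 2 0 = 0 ∧ (M : Matrix (Fin 3) (Fin 3) (GaloisField 2 2)) 2 1 = 0 ∧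
            (M : Matrix (Fin 3) (Fin 3) (GaloisField 2 2)) 2 2 = 1} with hS3
  have hrange : Set.range Ψ ⊆ S3 := by
    rintro _ ⟨g, rfl⟩
    exact ⟨show M g 2 0 = 0 by simp [M], show M g 2 1 = 0 by simp [M], show M g 2 2 = 1 by simp [M]⟩
  have hVcard : Nat.card V = 16 := by
    rw [← Nat.card_eq_of_bijective Φ ⟨hΦinj, hΦsurj⟩, Nat.card_eq_fintype_card, Fintype.card_fun, hcardF, Fintype.card_fin]
    norm_num
  have hGcard : Nat.card G = 960 := by
    rw [← V.index_mul_card, hVcard, Subgroup.index_eq_card, Nat.card_congr e.toEquiv, hA60]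
  have hS3card : S3.ncard ≤ 960 := by
    let fS : S3 → SpecialLinearGroup (Fin 2) (GaloisField 2 2) × (Fin 2 → GaloisField 2 2) := fun m =>
      (⟨!![(m.1 : Matrix (Fin 3) (Fin 3) _) 0 0, (m.1 : Matrix (Fin 3) (Fin 3) _) 0 1;
          (m.1 : Matrix (Fin 3) (Fin 3) _) 1 0, (m.1 : Matrix (Fin 3) (Fin 3) _) 1 1], by
        have hd := m.1.det_coe
        obtain ⟨h20, h21, h22⟩ := m.2
        rw [det_fin_three, h20, h21, h22] at hd
        rw [det_fin_two_of]
        linear_combination hd⟩,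
       ![(m.1 : Matrix (Fin 3) (Fin 3) _) 0 2, (m.1 : Matrix (Fin 3) (Fin 3) _) 1 2])
    have hinj : Function.Injective fS := by
      intro a b hab
      have h1 := congrArg (fun z => (z.1 : Matrix (Fin 2) (Fin 2) (GaloisField 2 2))) hab
      have h2 := congrArg Prod.snd hab
      obtain ⟨a20, a21, a22⟩ := a.2
      obtain ⟨b20, b21, b22⟩ := b.2
      refine Subtype.ext (Subtype.ext (Matrix.ext fun i j => ?_))
      fin_cases i <;> fin_cases j
      · simpa [fS] using congrFun (congrFun h1 0) 0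
      · simpa [fS] using congrFun (congrFun h1 0) 1
      · simpa [fS] using congrFun h2 0
      · simpa [fS] using congrFun (congrFun h1 1) 0
      · simpa [fS] using congrFun (congrFun h1 1) 1
      · simpa [fS] using congrFun h2 1
      · exact a20.trans b20.symm
      · exact a21.trans b21.symm
      · exact a22.trans b22.symm
    rw [← Nat.card_coe_set_eq]
    refine (Nat.card_le_card_of_injective fS hinj).trans ?_
    rw [Nat.card_prod, CfsgLib.SLCard.card_SL_two, hcardF, Nat.card_eq_fintype_card, Fintype.card_fun, hcardF,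
      Fintype.card_fin]
    norm_num
  have heq : Set.range Ψ = S3 := by
    refine Set.eq_of_subset_of_ncard_le hrange ?_ (Set.toFinite _)
    rw [Set.ncard_range_of_injective hΨinj, hGcard]
    exact hS3card
  refine ⟨GaloisField 2 2, inferInstance, inferInstance, hcardF, ⟨?_⟩⟩
  refine (MonoidHom.ofInjective hΨinj).trans (MulEquiv.subgroupCongr ?_)
  show Ψ.range = Subgroup.closure S3
  rw [← heq, ← MonoidHom.coe_range, Subgroup.closure_eq]

end CfsgLib.SpecFive
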