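/-
Facts on elements of order four in the alternating group of degree six.
-/
import Mathlib

set_option autoImplicit false

namespace CfsgLib.SpecFive.AltSix

/-- An element of order four. -/
def four : alternatingGroup (Fin 6) :=
  ⟨Equiv.swap 0 1 * Equiv.swap 1 2 * Equiv.swap 2 3 * Equiv.swap 4 5, by rw [Equiv.Perm.mem_alternatingGroup]; decide⟩

theorem four_pow : four ^ 4 = 1 ∧ four ^ 2 ≠ 1 := by decide +kernel

theorem card_four : (Finset.univ.filter fun x : alternatingGroup (Fin 6) => x ^ 4 = 1 ∧ x ^ 2 ≠ 1).card = 90 := by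
  decide +kernel

theorem comm_four : ∀ x : alternatingGroup (Fin 6), x * four = four * x →
    x = 1 ∨ x = four ∨ x = four ^ 2 ∨ x = four ^ 3 := by
  decide +kernel

theorem facts {T : Type*} [Group T] [Finite T] (φ : T ≃* alternatingGroup (Fin 6)) :
    ∃ r : T, orderOf r = 4 ∧ Nat.card {x : T // orderOf x = 4} = 90 ∧
      ∀ x : T, x * r = r * x → x = 1 ∨ x = r ∨ x = r ^ 2 ∨ x = r ^ 3 := by
  classical
  haveI := Fintype.ofFinite T
  have hiff : ∀ {M : Type _} [Group M] (x : M), orderOf x = 4 ↔ x ^ 4 = 1 ∧ x ^ 2 ≠ 1 := by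
    intro M _ x
    constructor
    · intro h
      exact ⟨by rw [← h, pow_orderOf_eq_one], fun e => by
        have := orderOf_le_of_pow_eq_one (by norm_num) e; omega⟩
    · rintro ⟨h1, h2⟩
      obtain ⟨k, hk, hk'⟩ := (Nat.dvd_prime_pow Nat.prime_two).mp
        (show orderOf x ∣ 2 ^ 2 from orderOf_dvd_of_pow_eq_one h1)
      have : k = 2 := by
        by_contra hk2
        exact h2 (orderOf_dvd_iff_pow_eq_one.mp (by rw [hk']; exact (pow_dvd_pow 2 (by omega : k ≤ 1))))
      rw [hk', this]; norm_num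
  refine ⟨φ.symm four, ?_, ?_, fun x hx => ?_⟩
  · rw [hiff, ← map_pow, ← map_pow, four_pow.1, map_one]
    exact ⟨rfl, fun e => four_pow.2 (φ.symm.injective (by rw [e, map_one]))⟩
  · rw [Nat.card_congr (φ.toEquiv.subtypeEquiv (q := fun x => x ^ 4 = 1 ∧ x ^ 2 ≠ 1) fun x => ?_),
      Nat.card_eq_fintype_card, Fintype.card_subtype, card_four]
    rw [hiff]
    show _ ↔ φ x ^ 4 = 1 ∧ φ x ^ 2 ≠ 1
    rw [← map_pow, ← map_pow, map_eq_one_iff _ φ.injective, Ne, Ne, map_eq_one_iff _ φ.injective]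
  · have h := congrArg φ hx
    simp only [map_mul, MulEquiv.apply_symm_apply] at h
    rcases comm_four _ h with e | e | e | e
    · exact Or.inl (φ.injective (by rw [e, map_one]))
    · exact Or.inr (Or.inl (φ.injective (by rw [e, MulEquiv.apply_symm_apply])))
    · exact Or.inr (Or.inr (Or.inl (φ.injective (by rw [e, map_pow, MulEquiv.apply_symm_apply]))))
    · exact Or.inr (Or.inr (Or.inr (φ.injective (by rw [e, map_pow, MulEquiv.apply_symm_apply]))))

end CfsgLib.SpecFive.AltSix
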