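/-
Arithmetic for groups with element orders at most five.
-/
import Mathlib

set_option autoImplicit false

namespace CfsgLib.SpecFive.Arith

theorem dvd_three {b i : ℕ} (h : 3 ^ b ∣ 4 ^ i - 1) (hi : i ≠ 0) : 3 ^ (b - 1) ∣ i := by
  haveI : Fact (Nat.Prime 3) := ⟨Nat.prime_three⟩
  have hne : 4 ^ i - 1 ^ i ≠ 0 := by
    rw [one_pow]
    have : 1 < 4 ^ i := Nat.one_lt_pow hi (by norm_num)
    omega
  have h1 := padicValNat.pow_sub_pow (p := 3) (by decide) (x := 4) (y := 1) (by norm_num) (by norm_num)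
    (by norm_num) hi
  have h3 : padicValNat 3 (4 - 1) = 1 := by norm_num
  rw [one_pow] at h1 hne
  have h2 : b ≤ padicValNat 3 (4 ^ i - 1) := (padicValNat_dvd_iff_le hne).mp h
  rw [h1, h3] at h2
  exact (padicValNat_dvd_iff_le hi).mpr (by omega)

theorem dvd_five {c i : ℕ} (hc : 1 ≤ c) (h : 5 ^ c ∣ 4 ^ i - 1) (hi : i ≠ 0) : 2 * 5 ^ (c - 1) ∣ i := by
  haveI : Fact (Nat.Prime 5) := ⟨Nat.prime_five⟩
  have heven : Even i := by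
    rcases Nat.even_or_odd i with he | ho
    · exact he
    · exfalso
      obtain ⟨j, rfl⟩ := ho
      have h5 : 5 ∣ 4 ^ (2 * j + 1) - 1 := (dvd_pow_self 5 (by omega : c ≠ 0)).trans h
      have hm : 4 ^ (2 * j + 1) % 5 = 4 := by
        rw [pow_succ, pow_mul, Nat.mul_mod, Nat.pow_mod]
        norm_num
      have hpos : 1 ≤ 4 ^ (2 * j + 1) := Nat.one_le_pow _ _ (by norm_num)
      omega
  obtain ⟨j, rfl⟩ := heven
  rw [← two_mul, pow_mul] at h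
  have hj : j ≠ 0 := by omega
  have hne : (4 ^ 2) ^ j - 1 ≠ 0 := by
    have : 1 < (4 ^ 2) ^ j := Nat.one_lt_pow hj (by norm_num)
    omega
  have h1 := padicValNat.pow_sub_pow (p := 5) (by decide) (x := 4 ^ 2) (y := 1) (by norm_num) (by norm_num)
    (by norm_num) hj
  have h3 : padicValNat 5 (4 ^ 2 - 1) = 1 := by
    rw [show (4 ^ 2 - 1 : ℕ) = 5 * 3 by norm_num, padicValNat.mul (by norm_num) (by norm_num),
      padicValNat.self (by norm_num)]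
    rw [padicValNat.eq_zero_of_not_dvd (by norm_num : ¬ 5 ∣ 3)]
  rw [one_pow] at h1
  have h2 : c ≤ padicValNat 5 ((4 ^ 2) ^ j - 1) := (padicValNat_dvd_iff_le hne).mp h
  rw [h1, h3] at h2
  rw [← two_mul]
  exact Nat.mul_dvd_mul_left 2 ((padicValNat_dvd_iff_le hj).mpr (by omega))

/-- The sign is removed by squaring. -/
theorem four_pow_sub {q i : ℕ} {n : ℤ} (hn : n = 1 ∨ n = -1) (h : (q : ℤ) ∣ (2 : ℤ) ^ i - n) :
    q ∣ 4 ^ i - 1 := by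
  have h2 : (q : ℤ) ∣ (4 : ℤ) ^ i - 1 := by
    have e : (4 : ℤ) ^ i - 1 = ((2 : ℤ) ^ i - n) * ((2 : ℤ) ^ i + n) := by
      rw [show (4 : ℤ) ^ i = (2 : ℤ) ^ i * (2 : ℤ) ^ i by rw [← mul_pow]; norm_num]
      rcases hn with rfl | rfl <;> ring
    rw [e]; exact h.mul_right _
  have hpos : 1 ≤ 4 ^ i := Nat.one_le_pow _ _ (by norm_num)
  exact Int.natCast_dvd_natCast.mp (by push_cast [Nat.cast_sub hpos]; exact h2)

theorem exponent_lower {p b i m : ℕ} (hp : ¬ 2 ∣ p) (hi : 2 ≤ i) {n : ℤ} (hn0 : n ≠ 0) (hn : n ^ 2 ≤ 8)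
    (h : ((p ^ b : ℕ) : ℤ) ∣ (2 : ℤ) ^ i - n)
    (hstep : ∀ j : ℕ, j ≠ 0 → p ^ b ∣ 4 ^ j - 1 → m ∣ j) : m ≤ i := by
  have hn' : n = 1 ∨ n = -1 ∨ n = 2 ∨ n = -2 := by
    have h1 : -3 < n := by nlinarith
    have h2 : n < 3 := by nlinarith
    omega
  rcases hn' with rfl | rfl | rfl | rfl
  · exact Nat.le_of_dvd (by omega) (hstep i (by omega) (four_pow_sub (Or.inl rfl) h))
  · exact Nat.le_of_dvd (by omega) (hstep i (by omega) (four_pow_sub (Or.inr rfl) h))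
  all_goals
    have hco : IsCoprime ((p ^ b : ℕ) : ℤ) 2 := by
      rw [show (2 : ℤ) = ((2 : ℕ) : ℤ) by rfl, Int.isCoprime_iff_gcd_eq_one, Int.gcd_natCast_natCast]
      exact ((Nat.prime_two.coprime_iff_not_dvd.mpr hp).symm.pow_left b)
    obtain ⟨j, rfl⟩ : ∃ j, i = j + 1 := ⟨i - 1, by omega⟩
    rw [pow_succ] at h
  · have h' : ((p ^ b : ℕ) : ℤ) ∣ (2 : ℤ) ^ j - 1 := hco.dvd_of_dvd_mul_right (by rw [show ((2 : ℤ) ^ j - 1) * 2 = 2 ^ j * 2 - 2 by ring]; exact h)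
    exact (Nat.le_of_dvd (by omega) (hstep j (by omega) (four_pow_sub (Or.inl rfl) h'))).trans (by omega)
  · have h' : ((p ^ b : ℕ) : ℤ) ∣ (2 : ℤ) ^ j - (-1) := hco.dvd_of_dvd_mul_right (by rw [show ((2 : ℤ) ^ j - (-1)) * 2 = 2 ^ j * 2 - (-2) by ring]; exact h)
    exact (Nat.le_of_dvd (by omega) (hstep j (by omega) (four_pow_sub (Or.inr rfl) h'))).trans (by omega)

theorem lower_three {b i : ℕ} (hi : 2 ≤ i) {n : ℤ} (hn0 : n ≠ 0) (hn : n ^ 2 ≤ 8)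
    (h : ((3 ^ b : ℕ) : ℤ) ∣ (2 : ℤ) ^ i - n) : 3 ^ (b - 1) ≤ i :=
  exponent_lower (by norm_num) hi hn0 hn h fun _ hj hd => dvd_three hd hj

theorem lower_five {c i : ℕ} (hc : 1 ≤ c) (hi : 2 ≤ i) {n : ℤ} (hn0 : n ≠ 0) (hn : n ^ 2 ≤ 8)
    (h : ((5 ^ c : ℕ) : ℤ) ∣ (2 : ℤ) ^ i - n) : 2 * 5 ^ (c - 1) ≤ i :=
  exponent_lower (by norm_num) hi hn0 hn h fun _ hj hd => dvd_five hc hd hj

theorem big_three : ∀ k : ℕ, 10 * 3 ^ (k + 3) < 2 ^ 3 ^ (k + 2) := by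
  intro k
  induction k with
  | zero => norm_num
  | succ k ih =>
    have h1 : 3 ^ (k + 2) + 2 ≤ 3 ^ (k + 1 + 2) := by
      rw [show 3 ^ (k + 1 + 2) = 3 ^ (k + 2) * 3 by ring]
      have : 1 ≤ 3 ^ (k + 2) := Nat.one_le_pow _ _ (by norm_num)
      omega
    calc 10 * 3 ^ (k + 1 + 3) = 3 * (10 * 3 ^ (k + 3)) := by ring
      _ < 4 * 2 ^ 3 ^ (k + 2) := by omega
      _ = 2 ^ (3 ^ (k + 2) + 2) := by rw [pow_add]; ring
      _ ≤ _ := Nat.pow_le_pow_right (by norm_num) h1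

theorem big_five : ∀ k : ℕ, 10 * 5 ^ (k + 3) * 9 < 2 ^ (2 * 5 ^ (k + 2)) := by
  intro k
  induction k with
  | zero => norm_num
  | succ k ih =>
    have h1 : 2 * 5 ^ (k + 2) + 3 ≤ 2 * 5 ^ (k + 1 + 2) := by
      rw [show 5 ^ (k + 1 + 2) = 5 ^ (k + 2) * 5 by ring]
      have : 1 ≤ 5 ^ (k + 2) := Nat.one_le_pow _ _ (by norm_num)
      omega
    calc 10 * 5 ^ (k + 1 + 3) * 9 = 5 * (10 * 5 ^ (k + 3) * 9) := by ring
      _ < 8 * 2 ^ (2 * 5 ^ (k + 2)) := by omega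
      _ = 2 ^ (2 * 5 ^ (k + 2) + 3) := by rw [pow_add]; ring
      _ ≤ _ := Nat.pow_le_pow_right (by norm_num) h1

/-- The two bounds on the two-part collapse to a numerical one. -/
theorem two_bound {A P R e : ℕ} (he : e ≤ 8) (hP : 5 ≤ P) (h : (P - 1) * A ≤ e * (P * R)) :
    A ≤ 10 * R := by
  obtain ⟨P', rfl⟩ : ∃ P', P = P' + 5 := ⟨P - 5, by omega⟩
  rw [show P' + 5 - 1 = P' + 4 by omega] at h
  nlinarith [Nat.mul_le_mul_right ((P' + 5) * R) he]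

theorem two_bound' {A P R e : ℕ} (he : e ≤ 8) (hP : 9 ≤ P) (h : (P - 1) * A ≤ e * (P * R)) :
    A ≤ 9 * R := by
  obtain ⟨P', rfl⟩ : ∃ P', P = P' + 9 := ⟨P - 9, by omega⟩
  rw [show P' + 9 - 1 = P' + 8 by omega] at h
  nlinarith [Nat.mul_le_mul_right ((P' + 9) * R) he]

/-- The final contradiction for `b ≥ 3`. -/
theorem final_three {a b c i : ℕ} (hb : 3 ≤ b) (hia : i ≤ a) (h3 : 3 ^ (b - 1) ≤ i)
    (h5 : c ≤ 2 ∨ 2 * 5 ^ (c - 1) ≤ i) (hA : 2 ^ a ≤ 9 * 5 ^ c ∨ 2 ^ a ≤ 10 * 3 ^ b) : False := by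
  have hpow : ∀ j, j ≤ i → 2 ^ j ≤ 2 ^ a := fun j hj => Nat.pow_le_pow_right (by norm_num) (hj.trans hia)
  rcases hA with hA | hA
  · rcases le_or_gt c 2 with hc | hc
    · have h9 : 3 ^ 2 ≤ 3 ^ (b - 1) := Nat.pow_le_pow_right (by norm_num) (by omega)
      have := hpow 9 (by omega)
      have : 5 ^ c ≤ 5 ^ 2 := Nat.pow_le_pow_right (by norm_num) hc
      norm_num at *
      omega
    · obtain ⟨k, rfl⟩ : ∃ k, c = k + 3 := ⟨c - 3, by omega⟩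
      have := hpow _ (h5.resolve_left (by omega))
      have hb5 := big_five k
      rw [show k + 3 - 1 = k + 2 by omega] at this
      omega
  · obtain ⟨k, rfl⟩ : ∃ k, b = k + 3 := ⟨b - 3, by omega⟩
    have := hpow _ h3
    have := big_three k
    rw [show k + 3 - 1 = k + 2 by omega] at *
    omega

/-- No large Sylow five-subgroup when `|P| = 9`. -/
theorem five_small {a c i : ℕ} (hia : i ≤ a) (h5 : 2 * 5 ^ (c - 1) ≤ i)
    (hA : 2 ^ a ≤ 9 * 5 ^ c ∨ 2 ^ a ≤ 90) : c ≤ 2 := by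
  by_contra hc
  obtain ⟨k, rfl⟩ : ∃ k, c = k + 3 := ⟨c - 3, by omega⟩
  have : 2 ^ (2 * 5 ^ (k + 3 - 1)) ≤ 2 ^ a := Nat.pow_le_pow_right (by norm_num) (h5.trans hia)
  have := big_five k
  have : 1 ≤ 5 ^ (k + 3) := Nat.one_le_pow _ _ (by norm_num)
  rw [show k + 3 - 1 = k + 2 by omega] at *
  omega

theorem nine_table : ∀ a : Fin 8, ∀ c : Fin 3, ∀ e : Fin 9,
    (decide (3 ≤ (a : ℕ)) && decide (1 ≤ (c : ℕ)) && decide (2 ≤ (e : ℕ)) && ((5 ^ (c : ℕ) - 1) % (e : ℕ) == 0) &&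
      (2 ^ ((a : ℕ) - 3) * 5 ^ (c : ℕ) % 9 == 1) && (2 ^ (a : ℕ) * 9 % (e : ℕ) == 0) &&
      (2 ^ (a : ℕ) * 9 / (e : ℕ) % 5 ^ (c : ℕ) == 1)) = true →
    ((a : ℕ) == 4 && (c : ℕ) == 1 && (e : ℕ) == 4) = true := by decide

/-- The orders when `|P| = 9` and the automiser is the quaternion group. -/
theorem nine_orders {a c e' : ℕ} (ha : a ≤ 7) (ha3 : 3 ≤ a) (hc : c ≤ 2) (hc1 : 1 ≤ c) (he : e' ≤ 8)
    (he2 : 2 ≤ e') (hdiv : e' ∣ 5 ^ c - 1) (h9 : 2 ^ (a - 3) * 5 ^ c % 9 = 1)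
    (h5 : ∃ n, n * e' = 2 ^ a * 9 ∧ n % 5 ^ c = 1) : a = 4 ∧ c = 1 ∧ e' = 4 := by
  obtain ⟨n, hn, hn5⟩ := h5
  have hn' : n = 2 ^ a * 9 / e' := by rw [← hn, Nat.mul_div_cancel _ (by omega)]
  subst hn'
  have h := nine_table ⟨a, by omega⟩ ⟨c, by omega⟩ ⟨e', by omega⟩
  simp only [Bool.and_eq_true, decide_eq_true_eq, beq_iff_eq, and_assoc] at h
  exact h ⟨ha3, hc1, he2, Nat.dvd_iff_mod_eq_zero.mp hdiv, h9,
    Nat.dvd_iff_mod_eq_zero.mp ⟨_, (hn.symm.trans (mul_comm _ _))⟩, hn5⟩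

end CfsgLib.SpecFive.Arith
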