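/-
The Sylow subgroups for the primes three and five of a group with element orders at most five.
-/
import Cfsg.Agent.Lib.SpecFive.Basic
import Cfsg.Agent.Lib.Frobenius.Kernel

set_option autoImplicit false
set_option linter.unusedSectionVars false

namespace CfsgLib.SpecFive

universe u

variable {G : Type u} [Group G] [Finite G]

/-- A group of exponent dividing four with at most one involution has order at most eight. -/
theorem card_le_eight {H : Type u} [Group H] [Finite H] (h4 : ∀ g : H, g ^ 4 = 1)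
    (huniq : ∀ u v : H, orderOf u = 2 → orderOf v = 2 → u = v) : Nat.card H ≤ 8 := by
  classical
  rcases subsingleton_or_nontrivial H with hs | hs
  · rw [Nat.card_of_subsingleton (1 : H)]; omega
  obtain ⟨a, ha⟩ := exists_ne (1 : H)
  obtain ⟨j, hj⟩ : ∃ j : H, orderOf j = 2 := by
    by_cases h2 : a ^ 2 = 1
    · exact ⟨a, orderOf_eq_prime h2 ha⟩
    · exact ⟨a ^ 2, orderOf_eq_prime (by rw [← pow_mul]; exact h4 a) h2⟩
  have hsq : ∀ g : H, g ^ 2 = 1 → g = 1 ∨ g = j := fun g hg => by
    by_cases h1 : g = 1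
    · exact Or.inl h1
    · exact Or.inr (huniq _ _ (orderOf_eq_prime hg h1) hj)
  have hsq4 : ∀ g : H, g ^ 2 = 1 ∨ g ^ 2 = j := fun g => hsq _ (by rw [← pow_mul]; exact h4 g)
  have hj2 : j ^ 2 = 1 := by rw [← hj, pow_orderOf_eq_one]
  have hcomm : ∀ x w : H, x ^ 2 = j → x * w = w * x → w ∈ ({1, j, x⁻¹, x⁻¹ * j} : Finset H) := by
    intro x w hx hc
    rcases hsq4 w with hw | hw
    · rcases hsq w hw with e | e <;> simp [e]
    · have : (x * w) ^ 2 = 1 := by rw [(show Commute x w from hc).mul_pow, hx, hw, ← sq, hj2]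
      rcases hsq _ this with e | e
      · simp [eq_inv_of_mul_eq_one_right e]
      · simp [show w = x⁻¹ * j by rw [← e, inv_mul_cancel_left]]
  by_cases hx : ∃ x : H, x ^ 2 = j
  · obtain ⟨x, hx⟩ := hx
    haveI := Fintype.ofFinite H
    set C := Finset.univ.filter fun w : H => x * w = w * x with hC
    have hC4 : C.card ≤ 4 := le_trans (Finset.card_le_card fun w hw => hcomm x w hx (Finset.mem_filter.mp hw).2)
      Finset.card_le_four
    have hout : ∀ y : H, x * y ≠ y * x → y * x * y⁻¹ = x⁻¹ := by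
      intro y hy
      have hxj : x⁻¹ * j = x := by rw [← hx, sq, inv_mul_cancel_left]
      have hy2 : y ^ 2 = j := by
        rcases hsq4 y with e | e
        · rcases hsq y e with e1 | e1
          · exact absurd (by simp [e1]) hy
          · exact absurd (by rw [e1, ← hx, sq, mul_assoc]) hy
        · exact e
      have hxy : (x * y) ^ 2 = j := by
        rcases hsq4 (x * y) with e | e
        · rcases hsq _ e with e1 | e1
          · exact absurd (by rw [eq_inv_of_mul_eq_one_right e1, mul_inv_cancel, inv_mul_cancel]) hy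
          · exact absurd (by
              rw [show y = x⁻¹ * j by rw [← e1, inv_mul_cancel_left], hxj]) hy
        · exact e
      have h1 : y * x * y = x := by
        calc y * x * y = x⁻¹ * (x * y) ^ 2 := by rw [sq]; group
          _ = x := by rw [hxy, hxj]
      calc y * x * y⁻¹ = (y * x * y) * (y ^ 2)⁻¹ := by rw [sq]; group
        _ = x⁻¹ := by rw [h1, hy2, ← hx, sq]; group
    by_cases hy : ∃ y : H, x * y ≠ y * x
    · obtain ⟨y, hy⟩ := hy
      have : (Finset.univ : Finset H) ⊆ C ∪ C.image (fun w => y * w) := by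
        intro g _
        by_cases hg : x * g = g * x
        · exact Finset.mem_union_left _ (Finset.mem_filter.mpr ⟨Finset.mem_univ _, hg⟩)
        · refine Finset.mem_union_right _ (Finset.mem_image.mpr ⟨y⁻¹ * g, Finset.mem_filter.mpr
            ⟨Finset.mem_univ _, ?_⟩, mul_inv_cancel_left y g⟩)
          have h1 := hout y hy
          have h2 := hout g hg
          rw [← h1] at h2
          have h3 : y⁻¹ * (g * x * g⁻¹) * y = x := by rw [h2]; group
          calc x * (y⁻¹ * g) = (y⁻¹ * (g * x * g⁻¹) * y) * (y⁻¹ * g) := by rw [h3]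
            _ = y⁻¹ * g * x := by group
      have h8 := (Finset.card_le_card this).trans (Finset.card_union_le _ _)
      rw [Finset.card_univ, ← Nat.card_eq_fintype_card] at h8
      have := Finset.card_image_le (s := C) (f := fun w => y * w)
      omega
    · push Not at hy
      have : C = Finset.univ := Finset.filter_true_of_mem fun w _ => hy w
      rw [this, Finset.card_univ, ← Nat.card_eq_fintype_card] at hC4
      omega
  · push Not at hx
    haveI := Fintype.ofFinite H
    have : (Finset.univ : Finset H) ⊆ {1, j} := fun g _ => by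
      rcases hsq4 g with e | e
      · rcases hsq g e with e | e <;> simp [e]
      · exact absurd e (hx g)
    have h2 := (Finset.card_le_card this).trans Finset.card_le_two
    rw [Finset.card_univ, ← Nat.card_eq_fintype_card] at h2
    omega

variable {p : ℕ} [Fact p.Prime] (h : Spec5 G) (hp : p = 3 ∨ p = 5)
include h hp

/-- **Distinct Sylow subgroups meet trivially.** -/
theorem sylow_inf_eq_bot (P Q : Sylow p G) (hne : P ≠ Q) : (P : Subgroup G) ⊓ Q = ⊥ := by
  by_contra hD
  induction hn : Nat.card G - Nat.card ↥((P : Subgroup G) ⊓ Q) using Nat.strong_induction_on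
    generalizing P Q with
  | _ n ih =>
  set D := (P : Subgroup G) ⊓ Q with hDdef
  set H := Subgroup.normalizer (D : Set G) with hH
  have hDH : D ≤ H := Subgroup.le_normalizer
  haveI : (D.subgroupOf H).Normal := Subgroup.normal_in_normalizer
  have hD' : IsPGroup p (D.subgroupOf H) :=
    (P.isPGroup'.to_le inf_le_left).of_equiv (Subgroup.subgroupOfEquivOfLe hDH).symm
  have hD1 : D.subgroupOf H ≠ ⊥ := fun e => hD (by
    rw [Subgroup.subgroupOf_eq_bot] at e; exact e.eq_bot_of_le hDH)
  have hnorm := fun S : Sylow p H => ((h.subgroup H).sylow_of_normal hp hD' hD1 S).1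
  obtain ⟨S₀⟩ : Nonempty (Sylow p H) := inferInstance
  haveI := hnorm S₀
  haveI := Sylow.unique_of_normal S₀ this
  obtain ⟨R, hR⟩ := ((S₀.isPGroup').map H.subtype).exists_le_sylow
  have key : ∀ A : Sylow p G, D ≤ (A : Subgroup G) → ((A : Subgroup G) ≠ D) →
      ∃ x ∈ (A : Subgroup G) ⊓ R, x ∉ D := by
    intro A hDA hAD
    haveI := A.isPGroup'.isNilpotent
    have hlt : D.subgroupOf (A : Subgroup G) < ⊤ := lt_top_iff_ne_top.mpr fun e =>
      hAD (le_antisymm (Subgroup.subgroupOf_eq_top.mp e) hDA)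
    obtain ⟨x, hx, hxD⟩ := SetLike.exists_of_lt (normalizerCondition_of_isNilpotent _ hlt)
    have hxH : (x : G) ∈ H := by
      rw [hH, Subgroup.mem_normalizer_iff]
      intro d
      have hx' := Subgroup.mem_normalizer_iff.mp hx
      constructor
      · intro hd
        exact Subgroup.mem_subgroupOf.mp ((hx' ⟨d, hDA hd⟩).mp hd)
      · intro hd
        have hdA : d ∈ (A : Subgroup G) := by
          have := mul_mem (mul_mem (inv_mem x.2) (hDA hd)) x.2
          simpa [mul_assoc] using this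
        exact Subgroup.mem_subgroupOf.mp ((hx' ⟨d, hdA⟩).mpr hd)
    refine ⟨x, ⟨x.2, ?_⟩, hxD⟩
    obtain ⟨S, hS⟩ := ((A.isPGroup'.to_le inf_le_left).of_equiv
      (Subgroup.subgroupOfEquivOfLe (H := (A : Subgroup G) ⊓ H) inf_le_right).symm).exists_le_sylow
    rw [Subsingleton.elim S S₀] at hS
    exact hR ⟨⟨x, hxH⟩, hS (Subgroup.mem_subgroupOf.mpr ⟨x.2, hxH⟩), rfl⟩
  have hPD : (P : Subgroup G) ≠ D := fun e => hne (Sylow.ext (P.3 Q.isPGroup' (e.le.trans inf_le_right))).symm
  have hQD : (Q : Subgroup G) ≠ D := fun e => hne (Sylow.ext (Q.3 P.isPGroup' (e.le.trans inf_le_left)))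
  have big : ∀ A : Sylow p G, D ≤ (A : Subgroup G) → (A : Subgroup G) ≠ D → A = R := by
    intro A hDA hAD
    by_contra hAR
    obtain ⟨x, hx, hxD⟩ := key A hDA hAD
    have hDR : D ≤ (R : Subgroup G) := by
      intro d hd
      obtain ⟨S, hS⟩ := hD'.exists_le_sylow
      rw [Subsingleton.elim S S₀] at hS
      exact hR ⟨⟨d, hDH hd⟩, hS (Subgroup.mem_subgroupOf.mpr hd), rfl⟩
    have hlt : D < (A : Subgroup G) ⊓ R :=
      lt_of_le_of_ne (le_inf hDA hDR) fun e => hxD (e ▸ hx)
    have hcard : Nat.card D < Nat.card ↥((A : Subgroup G) ⊓ R) := by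
      by_contra hle
      exact hlt.ne (Subgroup.eq_of_le_of_card_ge hlt.le (not_lt.mp hle))
    refine ih _ ?_ A R hAR (fun e => ?_) rfl
    · have := Subgroup.card_le_card_group ((A : Subgroup G) ⊓ R)
      omega
    · rw [e, Subgroup.card_bot] at hcard
      have := Nat.card_pos (α := D)
      omega
  exact hne ((big P inf_le_left hPD).trans (big Q inf_le_right hQD).symm)

/-- An element carrying a nontrivial element of a Sylow subgroup into it normalises it. -/
theorem mem_normalizer_of_conj_mem (P : Sylow p G) {g k : G} (hk : k ∈ (P : Subgroup G)) (hk1 : k ≠ 1)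
    (hg : g * k * g⁻¹ ∈ (P : Subgroup G)) : g ∈ Subgroup.normalizer ((P : Subgroup G) : Set G) := by
  by_contra hgN
  have hne : g • P ≠ P := fun e => hgN (Sylow.smul_eq_iff_mem_normalizer.mp e)
  have := sylow_inf_eq_bot h hp _ _ hne
  have hmem : g * k * g⁻¹ ∈ ((g • P : Sylow p G) : Subgroup G) := by
    rw [Sylow.smul_def]; exact Subgroup.smul_mem_pointwise_smul k (MulAut.conj g) _ hk
  have h1 : g * k * g⁻¹ ∈ (⊥ : Subgroup G) := this ▸ Subgroup.mem_inf.mpr ⟨hmem, hg⟩
  rw [Subgroup.mem_bot, conj_eq_one_iff] at h1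
  exact hk1 h1

theorem sylow_ti (P : Sylow p G) : ∀ g : G, g ∉ Subgroup.normalizer ((P : Subgroup G) : Set G) →
    ∀ k ∈ (P : Subgroup G), g * k * g⁻¹ ∈ (P : Subgroup G) → k = 1 := by
  intro g hg k hk hgk
  by_contra hk1
  exact hg (mem_normalizer_of_conj_mem h hp P hk hk1 hgk)

/-- The centraliser of a nontrivial element of a Sylow subgroup lies in it. -/
theorem sylow_centralizer_le (P : Sylow p G) : ∀ k ∈ (P : Subgroup G), k ≠ 1 →
    Subgroup.centralizer ({k} : Set G) ≤ (P : Subgroup G) := by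
  intro k hk hk1
  obtain ⟨Q, hQ⟩ := (h.isPGroup_centralizer (Fact.out : p.Prime)
    (orderOf_eq_prime (h.pgroup_pow_eq_one hp P.isPGroup' hk) hk1)).exists_le_sylow
  by_cases hPQ : P = Q
  · rw [hPQ]; exact hQ
  · exfalso
    have := sylow_inf_eq_bot h hp P Q hPQ
    have h1 : k ∈ (⊥ : Subgroup G) :=
      this ▸ Subgroup.mem_inf.mpr ⟨hk, hQ (Subgroup.mem_centralizer_singleton_iff.mpr rfl)⟩
    exact hk1 (Subgroup.mem_bot.mp h1)

/-- An involution normalising a Sylow subgroup inverts it. -/
theorem inverts_sylow (P : Sylow p G) {u : G} (hu : orderOf u = 2)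
    (huN : u ∈ Subgroup.normalizer ((P : Subgroup G) : Set G)) :
    ∀ x ∈ (P : Subgroup G), u * x * u⁻¹ = x⁻¹ := by
  have hp2 : p ≠ 2 := by omega
  refine CfsgLib.CharTwoEarly.inverts ?_ (mul_self_of_orderOf_two hu)
    (fun y hy => (Subgroup.mem_normalizer_iff.mp huN y).mp hy) (h.fpf_two hp2 P.isPGroup' hu)
  obtain ⟨n, hn⟩ := P.isPGroup'.exists_card_eq
  rw [hn]; exact ((Fact.out : p.Prime).odd_of_ne_two hp2).pow

/-- The structure of the normaliser of a nontrivial Sylow subgroup. -/
theorem sylow_normalizer (P : Sylow p G) (hP : (P : Subgroup G) ≠ ⊥) :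
    (((P : Subgroup G).relIndex (Subgroup.normalizer ((P : Subgroup G) : Set G))) ≤ 8 ∧
      ((P : Subgroup G).relIndex (Subgroup.normalizer ((P : Subgroup G) : Set G))) ∣ Nat.card P - 1) ∧
    (2 ∣ (P : Subgroup G).relIndex (Subgroup.normalizer ((P : Subgroup G) : Set G)) →
      (P : Subgroup G).relIndex (Subgroup.normalizer ((P : Subgroup G) : Set G)) ∣ 8 ∧
      ∀ u v, u ∈ Subgroup.normalizer ((P : Subgroup G) : Set G) → v ∈ Subgroup.normalizer ((P : Subgroup G) : Set G) →
        orderOf u = 2 → orderOf v = 2 → ∃ r ∈ (P : Subgroup G), r * u * r⁻¹ = v) ∧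
    (¬ 2 ∣ (P : Subgroup G).relIndex (Subgroup.normalizer ((P : Subgroup G) : Set G)) →
      (P : Subgroup G).relIndex (Subgroup.normalizer ((P : Subgroup G) : Set G)) ∣ 8 - p) := by
  classical
  have hpp : p.Prime := Fact.out
  have hp2 : p ≠ 2 := by omega
  set N := Subgroup.normalizer ((P : Subgroup G) : Set G) with hN
  set K := (P : Subgroup G).subgroupOf N with hK
  haveI hKn : K.Normal := Subgroup.normal_in_normalizer
  have hKcard : Nat.card K = Nat.card P := Nat.card_congr (Subgroup.subgroupOfEquivOfLe Subgroup.le_normalizer).toEquiv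
  have hKp : IsPGroup p K := P.isPGroup'.of_equiv (Subgroup.subgroupOfEquivOfLe Subgroup.le_normalizer).symm
  have hK1 : K ≠ ⊥ := fun e => hP (by
    rw [hK, Subgroup.subgroupOf_eq_bot] at e; exact e.eq_bot_of_le Subgroup.le_normalizer)
  have hKi : ¬ p ∣ K.index := by
    intro hd
    exact P.not_dvd_index (hd.trans (Subgroup.relIndex_dvd_index_of_le Subgroup.le_normalizer))
  set S := hKp.toSylow hKi with hS
  have hST : (S : Subgroup N) = K := IsPGroup.toSylow_coe _ _
  obtain ⟨-, heven, hodd⟩ := (h.subgroup N).sylow_of_normal hp hKp hK1 S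
  rw [hST] at heven hodd
  have hcop : Nat.Coprime (Nat.card K) K.index := by
    obtain ⟨n, hn⟩ := hKp.exists_card_eq
    rw [hn]; exact (hpp.coprime_iff_not_dvd.mpr hKi).pow_left n
  obtain ⟨A, hA⟩ := Subgroup.exists_right_complement'_of_coprime hcop
  have hAcard : Nat.card A = K.index := hA.symm.index_eq_card.symm
  have hfpf : ∀ a ∈ A, a ≠ 1 → K ⊓ Subgroup.centralizer {a} = ⊥ := by
    intro a ha ha1
    rw [Subgroup.eq_bot_iff_forall]
    rintro k ⟨hk, hka⟩
    by_contra hk1
    have : (a : G) ∈ (P : Subgroup G) := sylow_centralizer_le h hp P k hk (fun e => hk1 (Subtype.ext e))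
      (Subgroup.mem_centralizer_singleton_iff.mpr
        (congrArg Subtype.val (Subgroup.mem_centralizer_singleton_iff.mp hka).symm))
    exact ha1 (Subgroup.disjoint_def.mp hA.disjoint (Subgroup.mem_subgroupOf.mpr this) ha)
  have hdvd : K.index ∣ Nat.card P - 1 := by
    rw [← hAcard, ← hKcard]
    rcases eq_or_ne A ⊥ with hA1 | hA1
    · rw [hA1, Subgroup.card_bot]; exact one_dvd _
    · have := CfsgLib.Frob.index_mod_card (CfsgLib.Frob.frob_of_fpf hA hK1 hA1 hfpf)
      rwa [hA.index_eq_card] at this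
  show (K.index ≤ 8 ∧ K.index ∣ _) ∧ (2 ∣ K.index → K.index ∣ 8 ∧ _) ∧ (¬ 2 ∣ K.index → K.index ∣ _)
  have hA5 : Spec5 A := (h.subgroup N).subgroup A
  have hev : 2 ∣ K.index → K.index ∣ 8 := by
    intro h2
    obtain ⟨⟨n, hn⟩, huv⟩ := heven (h2.trans K.index_dvd_card)
    have hA8 : Nat.card A ≤ 8 := by
      refine card_le_eight (fun a => ?_) fun u v hu hv => ?_
      · obtain ⟨m, -, hm⟩ := (Nat.dvd_prime_pow Nat.prime_two).mp
          (show orderOf a ∣ 2 ^ n from hn ▸ hAcard ▸ orderOf_dvd_natCard a)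
        exact hA5.two_pow_four hm
      · have hu' := huv u v (by rwa [Subgroup.orderOf_coe]) (by rwa [Subgroup.orderOf_coe])
        have : ((u * v : A) : N) = 1 :=
          Subgroup.disjoint_def.mp hA.disjoint hu' (u * v : A).2
        have huu : u * u = 1 := mul_self_of_orderOf_two hu
        exact (mul_left_cancel ((show u * v = 1 from Subtype.ext this).trans huu.symm)).symm
    rw [hAcard, hn] at hA8
    rw [hn]
    exact Nat.pow_dvd_pow 2 ((Nat.pow_le_pow_iff_right (by omega : 1 < 2)).mp ((show (8:ℕ) = 2 ^ 3 by norm_num) ▸ hA8))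
  have hod : ¬ 2 ∣ K.index → K.index ∣ 8 - p := by
    intro h2
    refine hodd fun hd => h2 ?_
    rw [← K.card_mul_index] at hd
    refine (Nat.Coprime.dvd_of_dvd_mul_left ?_ hd)
    obtain ⟨n, hn⟩ := hKp.exists_card_eq
    rw [hn]
    exact ((Nat.coprime_primes Nat.prime_two hpp).mpr hp2.symm).pow_right n
  refine ⟨⟨?_, hdvd⟩, fun h2 => ⟨hev h2, fun u v hu hv hu2 hv2 => ?_⟩, hod⟩
  · by_cases h2 : 2 ∣ K.index
    · exact Nat.le_of_dvd (by omega) (hev h2)
    · have h8 : 0 < 8 - p ∧ 8 - p ≤ 8 := by rcases hp with rfl | rfl <;> norm_num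
      exact (Nat.le_of_dvd h8.1 (hod h2)).trans h8.2
  · obtain ⟨-, huv⟩ := heven (h2.trans K.index_dvd_card)
    have hmem := huv ⟨u, hu⟩ ⟨v, hv⟩ (by rwa [Subgroup.orderOf_mk]) (by rwa [Subgroup.orderOf_mk])
    have hw : u * v ∈ (P : Subgroup G) := Subgroup.mem_subgroupOf.mp hmem
    obtain ⟨r, hr, hr2⟩ := CfsgLib.CharTwoEarly.exists_sq (Y := (P : Subgroup G)) (by
      obtain ⟨n, hn⟩ := P.isPGroup'.exists_card_eq
      rw [hn]; exact (hpp.odd_of_ne_two hp2).pow) hw
    refine ⟨r⁻¹, inv_mem hr, ?_⟩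
    have hru := inverts_sylow h hp P hu2 hu r hr
    have huu : u⁻¹ = u := inv_eq_of_mul_eq_one_right (mul_self_of_orderOf_two hu2)
    calc r⁻¹ * u * r⁻¹⁻¹ = (u * r * u⁻¹) * u * r := by rw [hru, inv_inv]
      _ = u * (r * r) := by group
      _ = v := by rw [hr2, ← mul_assoc, mul_self_of_orderOf_two hu2, one_mul]

/-- A simple group has no self-normalising Sylow subgroup of this kind, unless it is that subgroup. -/
theorem normalizer_ne [IsSimpleGroup G] (P : Sylow p G) (hP : (P : Subgroup G) ≠ ⊥)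
    (hPt : (P : Subgroup G) ≠ ⊤) : (P : Subgroup G).relIndex (Subgroup.normalizer ((P : Subgroup G) : Set G)) ≠ 1 := by
  intro h1
  have hN : Subgroup.normalizer ((P : Subgroup G) : Set G) = (P : Subgroup G) :=
    le_antisymm (Subgroup.relIndex_eq_one.mp h1) Subgroup.le_normalizer
  have hH : Cfsg.IsFrobeniusComplement (P : Subgroup G) := by
    refine ⟨hP, hPt, fun g hg => ?_⟩
    rw [Subgroup.eq_bot_iff_forall]
    intro x hxx
    obtain ⟨hx, hxg⟩ := Subgroup.mem_inf.mp hxx
    rw [CfsgLib.mem_conj_smul_iff] at hxg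
    by_contra hx1
    refine hg (hN ▸ ?_)
    have := mem_normalizer_of_conj_mem h hp P (g := g⁻¹) hx hx1 (by rwa [inv_inv])
    rw [hN] at this
    rw [hN]
    exact inv_mem_iff.mp this
  obtain ⟨N, -, hNn, hc⟩ := CfsgLib.Frob.exists_kernel hH
  rcases hNn.eq_bot_or_eq_top with e | e
  · subst e
    exact hPt (Subgroup.isComplement'_bot_left.mp hc)
  · subst e
    exact hP (Subgroup.isComplement'_top_left.mp hc)

end CfsgLib.SpecFive
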