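/-
Counting conjugates of an involution inverting a Sylow subgroup, and finding such subgroups.
-/
import Cfsg.Agent.Lib.SpecFive.Sylow
import Cfsg.Agent.Lib.S3Free.TwoStep
import Cfsg.Agent.Lib.CharTheory.Irr

set_option autoImplicit false
set_option linter.unusedSectionVars false

namespace CfsgLib.SpecFive

open Cfsg

universe u

variable {G : Type u} [Group G] [Finite G]

/-- An involution of a simple group inverts an element of order three or five. -/
theorem exists_inverted_prime_element (h : Spec5 G) [IsSimpleGroup G] (hG : ¬ IsMulCommutative G) {u : G}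
    (hu : orderOf u = 2) : ∃ p : ℕ, (p = 3 ∨ p = 5) ∧ ∃ r : G, orderOf r = p ∧ u * r * u⁻¹ = r⁻¹ := by
  haveI : Fact (Nat.Prime 2) := ⟨Nat.prime_two⟩
  have hu2 : u * u = 1 := mul_self_of_orderOf_two hu
  have hout : (⟨u, Subgroup.mem_top u⟩ : (⊤ : Subgroup G)) ∉ pCore 2 (⊤ : Subgroup G) := by
    intro hmem
    have h2 := CfsgLib.isPGroup_pCore (G := (⊤ : Subgroup G)) (p := 2)
    set N := (pCore 2 (⊤ : Subgroup G)).map (Subgroup.topEquiv (G := G)).toMonoidHom with hN
    haveI : N.Normal := Subgroup.Normal.map inferInstance _ (MulEquiv.surjective _)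
    have huN : u ∈ N := ⟨_, hmem, rfl⟩
    rcases ‹N.Normal›.eq_bot_or_eq_top with e | e
    · rw [e, Subgroup.mem_bot] at huN
      rw [huN, orderOf_one] at hu
      omega
    · have hpG : IsPGroup 2 G := (e ▸ h2.map _ : IsPGroup 2 (⊤ : Subgroup G)).of_equiv Subgroup.topEquiv
      haveI := hpG.isNilpotent
      refine hG ⟨⟨fun a b => ?_⟩⟩
      rcases (inferInstance : (Subgroup.center G).Normal).eq_bot_or_eq_top with e' | e'
      · haveI : Nontrivial G := ⟨⟨u, 1, fun e => by rw [e, orderOf_one] at hu; omega⟩⟩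
        haveI := hpG.center_nontrivial
        exact absurd e' ((Subgroup.center G).nontrivial_iff_ne_bot.mp inferInstance)
      · exact (Subgroup.mem_center_iff.mp (e' ▸ Subgroup.mem_top b) a)
  obtain ⟨t, -, hto, ht1, hinv⟩ := CfsgLib.S3Free.TwoF.exists_inverted_of_not_mem (Subgroup.mem_top u) hu2 hout
  obtain ⟨r, -, hrp, hr2, hri⟩ := CfsgLib.S3Free.TwoF.exists_inverted_prime hto ht1 hinv
  refine ⟨orderOf r, ?_, r, rfl, hri⟩
  have := h.prime_cases hrp (orderOf_dvd_natCard r)
  omega

/-- **The count.** An involution inverting a Sylow subgroup has a small centraliser. -/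
theorem centralizer_sq_le (h : Spec5 G) {p : ℕ} [Fact p.Prime] (hp : p = 3 ∨ p = 5) (P : Sylow p G) {u : G}
    (hu : orderOf u = 2) (huN : u ∈ Subgroup.normalizer ((P : Subgroup G) : Set G)) :
    (Nat.card P - 1) * Nat.card (Subgroup.centralizer ({u} : Set G)) ^ 2 ≤
      (P : Subgroup G).relIndex (Subgroup.normalizer ((P : Subgroup G) : Set G)) * Nat.card G := by
  classical
  haveI := Fintype.ofFinite G
  set N := Subgroup.normalizer ((P : Subgroup G) : Set G) with hN
  have hu2 : u * u = 1 := mul_self_of_orderOf_two hu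
  have hui : u⁻¹ = u := inv_eq_of_mul_eq_one_right hu2
  have hinv := inverts_sylow h hp P hu huN
  have hodd : Odd (Nat.card (P : Subgroup G)) := by
    obtain ⟨n, hn⟩ := P.isPGroup'.exists_card_eq
    rw [hn]
    exact ((Fact.out : p.Prime).odd_of_ne_two (by omega)).pow
  have hcoset : ∀ r ∈ (P : Subgroup G), IsConj u (u * r) := by
    intro r hr
    obtain ⟨s, hs, hs2⟩ := CfsgLib.CharTwoEarly.exists_sq hodd hr
    refine isConj_iff.mpr ⟨s⁻¹, ?_⟩
    calc s⁻¹ * u * s⁻¹⁻¹ = (u * s * u⁻¹) * u * s := by rw [hinv s hs, inv_inv]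
      _ = u * (s * s) := by group
      _ = u * r := by rw [hs2]
  let Z := {v : G // IsConj u v}
  let A := (G ⧸ N) × {x : G // x ∈ (P : Subgroup G) ∧ x ≠ 1} × (P : Subgroup G)
  have hconjc : ∀ (c : G) (r : G), r ∈ (P : Subgroup G) → IsConj u (c * (u * r) * c⁻¹) := fun c r hr =>
    (hcoset r hr).trans (isConj_iff.mpr ⟨c, rfl⟩)
  let Φ : A → Z × Z := fun a =>
    (⟨a.1.out * (u * a.2.2) * a.1.out⁻¹, hconjc _ _ a.2.2.2⟩,
     ⟨a.1.out * (u * (a.2.2 * a.2.1.1)) * a.1.out⁻¹, hconjc _ _ (mul_mem a.2.2.2 a.2.1.2.1)⟩)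
  have hprod : ∀ (r x : G), r ∈ (P : Subgroup G) → (u * r) * (u * (r * x)) = x := fun r x hr => by
    calc (u * r) * (u * (r * x)) = (u * r * u⁻¹) * r * x := by rw [hui]; group
      _ = x := by rw [hinv r hr, inv_mul_cancel, one_mul]
  have hΦ : Function.Injective Φ := by
    rintro ⟨q, ⟨x, hx, hx1⟩, ⟨r, hr⟩⟩ ⟨q', ⟨x', hx', hx1'⟩, ⟨r', hr'⟩⟩ e
    have e1 : q.out * (u * r) * q.out⁻¹ = q'.out * (u * r') * q'.out⁻¹ := congrArg (fun z : Z × Z => z.1.1) e
    have e2 : q.out * (u * (r * x)) * q.out⁻¹ = q'.out * (u * (r' * x')) * q'.out⁻¹ :=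
      congrArg (fun z : Z × Z => z.2.1) e
    have e3 : q.out * x * q.out⁻¹ = q'.out * x' * q'.out⁻¹ := by
      calc q.out * x * q.out⁻¹ = (q.out * (u * r) * q.out⁻¹) * (q.out * (u * (r * x)) * q.out⁻¹) := by
            conv_lhs => rw [← hprod r x hr]
            group
        _ = (q'.out * (u * r') * q'.out⁻¹) * (q'.out * (u * (r' * x')) * q'.out⁻¹) := by rw [e1, e2]
        _ = q'.out * x' * q'.out⁻¹ := by
            conv_rhs => rw [← hprod r' x' hr']
            group
    have hmem : q'.out⁻¹ * q.out ∈ N := by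
      refine mem_normalizer_of_conj_mem h hp P hx hx1 ?_
      rw [show q'.out⁻¹ * q.out * x * (q'.out⁻¹ * q.out)⁻¹ = q'.out⁻¹ * (q.out * x * q.out⁻¹) * q'.out by group,
        e3]
      simpa [mul_assoc] using hx'
    have hq : q' = q := by
      rw [← QuotientGroup.out_eq' q', ← QuotientGroup.out_eq' q, QuotientGroup.eq]
      exact hmem
    subst hq
    have hxx : x = x' := by simpa using e3
    subst hxx
    have hrr : r = r' := by simpa using e1
    subst hrr
    rfl
  have hcard := Nat.card_le_card_of_injective Φ hΦ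
  rw [Nat.card_prod, Nat.card_prod, Nat.card_prod] at hcard
  have hQ : Nat.card (G ⧸ N) = N.index := rfl
  have hX : Nat.card {x : G // x ∈ (P : Subgroup G) ∧ x ≠ 1} = Nat.card P - 1 := by
    rw [Nat.card_eq_fintype_card, Fintype.card_subtype,
      show (Finset.univ.filter fun x => x ∈ (P : Subgroup G) ∧ x ≠ 1) =
        (Finset.univ.filter fun x => x ∈ (P : Subgroup G)).erase 1 by ext x; simp [and_comm],
      Finset.card_erase_of_mem (by simp), Nat.card_eq_fintype_card]
    congr 1
    rw [Fintype.card_subtype]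
  rw [hQ, hX] at hcard
  have hm := CfsgLib.CharTheory.card_isConj_mul_card_centralizer u
  have hG : Nat.card G = N.index * ((P : Subgroup G).relIndex N * Nat.card P) := by
    rw [mul_comm ((P : Subgroup G).relIndex N), ← N.card_mul_index, mul_comm]
    congr 1
    rw [← Nat.card_congr (Subgroup.subgroupOfEquivOfLe (Subgroup.le_normalizer (H := (P : Subgroup G)))).toEquiv]
    exact (((P : Subgroup G).subgroupOf N).card_mul_index).symm
  set m := Nat.card {v : G // IsConj u v}
  set C := Nat.card (Subgroup.centralizer ({u} : Set G))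
  set e := (P : Subgroup G).relIndex N
  refine Nat.le_of_mul_le_mul_right (c := Nat.card G) ?_ Nat.card_pos
  calc (Nat.card P - 1) * C ^ 2 * Nat.card G
      = e * (N.index * ((Nat.card P - 1) * Nat.card P)) * C ^ 2 := by rw [hG]; ring
    _ ≤ e * (m * m) * C ^ 2 := Nat.mul_le_mul_right _ (Nat.mul_le_mul_left _ hcard)
    _ = e * Nat.card G * Nat.card G := by rw [← hm]; ring

end CfsgLib.SpecFive
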