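/-
Exceptional characters of a trivial intersection subgroup with Frobenius normaliser: the facts used for
groups with element orders at most five.
-/
import Cfsg.Agent.Lib.CharTheory.FrobKernelTI
import Cfsg.Agent.Lib.CharTheory.Linear
import Cfsg.Agent.Lib.CharTheory.Integral
import Cfsg.Agent.S1534

set_option autoImplicit false
set_option linter.unusedSectionVars false

namespace CfsgLib.SpecFive

open Cfsg CfsgLib.CharTheory
open scoped ComplexConjugate Classical

universe u

variable {G : Type u} [Group G] [Fintype G]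

/-- A trivial intersection subgroup with Frobenius normaliser. -/
structure FrobTI (K : Subgroup G) : Prop where
  ti : ∀ g : G, g ∉ Subgroup.normalizer (K : Set G) → ∀ k ∈ K, g * k * g⁻¹ ∈ K → k = 1
  lt : K < Subgroup.normalizer (K : Set G)
  cent : ∀ k ∈ K, k ≠ 1 → Subgroup.centralizer ({k} : Set G) ≤ K
  ne : K ≠ ⊥

/-- The index in the normaliser. -/
noncomputable abbrev eIdx (K : Subgroup G) : ℕ := (K.subgroupOf (Subgroup.normalizer (K : Set G))).index

/-- The nontrivial elements. -/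
noncomputable def punct (K : Subgroup G) : Finset G := Finset.univ.filter fun x => x ∈ K ∧ x ≠ 1

theorem mem_punct {K : Subgroup G} {x : G} : x ∈ punct K ↔ x ∈ K ∧ x ≠ 1 := by simp [punct]

theorem card_punct (K : Subgroup G) : (punct K).card + 1 = Nat.card K := by
  have h : punct K = (Finset.univ.filter fun x => x ∈ K).erase 1 := by
    ext x; simp [punct, and_comm]
  rw [h, Finset.card_erase_add_one (by simp [K.one_mem]), Nat.card_eq_fintype_card, Fintype.card_subtype]

theorem sum_subgroup {H : Type u} [Group H] [Fintype H] (K : Subgroup H) (f : H → ℂ) :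
    ∑ x ∈ Finset.univ.filter (fun x => x ∈ K), f x = f 1 + ∑ x ∈ Finset.univ.filter (fun x => x ∈ K ∧ x ≠ 1), f x := by
  rw [← Finset.sum_insert (f := f) (a := (1 : H))]
  · refine Finset.sum_congr ?_ fun _ _ => rfl
    ext x
    by_cases hx : x = 1
    · subst hx; simp
    · simp [hx]
  · simp

/-- A generalised character that is constant away from the identity of a subgroup. -/
theorem const_congr {H : Type u} [Group H] [Fintype H] (K : Subgroup H) (hK : 1 < Nat.card K)
    {ψ : H → ℂ} (hψ : IsGeneralizedCharacter H ψ) {d : ℤ} (hd : ψ 1 = d) {M : ℂ}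
    (hM : ∀ x ∈ K, x ≠ 1 → ψ x = M) : ∃ n : ℤ, M = n ∧ (Nat.card K : ℤ) ∣ d - n := by
  haveI : Fintype K := Fintype.ofFinite _
  have hres : IsGeneralizedCharacter K (fun x : K => ψ x) := by
    obtain ⟨a, b, ha, hb, rfl⟩ := hψ
    exact ⟨_, _, isCharacter_restrict ha K, isCharacter_restrict hb K, rfl⟩
  obtain ⟨z, hz⟩ := classInner_genChar_int hres (isGenChar_of_char isCharacter_one)
  simp only [classInner, map_one, mul_one] at hz
  have hsum : ∑ x : K, ψ x = (d : ℂ) + ((Nat.card K : ℂ) - 1) * M := by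
    rw [← Finset.add_sum_erase Finset.univ (fun x : K => ψ x) (Finset.mem_univ 1),
      Finset.sum_congr rfl (g := fun _ => M) (fun (x : K) hx => hM x x.2 fun e => (Finset.mem_erase.mp hx).1 (Subtype.ext e)),
      Finset.sum_const, Finset.card_erase_of_mem (Finset.mem_univ _), Finset.card_univ, ← Nat.card_eq_fintype_card,
      nsmul_eq_mul, Nat.cast_sub Nat.card_pos, Nat.cast_one, Subgroup.coe_one, hd]
  rw [hsum] at hz
  have hne : (Nat.card K : ℂ) ≠ 0 := Nat.cast_ne_zero.mpr Nat.card_pos.ne'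
  have h1 : (Nat.card K : ℂ) - 1 ≠ 0 := by
    rw [sub_ne_zero]
    exact_mod_cast hK.ne'
  field_simp at hz
  obtain ⟨k, hk, hk1⟩ : ∃ k ∈ K, k ≠ 1 := by
    by_contra hno
    push Not at hno
    rw [(Subgroup.eq_bot_iff_forall K).mpr hno, Subgroup.card_bot] at hK
    omega
  have hMq : M = ((((Nat.card K : ℚ) * z - d) / ((Nat.card K : ℚ) - 1) : ℚ) : ℂ) := by
    push_cast
    rw [eq_div_iff h1]
    linear_combination hz
  obtain ⟨n, hn⟩ := exists_int_of_isIntegral_ratCast (hMq ▸ hM k hk hk1 ▸ isIntegral_of_genChar hψ k)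
  refine ⟨n, by rw [hMq, hn]; norm_cast, ⟨z - n, ?_⟩⟩
  have hMn : M = (n : ℂ) := by rw [hMq, hn]; norm_cast
  have : ((d - n : ℤ) : ℂ) = (((Nat.card K : ℤ) * (z - n) : ℤ) : ℂ) := by
    push_cast
    rw [← hMn]
    linear_combination hz
  exact_mod_cast this

variable {K : Subgroup G} (h : FrobTI K)
include h

theorem FrobTI.one_lt_card : 1 < Nat.card K := (Subgroup.one_lt_card_iff_ne_bot K).mpr h.ne

theorem FrobTI.card_normalizer :
    Nat.card (Subgroup.normalizer (K : Set G)) = eIdx K * Nat.card K := by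
  rw [← (K.subgroupOf (Subgroup.normalizer (K : Set G))).index_mul_card,
    Nat.card_congr (Subgroup.subgroupOfEquivOfLe Subgroup.le_normalizer).toEquiv]

theorem FrobTI.cent' : ∀ k ∈ K.subgroupOf (Subgroup.normalizer (K : Set G)), k ≠ 1 →
    Subgroup.centralizer ({k} : Set (Subgroup.normalizer (K : Set G))) ≤ K.subgroupOf (Subgroup.normalizer (K : Set G)) := by
  intro k hk hk1 g hg
  refine Subgroup.mem_subgroupOf.mpr (h.cent _ (Subgroup.mem_subgroupOf.mp hk) (fun e => hk1 (Subtype.ext e)) ?_)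
  rw [Subgroup.mem_centralizer_singleton_iff] at hg ⊢
  exact congrArg Subtype.val hg

theorem FrobTI.lt' : K.subgroupOf (Subgroup.normalizer (K : Set G)) < ⊤ :=
  lt_top_iff_ne_top.mpr fun e => h.lt.not_ge (Subgroup.subgroupOf_eq_top.mp e)

theorem FrobTI.ti' : ∀ g : G, g ∉ (Subgroup.normalizer (K : Set G)) →
    ∀ t ∈ (Subtype.val '' (K.subgroupOf (Subgroup.normalizer (K : Set G)) : Set (Subgroup.normalizer (K : Set G))) : Set G),
      g * t * g⁻¹ ∈ (Subtype.val '' (K.subgroupOf (Subgroup.normalizer (K : Set G)) : Set (Subgroup.normalizer (K : Set G))) : Set G) → t = 1 := by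
  rintro g hg _ ⟨t, ht, rfl⟩ ⟨s, hs, e⟩
  exact h.ti g hg _ (Subgroup.mem_subgroupOf.mp ht) (e ▸ Subgroup.mem_subgroupOf.mp hs)

/-- **The Bessel bound** for the sums over the nontrivial elements. -/
theorem FrobTI.bessel (T : Finset (IrrCharacter G)) (S : IrrCharacter G → ℤ)
    (hS : ∀ ψ ∈ T, ∑ x ∈ punct K, (ψ : G → ℂ) x = S ψ) :
    ∑ ψ ∈ T, S ψ ^ 2 ≤ ((punct K).card * (eIdx K * Nat.card K) : ℕ) := by
  set N := Subgroup.normalizer (K : Set G) with hN
  haveI : Fintype N := Fintype.ofFinite _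
  set g : N → ℂ := fun x => if (x : G) ∈ K ∧ x ≠ 1 then 1 else 0 with hg
  have hgc : IsClassFunction N g := fun x k => by
    simp only [hg]
    refine if_congr (and_congr ?_ (not_congr ?_)) rfl rfl
    · rw [Subgroup.coe_mul, Subgroup.coe_mul, Subgroup.coe_inv]
      exact ((Subgroup.mem_normalizer_iff.mp k.2) x).symm
    · exact conj_eq_one_iff
  have hgs : ∀ x : N, (x : G) ∉ (K : Set G) → g x = 0 := fun x hx => by simp [hg, show (x : G) ∉ K from hx]
  have hg1 : g 1 = 0 := by simp [hg]
  have htr : ∀ F : G → ℂ, ∑ x : N, g x * F x = ∑ x ∈ punct K, F x := by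
    intro F
    simp only [hg, ite_mul, one_mul, zero_mul, ← Finset.sum_filter]
    refine Finset.sum_bij (fun x _ => (x : G)) ?_ ?_ ?_ ?_
    · intro x hx
      simp only [Finset.mem_filter, Finset.mem_univ, true_and] at hx
      exact mem_punct.mpr ⟨hx.1, fun e => hx.2 (Subtype.ext e)⟩
    · intro a _ b _ e; exact Subtype.ext e
    · intro x hx
      obtain ⟨h1, h2⟩ := mem_punct.mp hx
      exact ⟨⟨x, Subgroup.le_normalizer h1⟩, Finset.mem_filter.mpr ⟨Finset.mem_univ _, h1,
        fun e => h2 (congrArg Subtype.val e)⟩, rfl⟩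
    · intro a _; rfl
  have hnorm : classInner (indFun N g) (indFun N g) = (Nat.card N : ℂ)⁻¹ * (punct K).card := by
    rw [classInner_indFun_of_TI N (K : Set G) h.ti hgc hgs hgs hg1]
    simp only [classInner]
    congr 1
    have := htr (fun _ => 1)
    simp only [mul_one, Finset.sum_const, nsmul_eq_mul] at this
    rw [← this]
    refine Finset.sum_congr rfl fun x _ => ?_
    simp only [hg]; split_ifs <;> simp
  have hcoef : ∀ ψ : IrrCharacter G, classInner (indFun N g) (ψ : G → ℂ) =
      (Nat.card N : ℂ)⁻¹ * conj (∑ x ∈ punct K, (ψ : G → ℂ) x) := by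
    intro ψ
    rw [frobenius_reciprocity N g (isClassFunction_irr ψ.2)]
    simp only [classInner]
    rw [map_sum]
    exact congrArg _ (htr fun x => conj ((ψ : G → ℂ) x))
  have hparse := classInner_eq_sum_irr (b := indFun N g) (indFun_isClassFunction N g)
  have hre : ∀ ψ : IrrCharacter G,
      (classInner (indFun N g) (ψ : G → ℂ) * classInner (ψ : G → ℂ) (indFun N g)).re =
        Complex.normSq (classInner (indFun N g) (ψ : G → ℂ)) := fun ψ => by
    rw [← classInner_comm (indFun N g) (ψ : G → ℂ), Complex.mul_conj, Complex.ofReal_re]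
  have key := congrArg Complex.re hparse
  rw [hnorm, Complex.re_sum] at key
  simp only [hre] at key
  have hle : ∑ ψ ∈ T, Complex.normSq (classInner (indFun N g) (ψ : G → ℂ)) ≤
      ((Nat.card N : ℂ)⁻¹ * (punct K).card).re := key ▸
    Finset.sum_le_sum_of_subset_of_nonneg (Finset.subset_univ _) fun _ _ _ => Complex.normSq_nonneg _
  have hterm : ∀ ψ ∈ T, Complex.normSq (classInner (indFun N g) (ψ : G → ℂ)) =
      ((S ψ : ℝ) ^ 2) / (Nat.card N : ℝ) ^ 2 := fun ψ hψ => by
    rw [hcoef, hS ψ hψ, map_intCast, map_mul, map_inv₀, Complex.normSq_natCast, Complex.normSq_intCast]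
    field_simp
  rw [Finset.sum_congr rfl hterm, ← Finset.sum_div] at hle
  have hre2 : ((Nat.card N : ℂ)⁻¹ * (punct K).card).re = ((punct K).card : ℝ) / (Nat.card N : ℝ) := by
    rw [show ((Nat.card N : ℂ)⁻¹ * (punct K).card) = (((punct K).card : ℝ) / (Nat.card N : ℝ) : ℝ) by
      push_cast; ring, Complex.ofReal_re]
  have hNpos : (0 : ℝ) < Nat.card N := Nat.cast_pos.mpr Nat.card_pos
  rw [hre2, div_le_div_iff₀ (by positivity) hNpos] at hle
  have h2 : ((∑ ψ ∈ T, S ψ ^ 2 : ℤ) : ℝ) ≤ (((punct K).card * (eIdx K * Nat.card K) : ℕ) : ℝ) := by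
    rw [← h.card_normalizer, ← hN]
    push_cast
    nlinarith
  exact_mod_cast h2

/-- The Bessel bound for characters constant away from the identity, the principal one counted apart. -/
theorem FrobTI.bessel_const (T : Finset (IrrCharacter G)) (n : IrrCharacter G → ℤ)
    (hn : ∀ ψ ∈ T, ∀ x ∈ punct K, (ψ : G → ℂ) x = n ψ) (h1 : ∀ ψ ∈ T, (ψ : G → ℂ) ≠ fun _ => 1) :
    ((punct K).card : ℤ) * (1 + ∑ ψ ∈ T, n ψ ^ 2) ≤ (eIdx K * Nat.card K : ℕ) := by
  set t : IrrCharacter G := ⟨fun _ => 1, isIrrCharacter_one⟩ with ht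
  have htT : t ∉ T := fun hm => h1 t hm rfl
  have hb := h.bessel (insert t T) (fun ψ => if ψ = t then ((punct K).card : ℤ) else (punct K).card * n ψ) ?_
  · rw [Finset.sum_insert htT, if_pos rfl,
      Finset.sum_congr rfl (g := fun ψ => ((punct K).card : ℤ) ^ 2 * n ψ ^ 2)
        (fun ψ hψ => by rw [if_neg (show ψ ≠ t from fun e => htT (e ▸ hψ))]; ring), ← Finset.mul_sum] at hb
    have hpos : (0 : ℤ) < (punct K).card := by
      have := card_punct K
      have := h.one_lt_card
      omega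
    push_cast at hb ⊢
    refine le_of_mul_le_mul_left ?_ hpos
    linarith
  · intro ψ hψ
    rcases Finset.mem_insert.mp hψ with rfl | hψ
    · simp [ht]
    · rw [if_neg (show ψ ≠ t from fun e => htT (e ▸ hψ)), Finset.sum_congr rfl (hn ψ hψ)]
      simp

/-- A single class of nontrivial elements. -/
theorem FrobTI.const_of_card (hcard : Nat.card K = eIdx K + 1) {ψ : G → ℂ} (hψ : IsClassFunction G ψ) :
    ∀ a ∈ punct K, ∀ b ∈ punct K, ψ a = ψ b := by
  intro a ha b hb
  set N := Subgroup.normalizer (K : Set G) with hN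
  haveI : Fintype N := Fintype.ofFinite _
  obtain ⟨ha1, ha2⟩ := mem_punct.mp ha
  set I := (Finset.univ : Finset N).image (fun g : N => (g : G) * a * (g : G)⁻¹) with hI
  have hsub : I ⊆ punct K := by
    intro x hx
    obtain ⟨g, -, rfl⟩ := Finset.mem_image.mp hx
    exact mem_punct.mpr ⟨(Subgroup.mem_normalizer_iff.mp g.2 a).mp ha1, fun e => ha2 (conj_eq_one_iff.mp e)⟩
  have hfib : ∀ x ∈ I, ((Finset.univ : Finset N).filter fun g : N => (g : G) * a * (g : G)⁻¹ = x).card ≤ Nat.card K := by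
    intro x hx
    obtain ⟨g₀, -, rfl⟩ := Finset.mem_image.mp hx
    rw [Nat.card_eq_fintype_card, ← Finset.card_univ]
    refine Finset.card_le_card_of_injOn
      (fun g : N => if hg : (g₀ : G)⁻¹ * g ∈ K then (⟨_, hg⟩ : K) else 1) (fun _ _ => Finset.mem_univ _) ?_
    intro g hg g' hg' e
    simp only [Finset.coe_filter, Finset.mem_univ, true_and, Set.mem_setOf_eq] at hg hg'
    have key : ∀ s : N, (s : G) * a * (s : G)⁻¹ = (g₀ : G) * a * (g₀ : G)⁻¹ → (g₀ : G)⁻¹ * s ∈ K := by
      intro s hs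
      refine h.cent a ha1 ha2 (Subgroup.mem_centralizer_singleton_iff.mpr ?_)
      calc (g₀ : G)⁻¹ * s * a = (g₀ : G)⁻¹ * ((s : G) * a * (s : G)⁻¹) * s := by group
        _ = a * ((g₀ : G)⁻¹ * s) := by rw [hs]; group
    simp only [key g hg, key g' hg', dite_true, Subtype.mk.injEq, mul_right_inj] at e
    exact Subtype.ext e
  have hcardN : Nat.card N ≤ I.card * Nat.card K := by
    rw [Nat.card_eq_fintype_card, ← Finset.card_univ, mul_comm]
    exact Finset.card_le_mul_card_image _ _ hfib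
  rw [hN, h.card_normalizer] at hcardN
  have hle : eIdx K ≤ I.card := Nat.le_of_mul_le_mul_right hcardN Nat.card_pos
  have hp := card_punct K
  have heq : I = punct K := Finset.eq_of_subset_of_card_le hsub (by omega)
  rw [← heq] at hb
  obtain ⟨g, -, rfl⟩ := Finset.mem_image.mp hb
  exact (isClassFunction_iff_isConj.mp hψ a _ (isConj_iff.mpr ⟨g, rfl⟩))

omit h in
/-- The exceptional set. -/
abbrev excSet (K : Subgroup G) : Set (Subgroup.normalizer (K : Set G) → ℂ) :=
  CfsgLib.FrobKernelTI.S (K.subgroupOf (Subgroup.normalizer (K : Set G)))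

omit h in
/-- A coherent exceptional family. -/
structure Exc (K : Subgroup G) [Fintype (Subgroup.normalizer (K : Set G))] where
  star : (Subgroup.normalizer (K : Set G) → ℂ) → (G → ℂ)
  iso : IsLinearIsometryOn (zspan (excSet K)) star
  ext : ∀ α ∈ zspanOn (excSet K) ({1}ᶜ : Set (Subgroup.normalizer (K : Set G))),
    star α = indFun (Subgroup.normalizer (K : Set G)) α
  two : ∃ χ ∈ excSet K, ∃ ξ ∈ excSet K, χ ≠ ξ

variable [Fintype (Subgroup.normalizer (K : Set G))]

/-- **Coherence**, or a single class. -/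
theorem FrobTI.coherent_or_single (hnil : Group.IsNilpotent K) (hodd : Odd (Nat.card K)) :
    Nat.card K = eIdx K + 1 ∨ Nonempty (Exc K) := by
  rcases Cfsg.Agent.S1534.result K h.ne hnil h.ti h.lt h.cent with ⟨-, h1, -⟩ | ⟨h2, -⟩ | hc
  · exact Or.inl h1
  · exfalso
    have := h.one_lt_card
    rw [h2] at hodd this
    rcases Nat.eq_zero_or_pos ((Nat.card G).factorization 2) with e | e
    · rw [e] at this; omega
    · exact Nat.not_even_iff_odd.mpr hodd (Nat.even_pow.mpr ⟨even_two, e.ne'⟩)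
  · obtain ⟨⟨α, hα, hα0⟩, τ, hτ, hτe⟩ := hc
    have hS : {χ : Subgroup.normalizer (K : Set G) → ℂ | IsIrrCharacter _ χ ∧ ∃ k : Subgroup.normalizer (K : Set G),
        (k : G) ∈ K ∧ χ k ≠ χ 1} = excSet K := by
      ext χ
      simp only [excSet, CfsgLib.FrobKernelTI.S, Set.mem_setOf_eq, Subgroup.mem_subgroupOf]
    rw [hS] at hα hτ hτe
    refine Or.inr ⟨⟨τ, hτ, hτe, ?_⟩⟩
    by_contra hno
    push Not at hno
    apply hα0
    rcases (excSet K).eq_empty_or_nonempty with e | ⟨χ, hχ⟩
    · have := hα.1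
      simp only [zspan, e, Submodule.span_empty, SetLike.mem_coe, Submodule.mem_bot] at this
      exact this
    · have hsub : excSet K ⊆ {χ} := fun ξ hξ => (hno χ hχ ξ hξ).symm
      have := Submodule.span_mono hsub hα.1
      rw [Submodule.mem_span_singleton] at this
      obtain ⟨z, rfl⟩ := this
      have h0 := hα.2 1 (by simp)
      simp only [Pi.smul_apply, zsmul_eq_mul] at h0
      rcases mul_eq_zero.mp h0 with e | e
      · rw [show z = 0 by exact_mod_cast e, zero_smul]
      · exact absurd e (irr_ne_zero hχ.1)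

end CfsgLib.SpecFive
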