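/-
Properties of a coherent exceptional family.
-/
import Cfsg.Agent.Lib.SpecFive.TIChar

set_option autoImplicit false
set_option linter.unusedSectionVars false

namespace CfsgLib.SpecFive

open Cfsg CfsgLib.CharTheory
open scoped ComplexConjugate Classical

universe u

variable {G : Type u} [Group G] [Fintype G] {K : Subgroup G} (h : FrobTI K)
variable [Fintype (Subgroup.normalizer (K : Set G))] (E : Exc K)

local notation "NN" => Subgroup.normalizer (K : Set G)
local notation "KK" => K.subgroupOf (Subgroup.normalizer (K : Set G))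

include h

theorem FrobTI.sub_ne_bot : KK ≠ ⊥ := fun e => h.ne (by
  rw [Subgroup.subgroupOf_eq_bot] at e; exact e.eq_bot_of_le Subgroup.le_normalizer)

theorem FrobTI.eIdx_pos : 0 < eIdx K := Nat.pos_of_ne_zero Subgroup.index_ne_zero_of_finite

/-- The degree of an exceptional character of the normaliser is a multiple of the index. -/
theorem FrobTI.exc_degree {χ : NN → ℂ} (hχ : χ ∈ excSet K) :
    ∃ θ : ℕ, 0 < θ ∧ χ 1 = ((eIdx K * θ : ℕ) : ℂ) ∧
      ((∀ a ∈ K, ∀ b ∈ K, a * b = b * a) → θ = 1) := by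
  obtain ⟨θ, hθ, -, rfl⟩ := CfsgLib.FrobKernelTI.exists_eq_ind KK h.cent' h.lt' hχ
  obtain ⟨d, hd, hθd⟩ := irr_degree_pos hθ
  refine ⟨d, hd, ?_, fun hab => ?_⟩
  · rw [indFun_apply_one, hθd]
    push_cast
    rfl
  · have := degree_one_of_commutative (G := KK) (fun a b => Subtype.ext (Subtype.ext (hab _ a.2 _ b.2))) hθ
    rw [hθd] at this
    exact_mod_cast this

theorem FrobTI.exists_base : ∃ χ ∈ excSet K, χ 1 = (eIdx K : ℂ) :=
  CfsgLib.FrobKernelTI.exists_degree_index KK h.cent' h.lt' h.sub_ne_bot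

include E

/-- The irreducible character attached to an exceptional one. -/
theorem Exc.exists_irr {χ : NN → ℂ} (hχ : χ ∈ excSet K) :
    ∃ ψ : IrrCharacter G, (ψ : G → ℂ) = E.star χ ∨ (ψ : G → ℂ) = -E.star χ := by
  rcases CfsgLib.FrobKernelTI.irr_or_neg NN KK h.cent' h.lt' h.ti' E.iso E.ext hχ with e | e
  · exact ⟨⟨_, e⟩, Or.inl rfl⟩
  · exact ⟨⟨_, e⟩, Or.inr rfl⟩

/-- An irreducible character is exceptional exactly when it is not constant on the nontrivial elements. -/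
theorem Exc.exceptional_iff (ψ : IrrCharacter G) :
    (∃ χ ∈ excSet K, (ψ : G → ℂ) = E.star χ ∨ (ψ : G → ℂ) = -E.star χ) ↔
      ∃ a ∈ punct K, ∃ b ∈ punct K, (ψ : G → ℂ) a ≠ (ψ : G → ℂ) b := by
  rw [CfsgLib.FrobKernelTI.exceptional_iff NN KK h.cent' h.lt' h.ti' E.iso E.ext E.two ψ.2]
  constructor
  · rintro ⟨a, ha, b, hb, ha1, hb1, hne⟩
    exact ⟨a, mem_punct.mpr ⟨Subgroup.mem_subgroupOf.mp ha, fun e => ha1 (Subtype.ext e)⟩, b,
      mem_punct.mpr ⟨Subgroup.mem_subgroupOf.mp hb, fun e => hb1 (Subtype.ext e)⟩, hne⟩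
  · rintro ⟨a, ha, b, hb, hne⟩
    obtain ⟨ha1, ha2⟩ := mem_punct.mp ha
    obtain ⟨hb1, hb2⟩ := mem_punct.mp hb
    exact ⟨⟨a, Subgroup.le_normalizer ha1⟩, Subgroup.mem_subgroupOf.mpr ha1,
      ⟨b, Subgroup.le_normalizer hb1⟩, Subgroup.mem_subgroupOf.mpr hb1,
      fun e => ha2 (congrArg Subtype.val e), fun e => hb2 (congrArg Subtype.val e), hne⟩

/-- The restriction to the kernel. -/
theorem Exc.restriction : ∃ m : ℤ, ∀ χ ∈ excSet K, ∀ k : NN, (k : G) ∈ K → k ≠ 1 →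
    E.star χ k = χ k + (m : ℂ) * χ 1 / (eIdx K : ℂ) := by
  obtain ⟨m, hm⟩ := CfsgLib.FrobKernelTI.restriction NN KK h.cent' h.lt' h.ti' E.iso E.ext
  exact ⟨m, fun χ hχ k hk hk1 => by
    linear_combination hm χ hχ k (Subgroup.mem_subgroupOf.mpr hk) hk1⟩

theorem Exc.star_inj {χ ξ : NN → ℂ} (hχ : χ ∈ excSet K) (hξ : ξ ∈ excSet K)
    (he : E.star χ = E.star ξ ∨ E.star χ = -E.star ξ) : χ = ξ := by
  by_contra hne
  have h0 : classInner χ ξ = 0 := classInner_irr_ne hχ.1 hξ.1 hne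
  have h1 : classInner χ χ = 1 := classInner_irr_self hχ.1
  have a := E.iso.2.2.1 χ (Submodule.subset_span hχ) ξ (Submodule.subset_span hξ)
  have b := E.iso.2.2.1 χ (Submodule.subset_span hχ) χ (Submodule.subset_span hχ)
  rw [h0] at a
  rw [h1] at b
  rcases he with e | e
  · rw [← e, b] at a
    exact one_ne_zero a
  · have e' : E.star ξ = -E.star χ := by rw [e, neg_neg]
    rw [e', classInner_neg_right, b] at a
    simp at a

omit E in
/-- The squares of the degrees in the exceptional set. -/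
theorem FrobTI.sum_exc_degree_sq :
    ∑ χ ∈ Finset.univ.filter (fun χ : IrrCharacter NN => (χ : NN → ℂ) ∈ excSet K),
      ((χ : NN → ℂ) 1) ^ 2 = ((eIdx K * ((punct K).card) : ℕ) : ℂ) := by
  haveI : Fintype KK := Fintype.ofFinite _
  have htot := sum_irr_degree_sq (G := NN)
  rw [← Finset.sum_filter_add_sum_filter_not Finset.univ
    (fun χ : IrrCharacter NN => (χ : NN → ℂ) ∈ excSet K)] at htot
  have hsq := sum_degree_sq_kernel KK
  have hker : ∑ χ ∈ Finset.univ.filter (fun χ : IrrCharacter NN => ¬ (χ : NN → ℂ) ∈ excSet K),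
      ((χ : NN → ℂ) 1) ^ 2 = (eIdx K : ℂ) := by
    rw [show (eIdx K : ℂ) = ((KK).index : ℂ) from rfl, ← hsq, Nat.cast_sum,
      Finset.sum_subtype (p := fun χ : IrrCharacter NN => ∀ n ∈ KK, (χ : NN → ℂ) n = (χ : NN → ℂ) 1) _
        (fun χ => ?_)]
    · refine Finset.sum_congr rfl fun χ _ => ?_
      rw [(charDegree_spec' χ.1.2).1]
      push_cast
      ring
    · simp only [Finset.mem_filter, Finset.mem_univ, true_and, excSet, CfsgLib.FrobKernelTI.S, Set.mem_setOf_eq,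
        χ.2, true_and, not_exists, not_and, not_not, forall_const]
  rw [hker, h.card_normalizer] at htot
  have hp := card_punct K
  rw [← hp] at htot
  push_cast at htot ⊢
  linear_combination htot

/-- The exceptional characters of `G`, as a finite set. -/
theorem Exc.exists_image (S : Finset (IrrCharacter NN)) (hS : ∀ χ ∈ S, (χ : NN → ℂ) ∈ excSet K) :
    ∃ f : IrrCharacter NN → IrrCharacter G, Set.InjOn f S ∧
      ∀ χ ∈ S, ((f χ : IrrCharacter G) : G → ℂ) = E.star χ ∨ ((f χ : IrrCharacter G) : G → ℂ) = -E.star χ := by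
  have : ∀ χ : IrrCharacter NN, ∃ ψ : IrrCharacter G, (χ : NN → ℂ) ∈ excSet K →
      (ψ : G → ℂ) = E.star χ ∨ (ψ : G → ℂ) = -E.star χ := fun χ => by
    by_cases hχ : (χ : NN → ℂ) ∈ excSet K
    · obtain ⟨ψ, hψ⟩ := E.exists_irr h hχ
      exact ⟨ψ, fun _ => hψ⟩
    · exact ⟨⟨fun _ => 1, isIrrCharacter_one⟩, fun h' => absurd h' hχ⟩
  choose f hf using this
  refine ⟨f, ?_, fun χ hχ => hf χ (hS χ hχ)⟩
  intro χ hχ ξ hξ e
  have a := hf χ (hS χ hχ)
  rw [e] at a
  apply Subtype.ext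
  refine E.star_inj h (hS χ hχ) (hS ξ hξ) ?_
  rcases a with a | a <;> rcases hf ξ (hS ξ hξ) with b | b <;> rw [a] at b
  · exact Or.inl b
  · exact Or.inr b
  · exact Or.inr (by rw [← b, neg_neg])
  · exact Or.inl (neg_inj.mp b)

/-- **The bound on the restriction constant.** -/
theorem Exc.bound {m : ℤ} (hm : ∀ χ ∈ excSet K, ∀ k : NN, (k : G) ∈ K → k ≠ 1 →
    E.star χ k = χ k + (m : ℂ) * χ 1 / (eIdx K : ℂ)) :
    ((punct K).card : ℤ) * m ^ 2 ≤ (eIdx K : ℤ) * (eIdx K - 1 + 2 * m) := by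
  set S := Finset.univ.filter (fun χ : IrrCharacter NN => (χ : NN → ℂ) ∈ excSet K) with hS
  have hSm : ∀ χ ∈ S, (χ : NN → ℂ) ∈ excSet K := fun χ hχ => (Finset.mem_filter.mp hχ).2
  obtain ⟨f, hf, hfs⟩ := E.exists_image h S hSm
  set t : IrrCharacter G := ⟨fun _ => 1, isIrrCharacter_one⟩ with ht
  have htim : t ∉ S.image f := by
    intro hmem
    obtain ⟨χ, hχ, e⟩ := Finset.mem_image.mp hmem
    obtain ⟨a, -, b, -, hne⟩ := (E.exceptional_iff h (f χ)).mp ⟨χ, hSm χ hχ, hfs χ hχ⟩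
    rw [e] at hne
    exact hne rfl
  choose θ hθpos hθ _hθab using fun (χ : IrrCharacter NN) (hχ : χ ∈ S) => h.exc_degree (hSm χ hχ)
  set p : ℤ := ((punct K).card : ℤ) with hp
  set e : ℤ := (eIdx K : ℤ) with he
  have hechar : (e : ℂ) = (eIdx K : ℂ) := by rw [he]; norm_cast
  have hsum : ∀ χ (hχ : χ ∈ S), ∑ x ∈ punct K, E.star χ x = (((θ χ hχ : ℤ) * (m * p - e) : ℤ) : ℂ) := by
    intro χ hχ
    have hmem := hSm χ hχ
    have h0 : ∑ x : NN, (χ : NN → ℂ) x = 0 := by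
      have hne : (χ : NN → ℂ) ≠ fun _ => 1 := fun e => by
        obtain ⟨k, -, hk⟩ := hmem.2; exact hk (by rw [e])
      have := classInner_irr_ne hmem.1 isIrrCharacter_one hne
      simp only [classInner, map_one, mul_one] at this
      exact (mul_eq_zero.mp this).resolve_left (inv_ne_zero (Nat.cast_ne_zero.mpr Nat.card_pos.ne'))
    rw [← Finset.sum_filter_add_sum_filter_not Finset.univ (fun x : NN => x ∈ KK),
      Finset.sum_eq_zero (s := Finset.univ.filter fun x : NN => ¬ x ∈ KK)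
        (fun x hx => CfsgLib.FrobKernelTI.vanish KK h.cent' h.lt' hmem (Finset.mem_filter.mp hx).2),
      add_zero, sum_subgroup] at h0
    have hbij : ∑ x ∈ punct K, E.star χ x =
        ∑ x ∈ Finset.univ.filter (fun x : NN => x ∈ KK ∧ x ≠ 1), E.star χ x := by
      symm
      refine Finset.sum_bij (fun x _ => (x : G)) ?_ ?_ ?_ ?_
      · intro x hx
        simp only [Finset.mem_filter, Finset.mem_univ, true_and, Subgroup.mem_subgroupOf] at hx
        exact mem_punct.mpr ⟨hx.1, fun e => hx.2 (Subtype.ext e)⟩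
      · intro a _ b _ e; exact Subtype.ext e
      · intro x hx
        obtain ⟨h1, h2⟩ := mem_punct.mp hx
        exact ⟨⟨x, Subgroup.le_normalizer h1⟩, Finset.mem_filter.mpr ⟨Finset.mem_univ _,
          Subgroup.mem_subgroupOf.mpr h1, fun e => h2 (congrArg Subtype.val e)⟩, rfl⟩
      · intro a _; rfl
    have hcard : ((Finset.univ.filter (fun x : NN => x ∈ KK ∧ x ≠ 1)).card : ℂ) = (p : ℂ) := by
      have := hbij
      have hc : (Finset.univ.filter (fun x : NN => x ∈ KK ∧ x ≠ 1)).card = (punct K).card := by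
        have h1 := card_punct K
        have h2 := card_punct KK
        rw [Nat.card_congr (Subgroup.subgroupOfEquivOfLe (Subgroup.le_normalizer (H := K))).toEquiv] at h2
        have h3 : (Finset.univ.filter (fun x : NN => x ∈ KK ∧ x ≠ 1)).card = (punct KK).card := by
          congr 1; ext x; simp [punct]
        omega
      rw [hc, hp]; norm_cast
    have hχsum : ∑ x ∈ Finset.univ.filter (fun x : NN => x ∈ KK ∧ x ≠ 1), (χ : NN → ℂ) x = -(χ : NN → ℂ) 1 := by
      rw [eq_neg_iff_add_eq_zero, add_comm]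
      convert h0
    rw [hbij, Finset.sum_congr rfl fun x hx => hm χ hmem x
        (Subgroup.mem_subgroupOf.mp (Finset.mem_filter.mp hx).2.1) (Finset.mem_filter.mp hx).2.2,
      Finset.sum_add_distrib, Finset.sum_const, nsmul_eq_mul, hcard,
      hχsum, hθ χ hχ, ← hechar]
    have hne : (e : ℂ) ≠ 0 := by rw [hechar]; exact Nat.cast_ne_zero.mpr h.eIdx_pos.ne'
    push_cast
    rw [← hechar]
    field_simp
    ring
  let Sf : IrrCharacter G → ℤ := fun ψ =>
    if hψ : ψ ∈ S.image f then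
      (if (ψ : G → ℂ) = E.star (Finset.mem_image.mp hψ).choose then 1 else -1) *
        ((θ _ (Finset.mem_image.mp hψ).choose_spec.1 : ℤ) * (m * p - e))
    else p
  have hbes := h.bessel (insert t (S.image f)) Sf ?_
  · rw [Finset.sum_insert htim, Finset.sum_image hf] at hbes
    have ht' : Sf t = p := dif_neg htim
    have hSf : ∀ χ (hχ : χ ∈ S), Sf (f χ) ^ 2 = (θ χ hχ : ℤ) ^ 2 * (m * p - e) ^ 2 := by
      intro χ hχ
      have hψ : f χ ∈ S.image f := Finset.mem_image_of_mem f hχ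
      simp only [Sf, dif_pos hψ]
      have hc : (Finset.mem_image.mp hψ).choose = χ :=
        hf (Finset.mem_image.mp hψ).choose_spec.1 hχ (Finset.mem_image.mp hψ).choose_spec.2
      have : ∀ c (hc' : c ∈ S), c = χ → (θ c hc' : ℤ) = θ χ hχ := fun c hc' e => by subst e; rfl
      rw [this _ _ hc]
      split_ifs <;> ring
    have hθsum : ∑ χ ∈ S, Sf (f χ) ^ 2 * e = p * (m * p - e) ^ 2 := by
      have h1 : ∀ χ ∈ S, ((Sf (f χ) ^ 2 * e ^ 2 : ℤ) : ℂ) = ((χ : NN → ℂ) 1) ^ 2 * (((m * p - e) ^ 2 : ℤ) : ℂ) := by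
        intro χ hχ
        rw [hSf χ hχ, hθ χ hχ, he]
        push_cast
        ring
      have h2 : ((∑ χ ∈ S, Sf (f χ) ^ 2 * e ^ 2 : ℤ) : ℂ) = ((e * p * (m * p - e) ^ 2 : ℤ) : ℂ) := by
        rw [Int.cast_sum, Finset.sum_congr rfl h1, ← Finset.sum_mul, hS, h.sum_exc_degree_sq, he, hp]
        push_cast
        ring
      have h3 : ∑ χ ∈ S, Sf (f χ) ^ 2 * e ^ 2 = e * p * (m * p - e) ^ 2 := by exact_mod_cast h2
      have hepos : (e : ℤ) ≠ 0 := by rw [he]; exact_mod_cast h.eIdx_pos.ne'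
      refine mul_left_cancel₀ hepos ?_
      rw [Finset.mul_sum, ← mul_assoc, ← h3]
      exact Finset.sum_congr rfl fun χ _ => by ring
    have hk := card_punct K
    have hp0 : 0 < p := by
      have := h.one_lt_card
      rw [hp]; exact_mod_cast (by omega : 0 < (punct K).card)
    have he0 : 0 < e := by rw [he]; exact_mod_cast h.eIdx_pos
    have hb : Sf t ^ 2 + ∑ χ ∈ S, Sf (f χ) ^ 2 ≤ p * (e * (p + 1)) := by
      refine hbes.trans (le_of_eq ?_)
      rw [hp, he, ← hk]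
      push_cast
      ring
    rw [ht'] at hb
    have hb2 := mul_le_mul_of_nonneg_left hb he0.le
    rw [mul_add, Finset.mul_sum, Finset.sum_congr rfl (fun χ _ => mul_comm e (Sf (f χ) ^ 2)), hθsum] at hb2
    refine le_of_mul_le_mul_left ?_ (mul_pos hp0 hp0)
    nlinarith
  · intro ψ hψ
    rcases Finset.mem_insert.mp hψ with rfl | hψ
    · rw [show Sf t = p from dif_neg htim]
      simp [ht, hp]
    · simp only [Sf, dif_pos hψ]
      set c := (Finset.mem_image.mp hψ).choose with hc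
      obtain ⟨hcS, hce⟩ := (Finset.mem_image.mp hψ).choose_spec
      have hor := hfs c hcS
      rw [hce] at hor
      split_ifs with hsg
      · rw [hsg, hsum c hcS, one_mul]
      · have e' := hor.resolve_left hsg
        rw [e']
        simp only [Pi.neg_apply, Finset.sum_neg_distrib, hsum c hcS]
        push_cast
        ring

/-- The degree of an exceptional character modulo the order of the subgroup. -/
theorem Exc.degree_congr {m : ℤ} (hm : ∀ χ ∈ excSet K, ∀ k : NN, (k : G) ∈ K → k ≠ 1 →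
    E.star χ k = χ k + (m : ℂ) * χ 1 / (eIdx K : ℂ)) {χ : NN → ℂ} (hχ : χ ∈ excSet K)
    {θ : ℕ} (hθ : χ 1 = ((eIdx K * θ : ℕ) : ℂ)) {ψ : IrrCharacter G}
    (hψ : (ψ : G → ℂ) = E.star χ ∨ (ψ : G → ℂ) = -E.star χ) {d : ℕ} (hd : (ψ : G → ℂ) 1 = d) :
    (Nat.card K : ℤ) ∣ d - θ * (eIdx K + m) ∨ (Nat.card K : ℤ) ∣ d + θ * (eIdx K + m) := by
  obtain ⟨s, hs, hs'⟩ : ∃ s : ℤ, (s = 1 ∨ s = -1) ∧ E.star χ = fun x => (s : ℂ) * (ψ : G → ℂ) x := by
    rcases hψ with e | e
    · exact ⟨1, Or.inl rfl, by funext x; simp [e]⟩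
    · exact ⟨-1, Or.inr rfl, by funext x; simp [e]⟩
  set f : NN → ℂ := fun x => E.star χ x - χ x with hf
  have hfg : IsGeneralizedCharacter NN f := by
    obtain ⟨a, b, ha, hb, e⟩ := E.iso.2.2.2 χ (Submodule.subset_span hχ)
    refine isGenChar_sub (a := fun x : NN => E.star χ x) ?_ (isGenChar_of_char (isCharacter_of_irr hχ.1))
    exact ⟨_, _, isCharacter_restrict ha NN, isCharacter_restrict hb NN, funext fun x => by rw [e]; rfl⟩
  have hcardK : Nat.card KK = Nat.card K := Nat.card_congr (Subgroup.subgroupOfEquivOfLe Subgroup.le_normalizer).toEquiv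
  have hne : (eIdx K : ℂ) ≠ 0 := Nat.cast_ne_zero.mpr h.eIdx_pos.ne'
  obtain ⟨n, hn, hdvd⟩ := const_congr KK (hcardK.symm ▸ h.one_lt_card) hfg
    (d := s * d - eIdx K * θ) (M := (m : ℂ) * θ) (by
      simp only [hf, hs', Subgroup.coe_one, hd, hθ]; push_cast; ring)
    (fun x hx hx1 => by
      simp only [hf]
      rw [hm χ hχ x (Subgroup.mem_subgroupOf.mp hx) hx1, hθ]
      push_cast
      field_simp
      ring)
  have hn' : n = m * θ := by exact_mod_cast hn.symm
  rw [hn', hcardK] at hdvd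
  rcases hs with rfl | rfl
  · refine Or.inl ?_
    convert hdvd using 1; push_cast; ring
  · refine Or.inr (Int.dvd_neg.mp ?_)
    convert hdvd using 1
    push_cast; ring

/-- Values at an element not conjugate into the subgroup are proportional to the degrees. -/
theorem Exc.off_value {y : G} (hy : ∀ g : G, g * y * g⁻¹ ∉ K) {χ₀ χ : NN → ℂ} (hχ₀ : χ₀ ∈ excSet K)
    (hd₀ : χ₀ 1 = (eIdx K : ℂ)) (hχ : χ ∈ excSet K) :
    E.star χ y * (eIdx K : ℂ) = χ 1 * E.star χ₀ y := by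
  obtain ⟨θ, -, hθ, -⟩ := h.exc_degree hχ
  obtain ⟨hmem, hval⟩ := CfsgLib.FrobKernelTI.wdiff NN KK h.cent' h.lt' h.ti' E.iso E.ext hχ hχ₀ hθ hd₀
  have h0 : indFun NN ((eIdx K : ℤ) • χ - ((eIdx K * θ : ℕ) : ℤ) • χ₀) y = 0 := by
    simp only [indFun]
    rw [Finset.sum_eq_zero, mul_zero]
    intro x _
    by_cases hx : x⁻¹ * y * x ∈ NN
    · rw [extendByZero_of_mem _ _ hx]
      have hxK : (⟨_, hx⟩ : NN) ∉ KK := fun hk => hy x⁻¹ (by simpa using Subgroup.mem_subgroupOf.mp hk)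
      simp [CfsgLib.FrobKernelTI.vanish KK h.cent' h.lt' hχ hxK, CfsgLib.FrobKernelTI.vanish KK h.cent' h.lt' hχ₀ hxK]
    · exact extendByZero_of_not_mem _ _ hx
  rw [hval] at h0
  simp only [Pi.sub_apply, Pi.smul_apply, zsmul_eq_mul, Int.cast_natCast, Pi.mul_apply, Pi.natCast_apply] at h0
  rw [hθ]
  linear_combination h0

/-- A family constant on another subgroup vanishes there, unless it is small. -/
theorem Exc.off_zero {K' : Subgroup G} (h' : FrobTI K') (hdis : ∀ y ∈ punct K', ∀ g : G, g * y * g⁻¹ ∉ K)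
    (hconst : ∀ χ ∈ excSet K, ∀ a ∈ punct K', ∀ b ∈ punct K', E.star χ a = E.star χ b) :
    (∀ χ ∈ excSet K, ∀ y ∈ punct K', E.star χ y = 0) ∨
      (punct K').card * (eIdx K + (punct K).card) ≤ eIdx K' * Nat.card K' * eIdx K := by
  obtain ⟨χ₀, hχ₀, hd₀⟩ := h.exists_base
  obtain ⟨y₀, hy₀, hy₀1⟩ := (Subgroup.bot_or_exists_ne_one K').resolve_left h'.ne
  have hy0 : y₀ ∈ punct K' := mem_punct.mpr ⟨hy₀, hy₀1⟩
  set S := Finset.univ.filter (fun χ : IrrCharacter NN => (χ : NN → ℂ) ∈ excSet K) with hS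
  have hSm : ∀ χ ∈ S, (χ : NN → ℂ) ∈ excSet K := fun χ hχ => (Finset.mem_filter.mp hχ).2
  have hint : ∀ χ ∈ excSet K, ∃ n : ℤ, ∀ y ∈ punct K', E.star χ y = n := by
    intro χ hχ
    obtain ⟨z, hz⟩ : ∃ z : ℤ, E.star χ 1 = z := by
      obtain ⟨ψ, hψ⟩ := E.exists_irr h hχ
      obtain ⟨d, hd⟩ := char_one_eq_natCast (isCharacter_of_irr ψ.2)
      rcases hψ with e | e <;> rw [e] at hd
      · exact ⟨d, by exact_mod_cast hd⟩
      · exact ⟨-d, by rw [Pi.neg_apply, neg_eq_iff_eq_neg] at hd; exact_mod_cast hd⟩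
    obtain ⟨n, hn, -⟩ := const_congr K' h'.one_lt_card (E.iso.2.2.2 χ (Submodule.subset_span hχ)) hz
      (M := E.star χ y₀) (fun x hx hx1 => hconst χ hχ x (mem_punct.mpr ⟨hx, hx1⟩) y₀ hy0)
    exact ⟨n, fun y hy => (hconst χ hχ y hy y₀ hy0).trans hn⟩
  obtain ⟨n₀, hn₀⟩ := hint χ₀ hχ₀
  have hne : (eIdx K : ℂ) ≠ 0 := Nat.cast_ne_zero.mpr h.eIdx_pos.ne'
  by_cases h0 : n₀ = 0
  · refine Or.inl fun χ hχ y hy => ?_
    have := E.off_value h (hdis y hy) hχ₀ hd₀ hχ
    rw [hn₀ y hy, h0, Int.cast_zero, mul_zero] at this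
    exact (mul_eq_zero.mp this).resolve_right hne
  · refine Or.inr ?_
    obtain ⟨f, hf, hfs⟩ := E.exists_image h S hSm
    have hval : ∀ χ ∈ S, ∃ n : ℤ, (∀ y ∈ punct K', ((f χ : IrrCharacter G) : G → ℂ) y = n) ∧
        ((n ^ 2 * (eIdx K : ℤ) ^ 2 : ℤ) : ℂ) = ((χ : NN → ℂ) 1) ^ 2 * ((n₀ : ℤ) ^ 2 : ℤ) := by
      intro χ hχ
      obtain ⟨n, hn⟩ := hint χ (hSm χ hχ)
      have := E.off_value h (hdis y₀ hy0) hχ₀ hd₀ (hSm χ hχ)
      rw [hn y₀ hy0, hn₀ y₀ hy0] at this
      rcases hfs χ hχ with e | e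
      · refine ⟨n, fun y hy => by rw [e]; exact hn y hy, ?_⟩
        push_cast
        linear_combination ((n : ℂ) * eIdx K + (χ : NN → ℂ) 1 * n₀) * this
      · refine ⟨-n, fun y hy => by rw [e, Pi.neg_apply, hn y hy]; push_cast; rfl, ?_⟩
        push_cast
        linear_combination ((n : ℂ) * eIdx K + (χ : NN → ℂ) 1 * n₀) * this
    choose g hg hg2 using hval
    let G' : IrrCharacter G → ℤ := fun ψ =>
      if hψ : ψ ∈ S.image f then g _ (Finset.mem_image.mp hψ).choose_spec.1 else 0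
    have hb := h'.bessel_const (S.image f) G' ?_ ?_
    · rw [Finset.sum_image hf] at hb
      have hG : ∀ χ (hχ : χ ∈ S), G' (f χ) = g χ hχ := by
        intro χ hχ
        have hψ : f χ ∈ S.image f := Finset.mem_image_of_mem f hχ
        simp only [G', dif_pos hψ]
        have hc := hf (Finset.mem_image.mp hψ).choose_spec.1 hχ (Finset.mem_image.mp hψ).choose_spec.2
        have : ∀ c (hc' : c ∈ S), c = χ → g c hc' = g χ hχ := fun c hc' e => by subst e; rfl
        exact this _ _ hc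
      have h2 : ((∑ χ ∈ S, G' (f χ) ^ 2 * (eIdx K : ℤ) ^ 2 : ℤ) : ℂ) =
          (((eIdx K : ℤ) * (punct K).card * n₀ ^ 2 : ℤ) : ℂ) := by
        rw [Int.cast_sum, Finset.sum_congr rfl (fun χ hχ => by rw [hG χ hχ, hg2 χ hχ]), ← Finset.sum_mul,
          hS, h.sum_exc_degree_sq]
        push_cast
        ring
      have h3 : (∑ χ ∈ S, G' (f χ) ^ 2) * (eIdx K : ℤ) ^ 2 = (eIdx K : ℤ) * (punct K).card * n₀ ^ 2 := by
        rw [Finset.sum_mul]; exact_mod_cast h2
      have hn1 : (1 : ℤ) ≤ n₀ ^ 2 := by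
        have : 0 < n₀ ^ 2 := by positivity
        omega
      have he : (0 : ℤ) < eIdx K := by exact_mod_cast h.eIdx_pos
      have h4 : ((punct K).card : ℤ) ≤ (∑ χ ∈ S, G' (f χ) ^ 2) * eIdx K := by
        refine le_of_mul_le_mul_left ?_ he
        nlinarith [mul_le_mul_of_nonneg_left hn1
          (show (0 : ℤ) ≤ (eIdx K : ℤ) * ((punct K).card : ℤ) by positivity)]
      have h5 := mul_le_mul_of_nonneg_right hb he.le
      have h6 : ((punct K').card : ℤ) * (eIdx K + (punct K).card) ≤ (eIdx K' * Nat.card K' : ℕ) * (eIdx K : ℤ) := by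
        refine le_trans ?_ h5
        nlinarith
      exact_mod_cast h6
    · intro ψ hψ y hy
      simp only [G', dif_pos hψ]
      conv_lhs => rw [← (Finset.mem_image.mp hψ).choose_spec.2]
      exact hg _ _ y hy
    · intro ψ hψ e
      obtain ⟨χ, hχ, rfl⟩ := Finset.mem_image.mp hψ
      obtain ⟨a, -, b, -, hne⟩ := (E.exceptional_iff h (f χ)).mp ⟨χ, hSm χ hχ, hfs χ hχ⟩
      rw [e] at hne
      exact hne rfl

/-- **No character is exceptional for two subgroups**, one of which has restriction constant zero. -/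
theorem Exc.not_both {K' : Subgroup G} [Fintype (Subgroup.normalizer (K' : Set G))] (h' : FrobTI K') (E' : Exc K')
    (hdis : ∀ y ∈ punct K', ∀ g : G, g * y * g⁻¹ ∉ K) (hdis' : ∀ x ∈ punct K, ∀ g : G, g * x * g⁻¹ ∉ K')
    (hm : ∀ χ ∈ excSet K, ∀ k : NN, (k : G) ∈ K → k ≠ 1 → E.star χ k = χ k) (ψ : IrrCharacter G)
    {a b : G} (ha : a ∈ punct K) (hb : b ∈ punct K) (hab : (ψ : G → ℂ) a ≠ (ψ : G → ℂ) b) :
    ∀ c ∈ punct K', ∀ d ∈ punct K', (ψ : G → ℂ) c = (ψ : G → ℂ) d := by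
  intro c hc d hd
  by_contra hcd
  obtain ⟨χ₀, hχ₀, hd₀⟩ := h.exists_base
  obtain ⟨θ₀, hθ₀, hdθ₀⟩ := h'.exists_base
  have hne : (eIdx K : ℂ) ≠ 0 := Nat.cast_ne_zero.mpr h.eIdx_pos.ne'
  have hne' : (eIdx K' : ℂ) ≠ 0 := Nat.cast_ne_zero.mpr h'.eIdx_pos.ne'
  obtain ⟨χ₁, hχ₁, hor⟩ := (E.exceptional_iff h ψ).mpr ⟨a, ha, b, hb, hab⟩
  have hs : E.star χ₁ c ≠ E.star χ₁ d := by
    rcases hor with e | e <;> rw [e] at hcd
    · exact hcd
    · simpa using hcd
  have hne0 : E.star χ₀ c ≠ E.star χ₀ d := by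
    intro e
    apply hs
    have e1 := E.off_value h (hdis c hc) hχ₀ hd₀ hχ₁
    have e2 := E.off_value h (hdis d hd) hχ₀ hd₀ hχ₁
    rw [e] at e1
    exact mul_right_cancel₀ hne (e1.trans e2.symm)
  -- every exceptional character of the first family is exceptional for the second
  have hall : ∀ χ ∈ excSet K, ∃ r : ℂ, r ≠ 0 ∧ conj r = r ∧ ∀ x ∈ punct K, E.star χ x = r * E'.star θ₀ x := by
    intro χ hχ
    obtain ⟨φ, hφ⟩ := E.exists_irr h hχ
    obtain ⟨θ, -, hθ1, -⟩ := h.exc_degree hχ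
    have hχ1 : χ 1 ≠ 0 := irr_ne_zero hχ.1
    have hsχ : E.star χ c ≠ E.star χ d := by
      intro e
      apply hne0
      have e1 := E.off_value h (hdis c hc) hχ₀ hd₀ hχ
      have e2 := E.off_value h (hdis d hd) hχ₀ hd₀ hχ
      rw [e, e2] at e1
      exact (mul_left_cancel₀ hχ1 e1).symm
    obtain ⟨θ', hθ', hor'⟩ := (E'.exceptional_iff h' φ).mpr ⟨c, hc, d, hd, by
      rcases hφ with e | e <;> rw [e]
      · exact hsχ
      · simpa using hsχ⟩
    obtain ⟨t, -, ht, -⟩ := h'.exc_degree hθ'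
    have ht0 : θ' 1 ≠ 0 := irr_ne_zero hθ'.1
    have hval : ∀ x ∈ punct K, E'.star θ' x = (θ' 1 / eIdx K') * E'.star θ₀ x := fun x hx => by
      have := E'.off_value h' (hdis' x hx) hθ₀ hdθ₀ hθ'
      field_simp
      linear_combination this
    have hr : conj (θ' 1 / (eIdx K' : ℂ)) = θ' 1 / eIdx K' := by
      rw [ht, map_div₀, Complex.conj_natCast, Complex.conj_natCast]
    rcases hφ with e | e <;> rcases hor' with e' | e' <;> rw [e] at e'
    · exact ⟨_, div_ne_zero ht0 hne', hr, fun x hx => by rw [e', hval x hx]⟩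
    · exact ⟨_, neg_ne_zero.mpr (div_ne_zero ht0 hne'), by rw [map_neg, hr],
        fun x hx => by rw [e', Pi.neg_apply, hval x hx]; ring⟩
    · refine ⟨_, neg_ne_zero.mpr (div_ne_zero ht0 hne'), by rw [map_neg, hr], fun x hx => ?_⟩
      rw [neg_eq_iff_eq_neg] at e'
      rw [e', Pi.neg_apply, hval x hx]; ring
    · exact ⟨_, div_ne_zero ht0 hne', hr, fun x hx => by rw [neg_inj.mp e', hval x hx]⟩
  obtain ⟨χ, hχ, ξ, hξ, hχξ⟩ := E.two
  obtain ⟨r, hr0, hrc, hr⟩ := hall χ hχ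
  obtain ⟨s, hs0, hsc, hs'⟩ := hall ξ hξ
  have hpt : ∀ k : NN, k ∈ KK → k ≠ 1 → ξ k = (s / r) * χ k := by
    intro k hk hk1
    have hk' := Subgroup.mem_subgroupOf.mp hk
    have hp : (k : G) ∈ punct K := mem_punct.mpr ⟨hk', fun e => hk1 (Subtype.ext e)⟩
    rw [← hm χ hχ k hk' hk1, ← hm ξ hξ k hk' hk1, hr _ hp, hs' _ hp]
    field_simp
  set l := s / r with hl
  have hlc : conj l = l := by rw [hl, map_div₀, hrc, hsc]
  have hlin : ∀ x : NN, ξ x = l * χ x + (if x = 1 then ξ 1 - l * χ 1 else 0) := by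
    intro x
    by_cases hx : x = 1
    · subst hx; rw [if_pos rfl]; ring
    rw [if_neg hx, add_zero]
    by_cases hxK : x ∈ KK
    · exact hpt x hxK hx
    · rw [CfsgLib.FrobKernelTI.vanish KK h.cent' h.lt' hξ hxK, CfsgLib.FrobKernelTI.vanish KK h.cent' h.lt' hχ hxK,
        mul_zero]
  have hN : (Nat.card NN : ℂ) ≠ 0 := Nat.cast_ne_zero.mpr Nat.card_pos.ne'
  have h1ne : ∀ {φ : NN → ℂ}, φ ∈ excSet K → φ ≠ fun _ => 1 := fun hφ e => by
    obtain ⟨k, -, hk⟩ := hφ.2; exact hk (by rw [e])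
  have o1 : ∑ x : NN, χ x = 0 := by
    have := classInner_irr_ne hχ.1 isIrrCharacter_one (h1ne hχ)
    simp only [classInner, map_one, mul_one] at this
    exact (mul_eq_zero.mp this).resolve_left (inv_ne_zero hN)
  have o2 : ∑ x : NN, ξ x = 0 := by
    have := classInner_irr_ne hξ.1 isIrrCharacter_one (h1ne hξ)
    simp only [classInner, map_one, mul_one] at this
    exact (mul_eq_zero.mp this).resolve_left (inv_ne_zero hN)
  rw [Finset.sum_congr rfl fun x _ => hlin x, Finset.sum_add_distrib, ← Finset.mul_sum, o1, mul_zero,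
    zero_add, Finset.sum_ite_eq' Finset.univ (1 : NN), if_pos (Finset.mem_univ _)] at o2
  have hξ' : ξ = fun x => l * χ x := funext fun x => by rw [hlin x, o2]; simp
  have hl0 : l ≠ 0 := div_ne_zero hs0 hr0
  have h0 := classInner_irr_ne hξ.1 hχ.1 (Ne.symm hχξ)
  rw [hξ', show (fun x => l * χ x) = l • χ from rfl, classInner_smul_left, classInner_irr_self hχ.1, mul_one] at h0
  exact hl0 h0

end CfsgLib.SpecFive
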