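/-
Orders and congruences in groups with element orders at most five.
-/
import Cfsg.Agent.Lib.SpecFive.Count
import Cfsg.Agent.Lib.SpecFive.TIChar
import Cfsg.Agent.Lib.CharTheory.Degree

set_option autoImplicit false
set_option linter.unusedSectionVars false

namespace CfsgLib.SpecFive

open Cfsg CfsgLib.CharTheory

universe u

variable {G : Type u} [Group G] [Finite G]

/-- The order of the group. -/
theorem Spec5.card_eq (h : Spec5 G) :
    Nat.card G = 2 ^ (Nat.card G).factorization 2 * 3 ^ (Nat.card G).factorization 3 *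
      5 ^ (Nat.card G).factorization 5 := by
  set n := Nat.card G with hn
  have hn0 : n ≠ 0 := Nat.card_pos.ne'
  refine Nat.eq_of_factorization_eq hn0 (by positivity) fun q => ?_
  rw [Nat.factorization_mul (by positivity) (by positivity), Nat.factorization_mul (by positivity) (by positivity),
    Nat.Prime.factorization_pow Nat.prime_two, Nat.Prime.factorization_pow Nat.prime_three,
    Nat.Prime.factorization_pow Nat.prime_five]
  simp only [Finsupp.add_apply, Finsupp.single_apply]
  by_cases hd : q.Prime ∧ q ∣ n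
  · rcases h.prime_cases hd.1 hd.2 with rfl | rfl | rfl <;> simp
  · have h0 : n.factorization q = 0 := by
      by_contra hne
      have := Nat.mem_primeFactors.mp (Finsupp.mem_support_iff.mpr hne)
      exact hd ⟨this.1, this.2.1⟩
    rw [h0]
    split_ifs with a b c <;> simp_all <;> omega

theorem nontrivial_center_of_simple [IsSimpleGroup G] (hG : ¬ IsMulCommutative G) :
    Subgroup.center G = ⊥ := by
  rcases (inferInstance : (Subgroup.center G).Normal).eq_bot_or_eq_top with e | e
  · exact e
  · exact absurd ⟨⟨fun a b => (Subgroup.mem_center_iff.mp (e ▸ Subgroup.mem_top b) a)⟩⟩ hG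

/-- A Sylow subgroup of a nonabelian simple group is proper. -/
theorem sylow_ne_top [IsSimpleGroup G] (hG : ¬ IsMulCommutative G) {p : ℕ} [Fact p.Prime] (P : Sylow p G) :
    (P : Subgroup G) ≠ ⊤ := by
  intro e
  have hp : IsPGroup p G := (e ▸ P.isPGroup' : IsPGroup p (⊤ : Subgroup G)).of_equiv Subgroup.topEquiv
  haveI := hp.center_nontrivial
  exact ((Subgroup.center G).nontrivial_iff_ne_bot.mp inferInstance) (nontrivial_center_of_simple hG)

variable {p : ℕ} [Fact p.Prime]

theorem frobTI_of_simple [IsSimpleGroup G] (h : Spec5 G) (hp : p = 3 ∨ p = 5) (hG : ¬ IsMulCommutative G)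
    (P : Sylow p G) (hd : p ∣ Nat.card G) : FrobTI (P : Subgroup G) := by
  have hP : (P : Subgroup G) ≠ ⊥ := P.ne_bot_of_dvd_card hd
  refine ⟨sylow_ti h hp P, lt_of_le_of_ne Subgroup.le_normalizer fun e => ?_, sylow_centralizer_le h hp P, hP⟩
  refine normalizer_ne h hp P hP (sylow_ne_top hG P) ?_
  rw [← e, Subgroup.relIndex_self]

/-- **The number of Sylow subgroups is congruent to one modulo their order.** -/
theorem index_normalizer_congr (h : Spec5 G) (hp : p = 3 ∨ p = 5) (P : Sylow p G) :
    Nat.card P ∣ (Subgroup.normalizer ((P : Subgroup G) : Set G)).index - 1 := by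
  classical
  haveI := Fintype.ofFinite G
  set N := Subgroup.normalizer ((P : Subgroup G) : Set G) with hN
  haveI := Fintype.ofFinite (G ⧸ N)
  let X := {x : G ⧸ N // x ≠ ((1 : G) : G ⧸ N)}
  have hPN : (P : Subgroup G) ≤ N := Subgroup.le_normalizer
  letI : MulAction (P : Subgroup G) X :=
    { smul := fun k x => ⟨(k : G) • x.1, fun e => x.2 (by
        have e' := congrArg ((k⁻¹ : G) • ·) e
        simp only [inv_smul_smul] at e'
        rw [e', MulAction.Quotient.smul_coe, smul_eq_mul, mul_one, QuotientGroup.eq]
        simpa using hPN k.2)⟩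
      one_smul := fun x => Subtype.ext (one_smul G x.1)
      mul_smul := fun a b x => Subtype.ext (mul_smul (a : G) (b : G) x.1) }
  have hfree : ∀ x : X, MulAction.stabilizer (P : Subgroup G) x = ⊥ := fun x => by
    rw [Subgroup.eq_bot_iff_forall]
    intro k hk
    obtain ⟨⟨y⟩, hx⟩ := x
    have h1 : ((k : G) • (y : G ⧸ N)) = (y : G ⧸ N) := congrArg Subtype.val hk
    rw [MulAction.Quotient.smul_coe, smul_eq_mul, QuotientGroup.eq] at h1
    by_contra hk1
    have hk1' : (k : G) ≠ 1 := fun e => hk1 (Subtype.ext e)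
    have hyk : y⁻¹ * (k : G) * y ∈ N := by
      have := inv_mem h1
      simpa [mul_assoc] using inv_mem h1
    -- a `p`-element of the normaliser lies in `P`
    have hmem : y⁻¹ * (k : G) * y ∈ (P : Subgroup G) := by
      haveI : ((P : Subgroup G).subgroupOf N).Normal := Subgroup.normal_in_normalizer
      obtain ⟨n, hn⟩ := IsPGroup.iff_orderOf.mp P.isPGroup' k
      have ho : orderOf (⟨_, hyk⟩ : N) = p ^ n := by
        rw [Subgroup.orderOf_mk, ← hn, ← Subgroup.orderOf_coe k]
        simpa using orderOf_injective (MulAut.conj y⁻¹).toMonoidHom (MulEquiv.injective _) (k : G)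
      have hndvd : ¬ p ∣ ((P : Subgroup G).subgroupOf N).index := fun hd =>
        P.not_dvd_index (hd.trans (Subgroup.relIndex_dvd_index_of_le hPN))
      obtain ⟨S, hS⟩ := (IsPGroup.of_card (n := n) (G := Subgroup.zpowers (⟨_, hyk⟩ : N))
        (by rw [Nat.card_zpowers, ho])).exists_le_sylow
      set T := (P.isPGroup'.of_equiv (Subgroup.subgroupOfEquivOfLe hPN).symm).toSylow hndvd with hT
      haveI : (T : Subgroup N).Normal := by rw [hT, IsPGroup.toSylow_coe]; infer_instance
      haveI := Sylow.unique_of_normal T this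
      rw [Subsingleton.elim S T, hT, IsPGroup.toSylow_coe] at hS
      exact Subgroup.mem_subgroupOf.mp (hS (Subgroup.mem_zpowers _))
    have := mem_normalizer_of_conj_mem h hp P (g := y⁻¹) k.2 hk1' (by rwa [inv_inv])
    refine hx (QuotientGroup.eq.mpr ?_)
    rw [mul_one]
    exact this
  have hcard : Nat.card X = N.index - 1 := by
    rw [Subgroup.index_eq_card, Nat.card_eq_fintype_card, Nat.card_eq_fintype_card]
    exact Fintype.card_subtype_compl _ |>.trans (by simp)
  rw [← hcard, Nat.card_congr (MulAction.selfEquivSigmaOrbitsQuotientStabilizer (P : Subgroup G) X), Nat.card_sigma]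
  refine Finset.dvd_sum fun o _ => dvd_of_eq ?_
  rw [← Subgroup.index_eq_card, hfree, Subgroup.index_bot]

theorem card_eq_index_mul (P : Sylow p G) :
    Nat.card G = (Subgroup.normalizer ((P : Subgroup G) : Set G)).index *
      ((P : Subgroup G).relIndex (Subgroup.normalizer ((P : Subgroup G) : Set G)) * Nat.card P) := by
  set N := Subgroup.normalizer ((P : Subgroup G) : Set G)
  conv_lhs => rw [← N.card_mul_index, mul_comm]
  congr 1
  rw [← Nat.card_congr (Subgroup.subgroupOfEquivOfLe (Subgroup.le_normalizer (H := (P : Subgroup G)))).toEquiv,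
    mul_comm]
  exact (((P : Subgroup G).subgroupOf N).card_mul_index).symm

omit [Fact p.Prime] in
/-- The degree of an irreducible character divides the order. -/
theorem degree_dvd (ψ : IrrCharacter G) {d : ℕ} (hd : (ψ : G → ℂ) 1 = d) : d ∣ Nat.card G := by
  obtain ⟨n, ρ, hρ, hρc⟩ := ψ.2
  haveI := hρ
  rw [← hρc, ρ.char_one] at hd
  exact (Nat.cast_inj.mp hd) ▸ finrank_dvd_card ρ

end CfsgLib.SpecFive
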