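/-
A simple group with element orders at most five has a Sylow three-subgroup of order at most nine,
with automiser of order two or four in the case of order nine.
-/
import Cfsg.Agent.Lib.SpecFive.Exceptional
import Cfsg.Agent.Lib.SpecFive.Orders
import Cfsg.Agent.Lib.SpecFive.Arith

set_option autoImplicit false
set_option linter.unusedSectionVars false

namespace CfsgLib.SpecFive

open Cfsg CfsgLib.CharTheory
open scoped ComplexConjugate Classical

universe u

variable {G : Type u} [Group G] [Fintype G]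

local instance : Fact (Nat.Prime 3) := ⟨Nat.prime_three⟩
local instance : Fact (Nat.Prime 5) := ⟨Nat.prime_five⟩
local instance : Fact (Nat.Prime 2) := ⟨Nat.prime_two⟩

theorem not_conj_into (h : Spec5 G) {p q : ℕ} [Fact p.Prime] [Fact q.Prime] (hpq : p ≠ q) (P : Sylow p G)
    (R : Sylow q G) : ∀ y ∈ punct (R : Subgroup G), ∀ g : G, g * y * g⁻¹ ∉ (P : Subgroup G) := by
  intro y hy g hg
  obtain ⟨hy1, hy2⟩ := mem_punct.mp hy
  obtain ⟨n, hn⟩ := IsPGroup.iff_orderOf.mp R.isPGroup' ⟨y, hy1⟩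
  obtain ⟨m, hm⟩ := IsPGroup.iff_orderOf.mp P.isPGroup' ⟨_, hg⟩
  rw [Subgroup.orderOf_mk] at hn hm
  rw [show orderOf (g * y * g⁻¹) = orderOf y by
    simpa using orderOf_injective (MulAut.conj g).toMonoidHom (MulEquiv.injective _) y, hn] at hm
  have hn0 : n ≠ 0 := fun e => hy2 (orderOf_eq_one_iff.mp (by rw [hn, e, pow_zero]))
  have hqp : q ∣ p ^ m := hm ▸ dvd_pow_self q hn0
  exact hpq ((Nat.prime_dvd_prime_iff_eq (Fact.out : q.Prime) (Fact.out : p.Prime)).mp
    ((Fact.out : q.Prime).dvd_of_dvd_pow hqp)).symm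

/-- Integrality at a subgroup of constancy, with a congruence and a bound. -/
theorem const_data {K : Subgroup G} (h : FrobTI K) (ψ : IrrCharacter G) (hψ1 : (ψ : G → ℂ) ≠ fun _ => 1)
    {d : ℕ} (hd : (ψ : G → ℂ) 1 = d) {x₀ : G} (hx₀ : x₀ ∈ punct K)
    (hc : ∀ a ∈ punct K, ∀ b ∈ punct K, (ψ : G → ℂ) a = (ψ : G → ℂ) b)
    (hne : (ψ : G → ℂ) x₀ ≠ 0) (he : eIdx K ≤ 8) (he' : eIdx K ∣ Nat.card K - 1) :
    ∃ n : ℤ, n ≠ 0 ∧ n ^ 2 ≤ 8 ∧ (∀ x ∈ punct K, (ψ : G → ℂ) x = n) ∧ (Nat.card K : ℤ) ∣ (d : ℤ) - n := by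
  obtain ⟨n, hn, hdvd⟩ := const_congr K h.one_lt_card (isGenChar_of_char (isCharacter_of_irr ψ.2))
    (d := d) (by rw [hd]; norm_cast) (M := (ψ : G → ℂ) x₀)
    (fun x hx hx1 => hc x (mem_punct.mpr ⟨hx, hx1⟩) x₀ hx₀)
  refine ⟨n, fun e => hne (by rw [hn, e, Int.cast_zero]), ?_, fun x hx => (hc x hx x₀ hx₀).trans hn, hdvd⟩
  have hb := h.bessel_const {ψ} (fun _ => n) (fun φ hφ x hx => by
    rw [Finset.mem_singleton.mp hφ]; exact (hc x hx x₀ hx₀).trans hn) (fun φ hφ => by
    rw [Finset.mem_singleton.mp hφ]; exact hψ1)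
  rw [Finset.sum_singleton] at hb
  have hp := card_punct K
  have hle : eIdx K ≤ (punct K).card := Nat.le_of_dvd (by have := h.one_lt_card; omega) (by
    rwa [show (punct K).card = Nat.card K - 1 by omega])
  rw [← hp] at hb
  push_cast at hb
  have h1 : ((punct K).card : ℤ) * (1 + n ^ 2) ≤ ((punct K).card : ℤ) * 9 := by
    refine hb.trans ?_
    have : (eIdx K : ℤ) ≤ 8 := by exact_mod_cast he
    have : (eIdx K : ℤ) ≤ ((punct K).card : ℤ) := by exact_mod_cast hle
    nlinarith
  have := le_of_mul_le_mul_left h1 (by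
    have := h.one_lt_card
    exact_mod_cast (by omega : 0 < (punct K).card))
  linarith

variable [IsSimpleGroup G]

/-- The degree of a nonprincipal character is none of one and two. -/
theorem two_le_exp (ψ : IrrCharacter G) (hψ1 : (ψ : G → ℂ) ≠ fun _ => 1) {i : ℕ}
    (hd : (ψ : G → ℂ) 1 = ((2 ^ i : ℕ) : ℂ)) {x₀ : G} (hx₀ : x₀ ≠ 1) {n : ℤ} (hn : (ψ : G → ℂ) x₀ = n)
    {q : ℕ} (hq : 5 ≤ q) (hn8 : n ^ 2 ≤ 8) (hdvd : (q : ℤ) ∣ ((2 ^ i : ℕ) : ℤ) - n) : 2 ≤ i := by
  by_contra hi
  have h1 : -3 < n := by nlinarith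
  have h2 : n < 3 := by nlinarith
  have h2i : 1 ≤ 2 ^ i ∧ 2 ^ i ≤ 2 := by
    rcases (by omega : i = 0 ∨ i = 1) with rfl | rfl <;> norm_num
  have hnd : n = ((2 ^ i : ℕ) : ℤ) := by
    have := Int.eq_zero_of_abs_lt_dvd hdvd (by rw [abs_lt]; constructor <;> omega)
    omega
  have hker : x₀ ∈ charKernel (ψ : G → ℂ) (isCharacter_of_irr ψ.2) :=
    (mem_charKernel _ _).mpr (by rw [hn, hd, hnd]; norm_cast)
  rcases (charKernel_normal (ψ : G → ℂ) (isCharacter_of_irr ψ.2)).eq_bot_or_eq_top with e | e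
  · rw [e, Subgroup.mem_bot] at hker; exact hx₀ hker
  · exact hψ1 (irr_eq_one_of_kernel_top ψ.2 fun g =>
      (mem_charKernel (isCharacter_of_irr ψ.2) g).mp (e ▸ Subgroup.mem_top g))

variable (h : Spec5 G) (hG : ¬ IsMulCommutative G)
include h hG

/-- The bound on the two-part. -/
theorem two_part_bound (h2 : 2 ∣ Nat.card G) (P : Sylow 3 G) (R : Sylow 5 G) :
    ((Nat.card P - 1) * 2 ^ (Nat.card G).factorization 2 ≤
        (P : Subgroup G).relIndex (Subgroup.normalizer ((P : Subgroup G) : Set G)) * (Nat.card P * Nat.card R)) ∨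
    ((Nat.card R - 1) * 2 ^ (Nat.card G).factorization 2 ≤
        (R : Subgroup G).relIndex (Subgroup.normalizer ((R : Subgroup G) : Set G)) * (Nat.card R * Nat.card P)) := by
  obtain ⟨S⟩ : Nonempty (Sylow 2 G) := inferInstance
  have hS : (S : Subgroup G) ≠ ⊥ := S.ne_bot_of_dvd_card h2
  haveI : Nontrivial S := (S : Subgroup G).nontrivial_iff_ne_bot.mpr hS
  haveI := S.isPGroup'.center_nontrivial
  obtain ⟨z, hz⟩ := exists_prime_orderOf_dvd_card' (G := Subgroup.center S) 2 (by
    obtain ⟨n, hn⟩ := (S.isPGroup'.to_subgroup (Subgroup.center S)).exists_card_eq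
    have h1 : 1 < Nat.card (Subgroup.center S) := Finite.one_lt_card
    rw [hn] at h1 ⊢
    exact dvd_pow_self 2 fun e => by simp [e] at h1)
  rw [← Subgroup.orderOf_coe, ← Subgroup.orderOf_coe] at hz
  set z' : G := ((z : S) : G) with hz'
  have hcard2 : Nat.card S = 2 ^ (Nat.card G).factorization 2 := S.card_eq_multiplicity
  have hcard3 : Nat.card P = 3 ^ (Nat.card G).factorization 3 := P.card_eq_multiplicity
  have hcard5 : Nat.card R = 5 ^ (Nat.card G).factorization 5 := R.card_eq_multiplicity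
  have hCz : Nat.card (Subgroup.centralizer ({z'} : Set G)) = 2 ^ (Nat.card G).factorization 2 := by
    obtain ⟨T, hT⟩ := (h.isPGroup_centralizer Nat.prime_two hz).exists_le_sylow
    have h1 : (S : Subgroup G) ≤ Subgroup.centralizer ({z'} : Set G) := fun s hs =>
      Subgroup.mem_centralizer_singleton_iff.mpr
        (congrArg Subtype.val (Subgroup.mem_center_iff.mp z.2 ⟨s, hs⟩))
    have a := Subgroup.card_le_of_le h1
    have b := Subgroup.card_le_of_le hT
    rw [T.card_eq_multiplicity] at b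
    rw [hcard2] at a
    omega
  obtain ⟨p, hp, r, hr, hinv⟩ := exists_inverted_prime_element h hG hz
  have main : ∀ (q : ℕ) [Fact q.Prime], q = 3 ∨ q = 5 → orderOf r = q → ∀ Q : Sylow q G,
      (Nat.card Q - 1) * (2 ^ (Nat.card G).factorization 2) ^ 2 ≤
        (Q : Subgroup G).relIndex (Subgroup.normalizer ((Q : Subgroup G) : Set G)) * Nat.card G := by
    intro q _ hq hrq Q
    obtain ⟨T, hT⟩ := (IsPGroup.of_card (n := 1) (G := Subgroup.zpowers r)
      (by rw [Nat.card_zpowers, hrq, pow_one])).exists_le_sylow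
    obtain ⟨g, hg⟩ := MulAction.exists_smul_eq G T Q
    have hgr : g * r * g⁻¹ ∈ (Q : Subgroup G) := by
      rw [← hg, Sylow.smul_def]
      exact Subgroup.smul_mem_pointwise_smul r (MulAut.conj g) _ (hT (Subgroup.mem_zpowers r))
    have hgr1 : g * r * g⁻¹ ≠ 1 := fun e => by
      rw [conj_eq_one_iff] at e
      rw [e, orderOf_one] at hrq
      omega
    have hu : orderOf (g * z' * g⁻¹) = 2 := by
      rw [← hz]
      simpa using orderOf_injective (MulAut.conj g).toMonoidHom (MulEquiv.injective _) z'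
    have huN : g * z' * g⁻¹ ∈ Subgroup.normalizer ((Q : Subgroup G) : Set G) := by
      refine mem_normalizer_of_conj_mem h hq Q hgr hgr1 ?_
      rw [show g * z' * g⁻¹ * (g * r * g⁻¹) * (g * z' * g⁻¹)⁻¹ = g * (z' * r * z'⁻¹) * g⁻¹ by group, hinv,
        show g * r⁻¹ * g⁻¹ = (g * r * g⁻¹)⁻¹ by group]
      exact inv_mem hgr
    have hc := centralizer_sq_le h hq Q hu huN
    have he : Nat.card (Subgroup.centralizer ({g * z' * g⁻¹} : Set G)) = 2 ^ (Nat.card G).factorization 2 := by
      rw [← hCz]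
      have hm := card_isConj_mul_card_centralizer (g * z' * g⁻¹)
      have hm' := card_isConj_mul_card_centralizer z'
      have hcl : Nat.card {x : G // IsConj (g * z' * g⁻¹) x} = Nat.card {x : G // IsConj z' x} :=
        Nat.card_congr (Equiv.subtypeEquivRight fun x =>
          ⟨(isConj_iff.mpr ⟨g, rfl⟩ : IsConj z' (g * z' * g⁻¹)).trans,
            (isConj_iff.mpr ⟨g, rfl⟩ : IsConj z' (g * z' * g⁻¹)).symm.trans⟩)
      rw [hcl, ← hm'] at hm
      haveI : Nonempty {x : G // IsConj z' x} := ⟨⟨z', IsConj.refl z'⟩⟩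
      exact Nat.eq_of_mul_eq_mul_left Nat.card_pos hm
    rw [he] at hc
    exact hc
  have hpos : 0 < 2 ^ (Nat.card G).factorization 2 := by positivity
  have hGc : Nat.card G = 2 ^ (Nat.card G).factorization 2 * Nat.card P * Nat.card R := by
    rw [hcard3, hcard5]; exact h.card_eq
  rcases hp with rfl | rfl
  · refine Or.inl (Nat.le_of_mul_le_mul_left ?_ hpos)
    have h1 := main 3 (Or.inl rfl) hr P
    have h2' := congrArg (fun t => (P : Subgroup G).relIndex (Subgroup.normalizer ((P : Subgroup G) : Set G)) * t) hGc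
    nlinarith
  · refine Or.inr (Nat.le_of_mul_le_mul_left ?_ hpos)
    have h1 := main 5 (Or.inr rfl) hr R
    have h2' := congrArg (fun t => (R : Subgroup G).relIndex (Subgroup.normalizer ((R : Subgroup G) : Set G)) * t) hGc
    nlinarith

/-- A character nonzero at both subgroups, with the bounds on the exponent of its degree. -/
theorem core (P : Sylow 3 G) (R : Sylow 5 G) (h5 : 5 ∣ Nat.card G)
    {b : ℕ} (hb : Nat.card P = 3 ^ b)
    (hcase : 3 ≤ b ∨ (b = 2 ∧ (P : Subgroup G).relIndex (Subgroup.normalizer ((P : Subgroup G) : Set G)) = 8)) :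
    ∃ i n, 2 ≤ i ∧ i ≤ (Nat.card G).factorization 2 ∧ n ≠ 0 ∧ n ^ 2 ≤ 8 ∧
      ((3 ^ b : ℕ) : ℤ) ∣ (2 : ℤ) ^ i - n ∧
      ((Nat.card G).factorization 5 ≤ 2 ∨ 2 * 5 ^ ((Nat.card G).factorization 5 - 1) ≤ i) := by
  classical
  set c := (Nat.card G).factorization 5 with hc
  replace hb : Nat.card (P : Subgroup G) = 3 ^ b := hb
  have hcardR : Nat.card (R : Subgroup G) = 5 ^ c := R.card_eq_multiplicity
  have hb1 : 2 ≤ b := by omega
  have h3 : 3 ∣ Nat.card G := by
    refine dvd_trans ?_ (P : Subgroup G).card_subgroup_dvd_card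
    show 3 ∣ Nat.card P
    rw [hb]
    exact dvd_pow_self 3 (by omega)
  have hP : FrobTI (P : Subgroup G) := frobTI_of_simple h (Or.inl rfl) hG P h3
  have hR : FrobTI (R : Subgroup G) := frobTI_of_simple h (Or.inr rfl) hG R h5
  set e := eIdx (P : Subgroup G) with he
  set e' := eIdx (R : Subgroup G) with he'
  obtain ⟨⟨heP8, hePd⟩, -, -⟩ := sylow_normalizer h (Or.inl rfl) P hP.ne
  obtain ⟨⟨heR8, heRd⟩, -, -⟩ := sylow_normalizer h (Or.inr rfl) R hR.ne
  change e ≤ 8 at heP8
  change e' ≤ 8 at heR8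
  change e ∣ _ at hePd
  change e' ∣ _ at heRd
  have hp := card_punct (P : Subgroup G)
  have hp' := card_punct (R : Subgroup G)
  set p := (punct (P : Subgroup G)).card with hpdef
  set p' := (punct (R : Subgroup G)).card with hpdef'
  have hP9 : 9 ≤ Nat.card P := by rw [hb]; exact le_trans (by norm_num) (Nat.pow_le_pow_right (by norm_num) hb1)
  have hR5 : 5 ≤ Nat.card R := by
    rw [hcardR]
    refine le_trans (by norm_num) (Nat.pow_le_pow_right (by norm_num) (show 1 ≤ c from ?_))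
    exact (Nat.Prime.factorization_pos_of_dvd Nat.prime_five Nat.card_pos.ne' h5)
  have hle' : e' ≤ p' := Nat.le_of_dvd (by omega) (by rwa [show p' = Nat.card R - 1 by omega])
  have hle : e ≤ p := Nat.le_of_dvd (by omega) (by rwa [show p = Nat.card P - 1 by omega])
  have hbig : 3 ≤ b → (e ≤ 2 ∧ 26 ≤ p) ∨ 80 ≤ p := by
    intro hb3
    rcases Nat.lt_or_ge b 4 with hlt | hge
    · obtain rfl : b = 3 := by omega
      rw [hb] at hePd
      norm_num at hePd
      have h27 : Nat.card (P : Subgroup G) = 27 := by rw [hb]; norm_num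
      have : e ∈ Nat.divisors 26 := Nat.mem_divisors.mpr ⟨hePd, by norm_num⟩
      rw [show Nat.divisors 26 = {1, 2, 13, 26} from by decide] at this
      simp only [Finset.mem_insert, Finset.mem_singleton] at this
      omega
    · refine Or.inr ?_
      have : 3 ^ 4 ≤ 3 ^ b := Nat.pow_le_pow_right (by norm_num) hge
      omega
  haveI : Fintype (Subgroup.normalizer ((P : Subgroup G) : Set G)) := Fintype.ofFinite _
  haveI : Fintype (Subgroup.normalizer ((R : Subgroup G) : Set G)) := Fintype.ofFinite _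
  have hnilP : Group.IsNilpotent (P : Subgroup G) := P.isPGroup'.isNilpotent
  have hnilR : Group.IsNilpotent (R : Subgroup G) := R.isPGroup'.isNilpotent
  have hoddP : Odd (Nat.card (P : Subgroup G)) := by rw [hb]; exact Odd.pow (by decide)
  have hoddR : Odd (Nat.card (R : Subgroup G)) := by rw [hcardR]; exact Odd.pow (by decide)
  have hdisR := not_conj_into h (by norm_num : (3 : ℕ) ≠ 5) P R
  have hdisP := not_conj_into h (by norm_num : (5 : ℕ) ≠ 3) R P
  obtain ⟨x₀, hx₀⟩ : ∃ x, x ∈ punct (P : Subgroup G) := Finset.card_pos.mp (by omega)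
  obtain ⟨y₀, hy₀⟩ : ∃ x, x ∈ punct (R : Subgroup G) := Finset.card_pos.mp (by omega)
  -- no character is exceptional for both
  have hboth : ∀ ψ : IrrCharacter G, (∃ a ∈ punct (P : Subgroup G), ∃ b ∈ punct (P : Subgroup G),
      (ψ : G → ℂ) a ≠ (ψ : G → ℂ) b) → ∀ a ∈ punct (R : Subgroup G), ∀ b ∈ punct (R : Subgroup G),
      (ψ : G → ℂ) a = (ψ : G → ℂ) b := by
    rintro ψ ⟨a, ha, a', ha', hne⟩
    rcases hcase with hb3 | ⟨hb2, he8⟩
    · rcases hP.coherent_or_single hnilP hoddP with hs | ⟨⟨E⟩⟩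
      · exfalso
        change _ = e + 1 at hs
        rcases hbig hb3 with h1 | h1 <;> omega
      rcases hR.coherent_or_single hnilR hoddR with hs' | ⟨⟨E'⟩⟩
      · exact fun c hc d hd => hR.const_of_card hs' (isClassFunction_irr ψ.2) c hc d hd
      obtain ⟨m, hm⟩ := E.restriction hP
      have hm0 : m = 0 := by
        have hbd := E.bound hP hm
        change ((p : ℤ)) * m ^ 2 ≤ (e : ℤ) * ((e : ℤ) - 1 + 2 * m) at hbd
        by_contra hm0
        have hm2 : (1 : ℤ) ≤ m ^ 2 := by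
          have : 0 < m ^ 2 := by positivity
          omega
        have hmb : 2 * m ≤ 2 * m ^ 2 := by nlinarith
        rcases hbig hb3 with ⟨h1, h2⟩ | h1
        · have h1' : (e : ℤ) ≤ 2 := by exact_mod_cast h1
          have h2' : (26 : ℤ) ≤ p := by exact_mod_cast h2
          nlinarith
        · have h1' : (80 : ℤ) ≤ p := by exact_mod_cast h1
          have h8 : (e : ℤ) ≤ 8 := by exact_mod_cast heP8
          nlinarith
      exact E.not_both hP hR E' hdisR hdisP (fun χ hχ k hk hk1 => by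
        rw [hm χ hχ k hk hk1, hm0]; simp) ψ ha ha' hne
    · exfalso
      refine hne (hP.const_of_card ?_ (isClassFunction_irr ψ.2) a ha a' ha')
      rw [hb, hb2]
      show _ = e + 1
      rw [show e = 8 from he8]
      norm_num
  -- a character not constant at the first vanishes at the second
  have hvan : ∀ ψ : IrrCharacter G, (ψ : G → ℂ) y₀ ≠ 0 → ∀ a ∈ punct (P : Subgroup G),
      ∀ b ∈ punct (P : Subgroup G), (ψ : G → ℂ) a = (ψ : G → ℂ) b := by
    intro ψ hy a ha a' ha'
    by_contra hne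
    rcases hP.coherent_or_single hnilP hoddP with hs | ⟨⟨E⟩⟩
    · exact hne (hP.const_of_card hs (isClassFunction_irr ψ.2) a ha a' ha')
    rcases hcase with hb3 | ⟨hb2, he8⟩
    swap
    · refine hne (hP.const_of_card ?_ (isClassFunction_irr ψ.2) a ha a' ha')
      rw [hb, hb2]
      show _ = e + 1
      rw [show e = 8 from he8]
      norm_num
    obtain ⟨χ, hχ, hor⟩ := (E.exceptional_iff hP ψ).mpr ⟨a, ha, a', ha', hne⟩
    have hconst : ∀ χ ∈ excSet (P : Subgroup G), ∀ a ∈ punct (R : Subgroup G), ∀ b ∈ punct (R : Subgroup G),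
        E.star χ a = E.star χ b := by
      intro χ' hχ' c hc d hd
      obtain ⟨φ, hφ⟩ := E.exists_irr hP hχ'
      have hφc := hboth φ ((E.exceptional_iff hP φ).mp ⟨χ', hχ', hφ⟩) c hc d hd
      rcases hφ with e | e <;> rw [e] at hφc
      · exact hφc
      · simpa using hφc
    rcases E.off_zero hP hR hdisR hconst with h0 | hbd
    · refine hy ?_
      rcases hor with e | e <;> rw [e]
      · exact h0 χ hχ y₀ hy₀
      · rw [Pi.neg_apply, h0 χ hχ y₀ hy₀, neg_zero]
    · change p' * (e + p) ≤ e' * Nat.card R * e at hbd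
      rw [← hp'] at hbd
      have h9 : e' * (p' + 1) ≤ 9 * p' := by nlinarith [Nat.mul_le_mul_right p' heR8]
      have h10 : p' * (e + p) ≤ p' * (9 * e) := hbd.trans (by nlinarith [Nat.mul_le_mul_right e h9])
      have h11 := Nat.le_of_mul_le_mul_left h10 (by omega)
      rcases hbig hb3 with ⟨h1, h2⟩ | h1 <;> omega
  -- orthogonality
  have hconj : ¬ IsConj x₀ y₀ := fun hcj => by
    obtain ⟨g, hg⟩ := isConj_iff.mp hcj
    exact hdisP x₀ hx₀ g (hg ▸ (mem_punct.mp hy₀).1)
  obtain ⟨ψ, hψ1, hψx, hψy⟩ : ∃ ψ : IrrCharacter G, (ψ : G → ℂ) ≠ (fun _ => 1) ∧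
      (ψ : G → ℂ) x₀ ≠ 0 ∧ (ψ : G → ℂ) y₀ ≠ 0 := by
    by_contra hno
    push Not at hno
    have horth := sum_irr_mul_conj x₀ y₀
    rw [if_neg hconj, Finset.sum_eq_single (⟨fun _ => 1, isIrrCharacter_one⟩ : IrrCharacter G)] at horth
    · simp at horth
    · intro φ _ hφ
      by_cases hx : (φ : G → ℂ) x₀ = 0
      · rw [hx, zero_mul]
      · rw [hno φ (fun e => hφ (Subtype.ext e)) hx, map_zero, mul_zero]
    · exact fun hh => absurd (Finset.mem_univ _) hh
  obtain ⟨d, hdpos, hd⟩ := irr_degree_pos ψ.2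
  obtain ⟨n, hn0, hn8, hnx, hnd⟩ := const_data hP ψ hψ1 hd hx₀ (hvan ψ hψy) hψx heP8 hePd
  rw [hb] at hnd
  have h3d : ¬ 3 ∣ d := by
    intro hd3
    have h3n : (3 : ℤ) ∣ n := by
      have a : (3 : ℤ) ∣ (d : ℤ) - n := dvd_trans (by exact_mod_cast dvd_pow_self 3 (by omega : b ≠ 0)) hnd
      have b' : (3 : ℤ) ∣ (d : ℤ) := by exact_mod_cast hd3
      omega
    have : -3 < n := by nlinarith
    have : n < 3 := by nlinarith
    omega
  have hfive : ¬ 5 ∣ d ∧ (c ≤ 2 ∨ ∃ n' : ℤ, n' ≠ 0 ∧ n' ^ 2 ≤ 8 ∧ ((5 ^ c : ℕ) : ℤ) ∣ (d : ℤ) - n') := by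
    have hc1 : 1 ≤ c := Nat.Prime.factorization_pos_of_dvd Nat.prime_five Nat.card_pos.ne' h5
    by_cases hconstR : ∀ a ∈ punct (R : Subgroup G), ∀ b ∈ punct (R : Subgroup G), (ψ : G → ℂ) a = (ψ : G → ℂ) b
    · obtain ⟨n', hn0', hn8', -, hnd'⟩ := const_data hR ψ hψ1 hd hy₀ hconstR hψy heR8 heRd
      rw [hcardR] at hnd'
      refine ⟨fun hd5 => ?_, Or.inr ⟨n', hn0', hn8', hnd'⟩⟩
      have a : (5 : ℤ) ∣ (d : ℤ) - n' := dvd_trans (by exact_mod_cast dvd_pow_self 5 (by omega : c ≠ 0)) hnd'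
      have b' : (5 : ℤ) ∣ (d : ℤ) := by exact_mod_cast hd5
      have : -3 < n' := by nlinarith
      have : n' < 3 := by nlinarith
      omega
    · push Not at hconstR
      obtain ⟨a, ha, a', ha', hne⟩ := hconstR
      rcases hR.coherent_or_single hnilR hoddR with hs' | ⟨⟨E'⟩⟩
      · exact absurd (hR.const_of_card hs' (isClassFunction_irr ψ.2) a ha a' ha') hne
      obtain ⟨χ, hχ, hor⟩ := (E'.exceptional_iff hR ψ).mpr ⟨a, ha, a', ha', hne⟩
      have hconst : ∀ χ ∈ excSet (R : Subgroup G), ∀ a ∈ punct (P : Subgroup G), ∀ b ∈ punct (P : Subgroup G),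
          E'.star χ a = E'.star χ b := by
        intro χ' hχ' c hc d hd
        obtain ⟨φ, hφ⟩ := E'.exists_irr hR hχ'
        obtain ⟨u, hu, v, hv, huv⟩ := (E'.exceptional_iff hR φ).mp ⟨χ', hχ', hφ⟩
        have hφc : (φ : G → ℂ) c = (φ : G → ℂ) d := by
          by_contra hcd
          exact huv (hboth φ ⟨c, hc, d, hd, hcd⟩ u hu v hv)
        rcases hφ with e | e <;> rw [e] at hφc
        · exact hφc
        · simpa using hφc
      rcases E'.off_zero hR hP hdisP hconst with h0 | hbd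
      · refine absurd ?_ hψx
        rcases hor with e | e <;> rw [e]
        · exact h0 χ hχ x₀ hx₀
        · rw [Pi.neg_apply, h0 χ hχ x₀ hx₀, neg_zero]
      change p * (e' + p') ≤ e * Nat.card P * e' at hbd
      rw [← hp] at hbd
      have h9 : e * (p + 1) ≤ 9 * p := by nlinarith [Nat.mul_le_mul_right p heP8]
      have h10 : p * (e' + p') ≤ p * (9 * e') := hbd.trans (by nlinarith [Nat.mul_le_mul_right e' h9])
      have h11 := Nat.le_of_mul_le_mul_left h10 (by omega)
      have hc2 : c ≤ 2 := by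
        by_contra hc3
        have : 5 ^ 3 ≤ 5 ^ c := Nat.pow_le_pow_right (by norm_num) (by omega)
        omega
      refine ⟨?_, Or.inl hc2⟩
      obtain ⟨m, hm⟩ := E'.restriction hR
      obtain ⟨θ, -, hθ, hθab⟩ := hR.exc_degree hχ
      have hab : ∀ a ∈ (R : Subgroup G), ∀ b ∈ (R : Subgroup G), a * b = b * a := by
        intro a ha b hb
        rcases (by omega : c = 1 ∨ c = 2) with rfl' | rfl'
        · rw [rfl', pow_one] at hcardR
          haveI := isCyclic_of_prime_card hcardR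
          exact congrArg Subtype.val ((IsCyclic.commGroup (α := (R : Subgroup G))).mul_comm ⟨a, ha⟩ ⟨b, hb⟩)
        · rw [rfl'] at hcardR
          exact congrArg Subtype.val (IsPGroup.commutative_of_card_eq_prime_sq hcardR ⟨a, ha⟩ ⟨b, hb⟩)
      rw [hθab hab] at hθ
      have hdc := E'.degree_congr hR hm hχ hθ hor hd
      have hbd' := E'.bound hR hm
      change ((p' : ℤ)) * m ^ 2 ≤ (e' : ℤ) * ((e' : ℤ) - 1 + 2 * m) at hbd'
      have hrel : (e' : ℤ) ≤ (p' : ℤ) := by exact_mod_cast hle'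
      have hm3 : -1 ≤ m ∧ m ≤ 3 := by
        have h8 : (e' : ℤ) ≤ 8 := by exact_mod_cast heR8
        have hpos : (0 : ℤ) < e' := by exact_mod_cast hR.eIdx_pos
        have h0 : (e' : ℤ) * m ^ 2 ≤ (e' : ℤ) * ((e' : ℤ) - 1 + 2 * m) :=
          (mul_le_mul_of_nonneg_right hrel (sq_nonneg m)).trans hbd'
        have h1 := le_of_mul_le_mul_left h0 hpos
        constructor
        · by_contra hlt
          push Not at hlt
          have : m ≤ -2 := by omega
          nlinarith
        · by_contra hlt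
          push Not at hlt
          have : 4 ≤ m := by omega
          nlinarith
      have hnsingle : p' ≠ e' := fun e2 => hne
        (hR.const_of_card (show Nat.card (R : Subgroup G) = e' + 1 by omega) (isClassFunction_irr ψ.2) a ha a' ha')
      have he1 : e' ≠ 1 := fun he1 => by
        have := normalizer_ne h (Or.inr rfl) R hR.ne (sylow_ne_top hG R)
        exact this he1
      have hpR : e' ∣ p' := by rwa [show p' = Nat.card R - 1 by omega]
      have hnot : ¬ (5 : ℤ) ∣ (e' : ℤ) + m := by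
        have hp4 : p' = 4 ∨ p' = 24 := by
          rw [← hp'] at hcardR
          rcases (by omega : c = 1 ∨ c = 2) with rfl' | rfl' <;> rw [rfl'] at hcardR <;> norm_num at hcardR <;> omega
        have he0 : 0 < e' := hR.eIdx_pos
        obtain ⟨hm1, hm2⟩ := hm3
        rcases hp4 with h4 | h4 <;> rw [h4] at hpR hbd' hnsingle <;> interval_cases e' <;> interval_cases m <;>
          first | omega | (exfalso; norm_num at hpR) | (exfalso; norm_num at hbd')
      intro hd5
      refine hnot ?_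
      have h5q : (5 : ℤ) ∣ (Nat.card (R : Subgroup G) : ℤ) := by
        rw [hcardR]; exact_mod_cast dvd_pow_self 5 (by omega : c ≠ 0)
      have b' : (5 : ℤ) ∣ (d : ℤ) := by exact_mod_cast hd5
      rcases hdc with hdc | hdc <;>
      · have := h5q.trans hdc
        push_cast at this
        change (5 : ℤ) ∣ _ at this
        rw [show ((eIdx (R : Subgroup G) : ℕ) : ℤ) = (e' : ℤ) from rfl] at this
        omega
  obtain ⟨i, hia, rfl⟩ : ∃ i, i ≤ (Nat.card G).factorization 2 ∧ d = 2 ^ i := by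
    have hdG := degree_dvd ψ hd
    rw [h.card_eq] at hdG
    have hd2 : d ∣ 2 ^ (Nat.card G).factorization 2 :=
      Nat.Coprime.dvd_of_dvd_mul_right ((Nat.prime_three.coprime_iff_not_dvd.mpr h3d).symm.pow_right _)
        (Nat.Coprime.dvd_of_dvd_mul_right ((Nat.prime_five.coprime_iff_not_dvd.mpr hfive.1).symm.pow_right _) hdG)
    exact (Nat.dvd_prime_pow Nat.prime_two).mp hd2
  have hi2 : 2 ≤ i := two_le_exp ψ hψ1 hd (mem_punct.mp hx₀).2 (hnx x₀ hx₀)
    (q := 3 ^ b) (le_trans (by norm_num : 5 ≤ 3 ^ 2) (Nat.pow_le_pow_right (by norm_num) hb1)) hn8 hnd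
  push_cast at hnd
  refine ⟨i, n, hi2, hia, hn0, hn8, by push_cast; exact hnd, ?_⟩
  rcases hfive.2 with h1 | ⟨n', hn0', hn8', hd'⟩
  · exact Or.inl h1
  · push_cast at hd'
    exact Or.inr (Arith.lower_five
      (Nat.Prime.factorization_pos_of_dvd Nat.prime_five Nat.card_pos.ne' h5) hi2 hn0' hn8' (by push_cast; exact hd'))

/-- **The case `|P| = 9` with quaternion automiser.** -/
theorem not_nine_eight (P : Sylow 3 G) (R : Sylow 5 G) (h2 : 2 ∣ Nat.card G) (h5 : 5 ∣ Nat.card G)
    (hb : Nat.card P = 9)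
    (he8 : (P : Subgroup G).relIndex (Subgroup.normalizer ((P : Subgroup G) : Set G)) = 8) : False := by
  classical
  set a := (Nat.card G).factorization 2 with ha
  set c := (Nat.card G).factorization 5 with hc
  have hcardR : Nat.card R = 5 ^ c := R.card_eq_multiplicity
  have hc1 : 1 ≤ c := Nat.Prime.factorization_pos_of_dvd Nat.prime_five Nat.card_pos.ne' h5
  have h3 : 3 ∣ Nat.card G := dvd_trans (by show 3 ∣ Nat.card P; rw [hb]; norm_num) (P : Subgroup G).card_subgroup_dvd_card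
  have hP : FrobTI (P : Subgroup G) := frobTI_of_simple h (Or.inl rfl) hG P h3
  have hR : FrobTI (R : Subgroup G) := frobTI_of_simple h (Or.inr rfl) hG R h5
  set e' := (R : Subgroup G).relIndex (Subgroup.normalizer ((R : Subgroup G) : Set G)) with he'
  obtain ⟨⟨heR8, heRd⟩, -, -⟩ := sylow_normalizer h (Or.inr rfl) R hR.ne
  have he2 : 2 ≤ e' := by
    have h1 := normalizer_ne h (Or.inr rfl) R hR.ne (sylow_ne_top hG R)
    have h0 : e' ≠ 0 := Subgroup.index_ne_zero_of_finite
    omega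
  obtain ⟨i, -, -, hia, -, -, -, hci⟩ := core h hG P R h5 (b := 2) (by rw [hb]; norm_num) (Or.inr ⟨rfl, he8⟩)
  have hA : 2 ^ a ≤ 9 * 5 ^ c ∨ 2 ^ a ≤ 90 := by
    rcases two_part_bound h hG h2 P R with h1 | h1
    · exact Or.inl (hcardR ▸ Arith.two_bound' (le_of_eq he8) (by omega) h1)
    · refine Or.inr ?_
      have := Arith.two_bound heR8 (by rw [hcardR]; exact le_trans (by norm_num) (Nat.pow_le_pow_right (by norm_num) hc1)) h1
      rw [hb] at this
      exact this
  have hc2 : c ≤ 2 := hci.elim id fun h5' => Arith.five_small hia h5' hA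
  have hb2 : (Nat.card G).factorization 3 = 2 := by
    have := P.card_eq_multiplicity
    rw [hb] at this
    exact Nat.pow_right_injective (by norm_num : 2 ≤ 3) (this.symm.trans (by norm_num : (9:ℕ) = 3 ^ 2))
  have hG' : Nat.card G = 2 ^ a * 9 * 5 ^ c := by
    rw [ha, hc]
    conv_lhs => rw [h.card_eq, hb2]
    norm_num
  have hPi := card_eq_index_mul P
  rw [he8, hb] at hPi
  have ha3 : 3 ≤ a := by
    refine (Nat.Prime.pow_dvd_iff_le_factorization Nat.prime_two Nat.card_pos.ne').mp ?_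
    exact ⟨(Subgroup.normalizer ((P : Subgroup G) : Set G)).index * 9, by rw [hPi]; ring⟩
  have ha7 : a ≤ 7 := by
    by_contra hlt
    have : 2 ^ 8 ≤ 2 ^ a := Nat.pow_le_pow_right (by norm_num) (by omega)
    have : 5 ^ c ≤ 5 ^ 2 := Nat.pow_le_pow_right (by norm_num) hc2
    norm_num at *
    omega
  have hidx : (Subgroup.normalizer ((P : Subgroup G) : Set G)).index = 2 ^ (a - 3) * 5 ^ c := by
    have h8 : 2 ^ a = 8 * 2 ^ (a - 3) := by
      rw [show (8 : ℕ) = 2 ^ 3 by norm_num, ← pow_add]; congr 1; omega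
    rw [hG', h8] at hPi
    have h72 : (Subgroup.normalizer ((P : Subgroup G) : Set G)).index * 72 = 2 ^ (a - 3) * 5 ^ c * 72 := by
      rw [show (Subgroup.normalizer ((P : Subgroup G) : Set G)).index * 72 =
        (Subgroup.normalizer ((P : Subgroup G) : Set G)).index * (8 * 9) by norm_num, ← hPi]
      ring
    exact Nat.eq_of_mul_eq_mul_right (by norm_num) h72
  have h9 : 2 ^ (a - 3) * 5 ^ c % 9 = 1 := by
    have := index_normalizer_congr h (Or.inl rfl) P
    rw [hb, hidx] at this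
    have : 1 ≤ 2 ^ (a - 3) * 5 ^ c := Nat.mul_pos (by positivity) (by positivity)
    omega
  have h5i : ∃ n, n * e' = 2 ^ a * 9 ∧ n % 5 ^ c = 1 := by
    refine ⟨(Subgroup.normalizer ((R : Subgroup G) : Set G)).index, ?_, ?_⟩
    · have := card_eq_index_mul R
      rw [hcardR, hG', ← mul_assoc] at this
      exact Nat.eq_of_mul_eq_mul_right (by positivity) this.symm
    · have := index_normalizer_congr h (Or.inr rfl) R
      rw [hcardR] at this
      obtain ⟨k, hk⟩ := this
      have hpos : 1 ≤ (Subgroup.normalizer ((R : Subgroup G) : Set G)).index :=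
        Nat.one_le_iff_ne_zero.mpr Subgroup.index_ne_zero_of_finite
      have h25 : 5 ^ 1 ≤ 5 ^ c := Nat.pow_le_pow_right (by norm_num) hc1
      rw [show (Subgroup.normalizer ((R : Subgroup G) : Set G)).index = 1 + 5 ^ c * k by omega,
        Nat.add_mul_mod_self_left, Nat.mod_eq_of_lt (by omega)]
  rw [hcardR] at heRd
  obtain ⟨ha4, hc5, he4⟩ := Arith.nine_orders ha7 ha3 hc2 hc1 heR8 he2 heRd h9 h5i
  replace he4 : e' = 4 := he4
  rw [hc5, pow_one] at hcardR
  have hsP : Nat.card (P : Subgroup G) = eIdx (P : Subgroup G) + 1 := by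
    change Nat.card P = (P : Subgroup G).relIndex _ + 1
    rw [hb, he8]
  have hsR : Nat.card (R : Subgroup G) = eIdx (R : Subgroup G) + 1 := by
    change Nat.card R = (R : Subgroup G).relIndex _ + 1
    rw [hcardR]; change 5 = e' + 1; rw [he4]
  have hp := card_punct (P : Subgroup G)
  have hp' := card_punct (R : Subgroup G)
  have hb' : Nat.card (P : Subgroup G) = 9 := hb
  have hR' : Nat.card (R : Subgroup G) = 5 := hcardR
  obtain ⟨x₀, hx₀⟩ : ∃ x, x ∈ punct (P : Subgroup G) := Finset.card_pos.mp (by omega)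
  obtain ⟨y₀, hy₀⟩ : ∃ x, x ∈ punct (R : Subgroup G) := Finset.card_pos.mp (by omega)
  have hy1 : y₀ ≠ 1 := (mem_punct.mp hy₀).2
  have hprod : ∀ ψ : IrrCharacter G, (ψ : G → ℂ) ≠ (fun _ => 1) → ∃ z : ℤ, 2 ∣ z ∧
      (ψ : G → ℂ) x₀ * conj ((ψ : G → ℂ) y₀) = z := by
    intro ψ hψ1
    by_cases hx : (ψ : G → ℂ) x₀ = 0
    · exact ⟨0, dvd_zero _, by simp [hx]⟩
    by_cases hy : (ψ : G → ℂ) y₀ = 0
    · exact ⟨0, dvd_zero _, by simp [hy]⟩
    obtain ⟨d, hdpos, hd⟩ := irr_degree_pos ψ.2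
    obtain ⟨n, hn0, hn8, hnx, hnd⟩ := const_data hP ψ hψ1 hd hx₀
      (hP.const_of_card hsP (isClassFunction_irr ψ.2)) hx (by change (P : Subgroup G).relIndex _ ≤ 8; omega)
      (by change (P : Subgroup G).relIndex _ ∣ _; rw [he8, hb'])
    obtain ⟨n', hn0', hn8', hny, hnd'⟩ := const_data hR ψ hψ1 hd hy₀
      (hR.const_of_card hsR (isClassFunction_irr ψ.2)) hy heR8 (by rw [hR']; change e' ∣ _; simp [he4])
    rw [hb'] at hnd
    rw [hR'] at hnd'
    refine ⟨n * n', ?_, by rw [hnx x₀ hx₀, hny y₀ hy₀, map_intCast]; push_cast; ring⟩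
    have b1 : -3 < n := by nlinarith
    have b2 : n < 3 := by nlinarith
    have b1' : -3 < n' := by nlinarith
    have b2' : n' < 3 := by nlinarith
    have h3d : ¬ 3 ∣ d := by omega
    have h5d : ¬ 5 ∣ d := by omega
    obtain ⟨i, hi, rfl⟩ : ∃ i, i ≤ 4 ∧ d = 2 ^ i := by
      have hdG := degree_dvd ψ hd
      rw [hG', ha4, hc5, show (9 : ℕ) = 3 ^ 2 by norm_num] at hdG
      have hd2 : d ∣ 2 ^ 4 :=
        Nat.Coprime.dvd_of_dvd_mul_right ((Nat.prime_three.coprime_iff_not_dvd.mpr h3d).symm.pow_right _)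
          (Nat.Coprime.dvd_of_dvd_mul_right ((Nat.prime_five.coprime_iff_not_dvd.mpr h5d).symm.pow_right _) hdG)
      exact (Nat.dvd_prime_pow Nat.prime_two).mp hd2
    have hi2 := two_le_exp ψ hψ1 hd (mem_punct.mp hx₀).2 (hnx x₀ hx₀) (q := 9) (by norm_num) hn8 hnd
    interval_cases i
    · exfalso; norm_num at hnd; omega
    · -- degree eight: the second value is `± 2`, and the column of the element of order five is wrong
      exfalso
      norm_num at hnd' hd
      have hn2 : n' = -2 := by omega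
      subst hn2
      have hzero : ∀ φ : IrrCharacter G, φ ≠ ψ → (φ : G → ℂ) ≠ (fun _ => 1) → (φ : G → ℂ) y₀ = 0 := by
        intro φ hφ hφ1
        by_contra hne
        obtain ⟨dφ, -, hdφ⟩ := irr_degree_pos φ.2
        obtain ⟨k, hk0, -, hky, -⟩ := const_data hR φ hφ1 hdφ hy₀
          (hR.const_of_card hsR (isClassFunction_irr φ.2)) hne heR8 (by rw [hR']; change e' ∣ _; simp [he4])
        have hbs := hR.bessel_const {ψ, φ} (fun χ => if χ = ψ then -2 else k) (fun χ hχ x hxm => by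
            rcases Finset.mem_insert.mp hχ with rfl | hχ
            · rw [if_pos rfl]; exact hny x hxm
            · rw [Finset.mem_singleton.mp hχ, if_neg hφ]; exact hky x hxm) (fun χ hχ => by
            rcases Finset.mem_insert.mp hχ with rfl | hχ
            · exact hψ1
            · rw [Finset.mem_singleton.mp hχ]; exact hφ1)
        rw [Finset.sum_insert (by simpa using fun e => hφ e.symm), Finset.sum_singleton, if_pos rfl, if_neg hφ,
          show (punct (R : Subgroup G)).card = 4 by omega, hR',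
          show eIdx (R : Subgroup G) = 4 from he4] at hbs
        have : 1 ≤ k ^ 2 := by
          have : 0 < k ^ 2 := by positivity
          omega
        push_cast at hbs
        omega
      have hcol := sum_irr_apply_mul_degree y₀
      rw [if_neg hy1] at hcol
      set t : IrrCharacter G := ⟨fun _ => 1, isIrrCharacter_one⟩ with ht
      have htψ : t ≠ ψ := fun e => hψ1 (by rw [← e])
      rw [Finset.sum_eq_add t ψ htψ (fun φ _ hφ => by rw [hzero φ hφ.2 (fun e => hφ.1 (Subtype.ext e)), zero_mul])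
        (fun hh => absurd (Finset.mem_univ _) hh) (fun hh => absurd (Finset.mem_univ _) hh), hny y₀ hy₀, hd] at hcol
      simp only [ht] at hcol
      norm_num at hcol
    · norm_num at hnd hnd'
      have hn2 : n = -2 := by omega
      exact hn2 ▸ ⟨-n', by ring⟩
  have hconj : ¬ IsConj x₀ y₀ := fun hcj => by
    obtain ⟨g, hg⟩ := isConj_iff.mp hcj
    exact not_conj_into h (by norm_num : (5 : ℕ) ≠ 3) R P x₀ hx₀ g (hg ▸ (mem_punct.mp hy₀).1)
  have horth := sum_irr_mul_conj x₀ y₀
  set t : IrrCharacter G := ⟨fun _ => 1, isIrrCharacter_one⟩ with ht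
  rw [if_neg hconj, ← Finset.add_sum_erase Finset.univ _ (Finset.mem_univ t)] at horth
  choose z hz2 hz using fun (ψ : IrrCharacter G) (hψ : ψ ∈ Finset.univ.erase t) =>
    hprod ψ (fun e => (Finset.mem_erase.mp hψ).1 (Subtype.ext e))
  rw [← Finset.sum_attach, Finset.sum_congr rfl (fun ψ _ => hz ψ.1 ψ.2), ← Int.cast_sum] at horth
  simp only [ht, map_one, mul_one] at horth
  have h0 : (1 : ℤ) + ∑ ψ ∈ (Finset.univ.erase t).attach, z ψ.1 ψ.2 = 0 := by exact_mod_cast horth
  have : (2 : ℤ) ∣ ∑ ψ ∈ (Finset.univ.erase t).attach, z ψ.1 ψ.2 := Finset.dvd_sum fun ψ _ => hz2 ψ.1 ψ.2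
  omega

/-- **The simple case.** -/
theorem simple_three (P : Sylow 3 G) (h2 : 2 ∣ Nat.card G) (h3 : 3 ∣ Nat.card G) (h5 : 5 ∣ Nat.card G) :
    Nat.card P = 3 ∨ (Nat.card P = 9 ∧
      ((P : Subgroup G).relIndex (Subgroup.normalizer ((P : Subgroup G) : Set G)) = 2 ∨
        (P : Subgroup G).relIndex (Subgroup.normalizer ((P : Subgroup G) : Set G)) = 4)) := by
  obtain ⟨R⟩ : Nonempty (Sylow 5 G) := inferInstance
  set b := (Nat.card G).factorization 3 with hbdef
  have hb : Nat.card P = 3 ^ b := P.card_eq_multiplicity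
  have hb1 : 1 ≤ b := Nat.Prime.factorization_pos_of_dvd Nat.prime_three Nat.card_pos.ne' h3
  have hP : FrobTI (P : Subgroup G) := frobTI_of_simple h (Or.inl rfl) hG P h3
  obtain ⟨⟨heP8, hePd⟩, -, -⟩ := sylow_normalizer h (Or.inl rfl) P hP.ne
  rcases (by omega : b = 1 ∨ b = 2 ∨ 3 ≤ b) with h1 | h2' | h3'
  · exact Or.inl (by rw [hb, h1]; norm_num)
  · have h9 : Nat.card P = 9 := by rw [hb, h2']; norm_num
    refine Or.inr ⟨h9, ?_⟩
    have hne1 := normalizer_ne h (Or.inl rfl) P hP.ne (sylow_ne_top hG P)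
    have hne8 := fun e => not_nine_eight h hG P R h2 h5 h9 e
    rw [h9] at hePd
    norm_num at hePd
    have hmem : (P : Subgroup G).relIndex (Subgroup.normalizer ((P : Subgroup G) : Set G)) ∈ Nat.divisors 8 :=
      Nat.mem_divisors.mpr ⟨hePd, by norm_num⟩
    rw [show Nat.divisors 8 = {1, 2, 4, 8} from by decide] at hmem
    simp only [Finset.mem_insert, Finset.mem_singleton] at hmem
    rcases hmem with e | e | e | e
    · exact absurd e hne1
    · exact Or.inl e
    · exact Or.inr e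
    · exact (hne8 e).elim
  · exfalso
    obtain ⟨i, n, hi2, hia, hn0, hn8, hdvd, hci⟩ := core h hG P R h5 hb (Or.inl h3')
    refine Arith.final_three h3' hia (Arith.lower_three hi2 hn0 hn8 hdvd) hci ?_
    have hcR : Nat.card R = 5 ^ (Nat.card G).factorization 5 := R.card_eq_multiplicity
    have hc1 : 1 ≤ (Nat.card G).factorization 5 :=
      Nat.Prime.factorization_pos_of_dvd Nat.prime_five Nat.card_pos.ne' h5
    obtain ⟨⟨heR8, -⟩, -, -⟩ := sylow_normalizer h (Or.inr rfl) R (R.ne_bot_of_dvd_card h5)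
    rcases two_part_bound h hG h2 P R with h1 | h1
    · refine Or.inl (hcR ▸ Arith.two_bound' heP8 ?_ h1)
      rw [hb]; exact le_trans (by norm_num : 9 ≤ 3 ^ 2) (Nat.pow_le_pow_right (by norm_num) (by omega))
    · refine Or.inr (hb ▸ Arith.two_bound heR8 ?_ h1)
      rw [hcR]; exact le_trans (by norm_num) (Nat.pow_le_pow_right (by norm_num) hc1)

end CfsgLib.SpecFive
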