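/-
Groups with element orders exactly one to five.
-/
import Cfsg.Agent.Lib.SpecFive.Simple
import Cfsg.Agent.Lib.SpecFive.AltSix
import Cfsg.Agent.Lib.Elementary
import Cfsg.Agent.Lib.Components
import Cfsg.Agent.S3331
import Cfsg.Agent.S3341

set_option autoImplicit false
set_option linter.unusedSectionVars false

namespace CfsgLib.SpecFive

open Cfsg

universe u

variable {G : Type u} [Group G] [Finite G]

local instance : Fact (Nat.Prime 3) := ⟨Nat.prime_three⟩
local instance : Fact (Nat.Prime 5) := ⟨Nat.prime_five⟩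
local instance : Fact (Nat.Prime 2) := ⟨Nat.prime_two⟩

/-- The hypotheses used after the reduction. -/
structure Big (G : Type u) [Group G] : Prop where
  spec : Spec5 G
  two : 2 ∣ Nat.card G
  three : 9 ∣ Nat.card G
  five : 5 ∣ Nat.card G

theorem not_normal_odd (h : Big G) {p : ℕ} [Fact p.Prime] (hp : p = 3 ∨ p = 5) {M : Subgroup G} [M.Normal]
    (hM : IsPGroup p M) : M = ⊥ := by
  by_contra hM1
  obtain ⟨P⟩ : Nonempty (Sylow p G) := inferInstance
  obtain ⟨-, he, -⟩ := h.spec.sylow_of_normal hp hM hM1 P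
  obtain ⟨⟨n, hn⟩, -⟩ := he h.two
  obtain ⟨k, hk⟩ := P.isPGroup'.exists_card_eq
  have hG : Nat.card G = p ^ k * 2 ^ n := by rw [← hk, ← hn]; exact (Subgroup.card_mul_index _).symm
  obtain ⟨q, hq, hqp, hqd⟩ : ∃ q, q.Prime ∧ (q ≠ p ∧ q ≠ 2) ∧ q ∣ Nat.card G := by
    rcases hp with rfl | rfl
    · exact ⟨5, Nat.prime_five, by norm_num, h.five⟩
    · exact ⟨3, Nat.prime_three, by norm_num, dvd_trans (by norm_num) h.three⟩
  rw [hG] at hqd
  rcases hq.dvd_mul.mp hqd with e | e
  · exact hqp.1 ((Nat.prime_dvd_prime_iff_eq hq Fact.out).mp (hq.dvd_of_dvd_pow e))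
  · exact hqp.2 ((Nat.prime_dvd_prime_iff_eq hq Nat.prime_two).mp (hq.dvd_of_dvd_pow e))

theorem not_normal_two (h : Big G) {M : Subgroup G} [M.Normal] (hM : IsPGroup 2 M) : M = ⊥ := by
  classical
  by_contra hM1
  haveI : Nontrivial M := M.nontrivial_iff_ne_bot.mpr hM1
  haveI := hM.center_nontrivial
  obtain ⟨v0, hv0⟩ := exists_ne (1 : Subgroup.center M)
  set V := (Subgroup.center M).map M.subtype with hV
  haveI : V.Normal := by rw [hV]; infer_instance
  have hVcomm : ∀ a ∈ V, ∀ b ∈ V, Commute a b := by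
    rintro _ ⟨a, ha, rfl⟩ _ ⟨b, hb, rfl⟩
    exact congrArg Subtype.val (Subgroup.mem_center_iff.mp hb a)
  obtain ⟨P⟩ : Nonempty (Sylow 3 G) := inferInstance
  have hP9 : 9 ∣ Nat.card P := by
    rw [P.card_eq_multiplicity, show (9 : ℕ) = 3 ^ 2 by norm_num]
    refine pow_dvd_pow 3 ((Nat.Prime.pow_dvd_iff_le_factorization Nat.prime_three Nat.card_pos.ne').mp ?_)
    exact h.three
  haveI : Nontrivial P := Finite.one_lt_card_iff_nontrivial.mp (by
    have := Nat.le_of_dvd Nat.card_pos hP9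
    exact lt_of_lt_of_le (by norm_num) this)
  haveI := P.isPGroup'.center_nontrivial
  obtain ⟨⟨a, haz⟩, ha1'⟩ := exists_ne (1 : Subgroup.center P)
  have ha3 : ∀ x : P, (x : G) ^ 3 = 1 := fun x => h.spec.pgroup_pow_eq_one (Or.inl rfl) P.isPGroup' x.2
  have ha1 : (a : G) ≠ 1 := fun e => ha1' (Subtype.ext (Subtype.ext e))
  obtain ⟨c, hc⟩ : ∃ c : P, (c : G) ∉ Subgroup.zpowers (a : G) := by
    by_contra hno
    push Not at hno
    have hle := Subgroup.card_le_of_le (show (P : Subgroup G) ≤ Subgroup.zpowers (a : G) from fun x hx => hno ⟨x, hx⟩)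
    rw [Nat.card_zpowers, orderOf_eq_prime (ha3 a) ha1] at hle
    have := Nat.le_of_dvd Nat.card_pos hP9
    omega
  have hac : Commute (a : G) (c : G) := congrArg Subtype.val (Subgroup.mem_center_iff.mp haz c).symm
  have hnorm : ∀ x : G, x ^ 3 = 1 → x ≠ 1 → ∀ v ∈ V, v * (x * v * x⁻¹) * (x ^ 2 * v * (x ^ 2)⁻¹) = 1 := by
    intro x hx hx1 v hv
    set w := v * (x * v * x⁻¹) * (x ^ 2 * v * (x ^ 2)⁻¹) with hw
    have m1 : x * v * x⁻¹ ∈ V := ‹V.Normal›.conj_mem v hv x
    have m2 : x ^ 2 * v * (x ^ 2)⁻¹ ∈ V := ‹V.Normal›.conj_mem v hv _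
    have hwV : w ∈ V := mul_mem (mul_mem hv m1) m2
    have hx3 : x * x ^ 2 = 1 := by rw [← pow_succ']; exact hx
    have hfix : x * w * x⁻¹ = w := by
      have e : x * w * x⁻¹ = (x * v * x⁻¹) * (x ^ 2 * v * (x ^ 2)⁻¹) * v := by
        rw [hw]
        calc x * (v * (x * v * x⁻¹) * (x ^ 2 * v * (x ^ 2)⁻¹)) * x⁻¹
            = (x * v * x⁻¹) * ((x * x) * v * (x * x)⁻¹) * ((x * x ^ 2) * v * (x * x ^ 2)⁻¹) := by group
          _ = _ := by rw [hx3, sq]; group
      rw [e, hw, ((hVcomm v hv _ m1).mul_right (hVcomm v hv _ m2)).eq.symm]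
      group
    by_contra hw1
    obtain ⟨k, hk⟩ := IsPGroup.iff_orderOf.mp hM ⟨w, Subgroup.map_subtype_le _ hwV⟩
    rw [Subgroup.orderOf_mk] at hk
    have hk0 : k ≠ 0 := fun e => hw1 (orderOf_eq_one_iff.mp (by rw [hk, e, pow_zero]))
    refine h.spec.not_commute Nat.prime_two Nat.prime_three (by norm_num) (x := w) (y := x) ?_
      (by rw [hk]; exact dvd_pow_self 2 hk0) (dvd_of_eq (orderOf_eq_prime hx hx1).symm)
    exact (mul_inv_eq_iff_eq_mul.mp hfix).symm
  have hv0V : ((v0 : M) : G) ∈ V := ⟨(v0 : M), v0.2, rfl⟩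
  set v : G := ((v0 : M) : G) with hv
  have hc1 : (c : G) ≠ 1 := fun e => hc (e ▸ one_mem _)
  have hacn : (a : G) * c ≠ 1 := fun e => hc (by
    rw [show (c : G) = (a : G)⁻¹ from eq_inv_of_mul_eq_one_right e]; exact inv_mem (Subgroup.mem_zpowers _))
  have ha2cn : (a : G) ^ 2 * c ≠ 1 := fun e => hc (by
    rw [show (c : G) = ((a : G) ^ 2)⁻¹ from eq_inv_of_mul_eq_one_right e]
    exact inv_mem (pow_mem (Subgroup.mem_zpowers _) _))
  have hac3 : ((a : G) * c) ^ 3 = 1 := by rw [hac.mul_pow, ha3 a, ha3 c, one_mul]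
  have ha2c3 : ((a : G) ^ 2 * c) ^ 3 = 1 := by
    rw [(hac.pow_left 2).mul_pow, ← pow_mul, mul_comm 2 3, pow_mul, ha3 a, one_pow, one_mul, ha3 c]
  -- conjugates in the commutative group `V`
  let φ : G → V → V := fun g x => ⟨g * x * g⁻¹, ‹V.Normal›.conj_mem x.1 x.2 g⟩
  letI : CommGroup V := { (inferInstance : Group V) with mul_comm := fun x y => Subtype.ext (hVcomm x x.2 y y.2) }
  set v' : V := ⟨v, hv0V⟩
  have hN : ∀ x : G, x ^ 3 = 1 → x ≠ 1 → ∀ w : V, w * φ x w * φ (x ^ 2) w = 1 := fun x hx hx1 w =>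
    Subtype.ext (hnorm x hx hx1 w w.2)
  have hφ : ∀ g g' : G, ∀ w : V, φ g (φ g' w) = φ (g * g') w := fun g g' w => Subtype.ext (by
    show g * (g' * (w : G) * g'⁻¹) * g⁻¹ = g * g' * (w : G) * (g * g')⁻¹
    group)
  have e1 := hN c (ha3 c) hc1 v'
  have e2 := hN _ hac3 hacn v'
  have e3 := hN _ ha2c3 ha2cn v'
  have e4 := hN a (ha3 a) ha1 (φ c v')
  have e5 := hN a (ha3 a) ha1 (φ ((c : G) ^ 2) v')
  rw [hφ, hφ] at e4 e5
  have ha4 : ((a : G) ^ 2) ^ 2 = a := by
    rw [← pow_mul, show 2 * 2 = 3 + 1 by norm_num, pow_succ, ha3 a, one_mul]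
  rw [show ((a : G) * c) ^ 2 = a ^ 2 * c ^ 2 from hac.mul_pow 2] at e2
  rw [show ((a : G) ^ 2 * c) ^ 2 = a * c ^ 2 by rw [(hac.pow_left 2).mul_pow, ha4]] at e3
  have h3v : v' * v' * v' = 1 := by
    calc v' * v' * v'
        = (v' * φ c v' * φ ((c : G) ^ 2) v') * (v' * φ ((a : G) * c) v' * φ ((a : G) ^ 2 * c ^ 2) v') *
            (v' * φ ((a : G) ^ 2 * c) v' * φ ((a : G) * c ^ 2) v') *
            ((φ c v' * φ ((a : G) * c) v' * φ ((a : G) ^ 2 * c) v') *
              (φ ((c : G) ^ 2) v' * φ ((a : G) * c ^ 2) v' * φ ((a : G) ^ 2 * c ^ 2) v'))⁻¹ := by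
          apply eq_mul_inv_of_mul_eq
          ac_rfl
      _ = 1 := by rw [e1, e2, e3, e4, e5]; simp
  have hv3 : v ^ 3 = 1 := by
    have := congrArg Subtype.val h3v
    rw [pow_succ, sq]
    exact this
  obtain ⟨k, hk⟩ := IsPGroup.iff_orderOf.mp hM (v0 : M)
  rw [← Subgroup.orderOf_coe, ← hv] at hk
  have hv1 : v = 1 := by
    rw [← orderOf_eq_one_iff]
    refine Nat.eq_one_of_dvd_coprimes (a := 2 ^ k) (b := 3) ?_ (dvd_of_eq hk) (orderOf_dvd_of_pow_eq_one hv3)
    exact Nat.Coprime.pow_left k (by norm_num)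
  exact hv0 (Subtype.ext (Subtype.ext hv1))

theorem not_normal_pgroup (h : Big G) {p : ℕ} [hp : Fact p.Prime] (hd : p ∣ Nat.card G) {M : Subgroup G} [M.Normal]
    (hM : IsPGroup p M) : M = ⊥ := by
  rcases h.spec.prime_cases hp.out hd with rfl | rfl | rfl
  · exact not_normal_two h hM
  · exact not_normal_odd h (Or.inl rfl) hM
  · exact not_normal_odd h (Or.inr rfl) hM

theorem normal_pgroup_bot (h : Big G) {p : ℕ} [Fact p.Prime] {M : Subgroup G} [M.Normal] (hM : IsPGroup p M) :
    M = ⊥ := by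
  by_contra hne
  refine hne (not_normal_pgroup h ?_ hM)
  obtain ⟨n, hn⟩ := hM.exists_card_eq
  have hn0 : n ≠ 0 := fun e => hne (Subgroup.card_eq_one.mp (by rw [hn, e, pow_zero]))
  exact (hn ▸ dvd_pow_self p hn0 : p ∣ Nat.card M).trans M.card_subgroup_dvd_card

/-- **A minimal normal subgroup is simple, nonabelian, of order divisible by two, three and five.** -/
theorem exists_simple_normal (h : Big G) : ∃ T : Subgroup G, T.Normal ∧ IsSimpleGroup T ∧ ¬ IsMulCommutative T ∧
    2 ∣ Nat.card T ∧ 3 ∣ Nat.card T ∧ 5 ∣ Nat.card T := by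
  classical
  haveI : Nontrivial G := Finite.one_lt_card_iff_nontrivial.mp (by
    have := Nat.le_of_dvd Nat.card_pos h.five; omega)
  obtain ⟨T, hTn, -, hT1, hmin⟩ := CfsgLib.exists_minimal_normal (N := (⊤ : Subgroup G)) top_ne_bot
  haveI := hTn
  haveI : Nontrivial T := T.nontrivial_iff_ne_bot.mpr hT1
  have hnop : ∀ (p : ℕ) [Fact p.Prime], IsPGroup p T → False := fun p _ hp => hT1 (normal_pgroup_bot h hp)
  have key : ∀ n, ∀ M : Subgroup T, Nat.card M ≤ n → M.Normal → M ≠ ⊥ → M = ⊤ := by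
    intro n
    induction n with
    | zero => intro M hM; have := Nat.card_pos (α := M); omega
    | succ n ih =>
      intro M hMn hMnor hM1
      by_contra hMt
      set M' := M.map T.subtype with hM'
      have hM'T : M' ≤ T := Subgroup.map_subtype_le M
      have hM'1 : M' ≠ ⊥ := by rwa [hM', Ne, Subgroup.map_eq_bot_iff_of_injective _ T.subtype_injective]
      by_cases hnor : M'.Normal
      · rcases hmin M' hnor hM'T with e | e
        · exact hM'1 e
        · refine hMt (Subgroup.map_injective T.subtype_injective ?_)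
          rw [← hM', e, ← MonoidHom.range_eq_map, Subgroup.range_subtype]
      obtain ⟨x, hx, g, hgx⟩ : ∃ x ∈ M', ∃ g : G, g * x * g⁻¹ ∉ M' := by
        by_contra hno
        push Not at hno
        exact hnor ⟨hno⟩
      -- the conjugate of `M` inside `T`
      let c : T ≃* T := MulAut.conjNormal g
      set N := M.map c.toMonoidHom with hN
      haveI : N.Normal := hMnor.map _ c.surjective
      have hNcard : Nat.card N = Nat.card M :=
        (Nat.card_congr (M.equivMapOfInjective c.toMonoidHom c.injective).toEquiv).symm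
      have hne : M ⊓ N ≠ M := by
        intro e
        have hle : M ≤ N := by rw [← e]; exact inf_le_right
        have heq : M = N := Subgroup.eq_of_le_of_card_ge hle (le_of_eq hNcard)
        obtain ⟨m, hm, rfl⟩ := hx
        refine hgx ⟨c m, ?_, ?_⟩
        · show c m ∈ M
          rw [heq]
          exact ⟨m, hm, rfl⟩
        · exact MulAut.conjNormal_apply g m
      have hbot : M ⊓ N = ⊥ := by
        by_contra hb
        have hlt : Nat.card ↥(M ⊓ N) < Nat.card M := by
          by_contra hge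
          exact hne (Subgroup.eq_of_le_of_card_ge inf_le_left (not_lt.mp hge))
        have htop := ih (M ⊓ N) (by omega) inferInstance hb
        exact hMt (top_le_iff.mp (htop ▸ inf_le_left))
      obtain ⟨p, hp, hpd⟩ := Nat.exists_prime_and_dvd (n := Nat.card M) fun e => hM1 (Subgroup.card_eq_one.mp e)
      haveI := Fact.mk hp
      by_cases hpg : IsPGroup p M
      · have hsub : M'.IsSubnormal :=
          (Subgroup.Normal.isSubnormal hMnor).trans' hTn.isSubnormal
        have hle := CfsgLib.isSubnormal_isPGroup_le_pCore hsub (hpg.map T.subtype)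
        rw [normal_pgroup_bot h (CfsgLib.isPGroup_pCore (G := G) p)] at hle
        exact hM'1 (le_bot_iff.mp hle)
      · obtain ⟨q, hq, hqd, hqp⟩ : ∃ q, q.Prime ∧ q ∣ Nat.card M ∧ q ≠ p := by
          by_contra hno
          push Not at hno
          exact hpg (IsPGroup.of_card (Nat.eq_prime_pow_of_unique_prime_dvd Nat.card_pos.ne' fun {q} hq hqd => hno q hq hqd))
        haveI := Fact.mk hq
        obtain ⟨a, ha⟩ := exists_prime_orderOf_dvd_card' (G := M) p hpd
        obtain ⟨b, hb⟩ := exists_prime_orderOf_dvd_card' (G := N) q (hNcard ▸ hqd)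
        have hcom : Commute (a : T) (b : T) :=
          Subgroup.commute_of_normal_of_disjoint M N hMnor inferInstance (disjoint_iff.mpr hbot) _ _ a.2 b.2
        refine h.spec.not_commute hp hq hqp.symm (x := ((a : T) : G)) (y := ((b : T) : G)) ?_ ?_ ?_
        · exact congrArg Subtype.val hcom
        · rw [Subgroup.orderOf_coe, Subgroup.orderOf_coe, ha]
        · rw [Subgroup.orderOf_coe, Subgroup.orderOf_coe, hb]
  haveI hsimple : IsSimpleGroup T := ⟨fun M hM => by
    by_cases hM1 : M = ⊥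
    · exact Or.inl hM1
    · exact Or.inr (key _ M le_rfl hM hM1)⟩
  have hnc : ¬ IsMulCommutative T := by
    intro hc
    haveI := hc
    letI : CommGroup T := { (inferInstance : Group T) with mul_comm := fun a b => hc.is_comm.comm a b }
    have hpr : (Nat.card T).Prime := IsSimpleGroup.prime_card
    haveI := Fact.mk hpr
    exact hnop _ (IsPGroup.of_card (n := 1) (pow_one _).symm)
  have hdiv : ∀ (p : ℕ), p.Prime → p ∣ Nat.card G → p ∣ Nat.card T := by
    intro p hp hpG
    by_contra hnd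
    haveI := Fact.mk hp
    obtain ⟨x, hx⟩ := exists_prime_orderOf_dvd_card' (G := G) p hpG
    let φ : T ≃* T := MulAut.conjNormal x
    have hfpf : MonoidHom.FixedPointFree (φ : T →* T) := by
      intro t ht
      by_contra ht1
      have e : x * (t : G) * x⁻¹ = t := by
        rw [← MulAut.conjNormal_apply x t]; exact congrArg Subtype.val ht
      obtain ⟨q, hq, hqd⟩ := Nat.exists_prime_and_dvd (n := orderOf (t : G))
        (fun e => ht1 (Subtype.ext (orderOf_eq_one_iff.mp e)))
      refine h.spec.not_commute hq hp (fun e' => hnd ?_) (x := (t : G)) (y := x)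
        (mul_inv_eq_iff_eq_mul.mp e).symm hqd (dvd_of_eq hx.symm)
      subst e'
      exact hqd.trans (T.orderOf_dvd_natCard t.2)
    have hord : orderOf φ = p := by
      refine orderOf_eq_prime ?_ fun e => ?_
      · show (MulAut.conjNormal x : MulAut T) ^ p = 1
        rw [← map_pow, ← hx, pow_orderOf_eq_one, map_one]
      · obtain ⟨t, ht⟩ := exists_ne (1 : T)
        exact ht (hfpf t (by rw [e]; rfl))
    haveI := CfsgLib.Frob.isNilpotent_of_fpf_prime φ hfpf hp hord
    rcases (inferInstance : (Subgroup.center T).Normal).eq_bot_or_eq_top with e | e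
    · exact (Group.IsNilpotent.center_ne_bot (G := T)) e
    · exact hnc ⟨⟨fun a b => (Subgroup.mem_center_iff.mp (e ▸ Subgroup.mem_top b) a)⟩⟩
  exact ⟨T, hTn, hsimple, hnc, hdiv 2 Nat.prime_two h.two,
    hdiv 3 Nat.prime_three (dvd_trans (by norm_num) h.three), hdiv 5 Nat.prime_five h.five⟩

end CfsgLib.SpecFive
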