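/-
The index of the simple normal subgroup, and the identification with the alternating group of degree six.
-/
import Cfsg.Agent.Lib.SpecFive.Main

set_option autoImplicit false
set_option linter.unusedSectionVars false

namespace CfsgLib.SpecFive

open Cfsg

universe u

variable {G : Type u} [Group G] [Finite G]

local instance : Fact (Nat.Prime 3) := ⟨Nat.prime_three⟩
local instance : Fact (Nat.Prime 5) := ⟨Nat.prime_five⟩
local instance : Fact (Nat.Prime 2) := ⟨Nat.prime_two⟩

variable (h : Spec5 G) {T : Subgroup G} [T.Normal] [IsSimpleGroup T] (hTc : ¬ IsMulCommutative T)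

/-- The normaliser in `T` is the intersection with the normaliser. -/
theorem normalizer_map_eq (T : Subgroup G) (Q : Subgroup T) :
    (Subgroup.normalizer (Q : Set T)).map T.subtype =
      T ⊓ Subgroup.normalizer ((Q.map T.subtype : Subgroup G) : Set G) := by
  ext g
  constructor
  · rintro ⟨t, ht, rfl⟩
    refine ⟨t.2, ?_⟩
    show (t : G) ∈ Subgroup.normalizer ((Q.map T.subtype : Subgroup G) : Set G)
    rw [Subgroup.mem_normalizer_iff]
    intro x
    constructor
    · rintro ⟨q, hq, rfl⟩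
      exact ⟨t * q * t⁻¹, (Subgroup.mem_normalizer_iff.mp ht q).mp hq, by simp⟩
    · rintro ⟨q, hq, e⟩
      refine ⟨t⁻¹ * q * t, ?_, ?_⟩
      · refine (Subgroup.mem_normalizer_iff.mp ht _).mpr ?_
        simpa [mul_assoc] using hq
      · simp only [Subgroup.subtype_apply, Subgroup.coe_mul, Subgroup.coe_inv] at e ⊢
        rw [e]; group
  · rintro ⟨hgT, hg⟩
    refine ⟨⟨g, hgT⟩, ?_, rfl⟩
    show (⟨g, hgT⟩ : T) ∈ Subgroup.normalizer (Q : Set T)
    rw [Subgroup.mem_normalizer_iff]
    intro q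
    have := (Subgroup.mem_normalizer_iff.mp hg) (q : G)
    constructor
    · intro hq
      obtain ⟨q', hq', e⟩ := this.mp ⟨q, hq, rfl⟩
      rwa [show (⟨g, hgT⟩ : T) * q * (⟨g, hgT⟩ : T)⁻¹ = q' from Subtype.ext e.symm]
    · intro hq
      obtain ⟨q', hq', e⟩ := this.mpr ⟨_, hq, rfl⟩
      rwa [show q = q' from Subtype.ext e.symm]

theorem card_inter_normalizer {p : ℕ} [Fact p.Prime] (Q : Sylow p T) :
    Nat.card ↥(T ⊓ Subgroup.normalizer (((Q : Subgroup T).map T.subtype : Subgroup G) : Set G)) =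
      (Q : Subgroup T).relIndex (Subgroup.normalizer ((Q : Subgroup T) : Set T)) * Nat.card Q := by
  rw [← normalizer_map_eq T (Q : Subgroup T),
    ← Nat.card_congr (Subgroup.equivMapOfInjective _ _ T.subtype_injective).toEquiv,
    ← Nat.card_congr (Subgroup.subgroupOfEquivOfLe (Subgroup.le_normalizer (H := (Q : Subgroup T)))).toEquiv, mul_comm]
  exact (((Q : Subgroup T).subgroupOf _).card_mul_index).symm

theorem card_normalizer_eq {p : ℕ} [Fact p.Prime] (P : Sylow p G) :
    Nat.card (Subgroup.normalizer ((P : Subgroup G) : Set G)) =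
      (P : Subgroup G).relIndex (Subgroup.normalizer ((P : Subgroup G) : Set G)) * Nat.card P := by
  rw [← Nat.card_congr (Subgroup.subgroupOfEquivOfLe (Subgroup.le_normalizer (H := (P : Subgroup G)))).toEquiv, mul_comm]
  exact (((P : Subgroup G).subgroupOf _).card_mul_index).symm

/-- Frattini: the index of `T` times the order of the normaliser in `T`. -/
theorem frattini_card {p : ℕ} [Fact p.Prime] (Q : Sylow p T) :
    T.index * ((Q : Subgroup T).relIndex (Subgroup.normalizer ((Q : Subgroup T) : Set T)) * Nat.card Q) =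
      Nat.card (Subgroup.normalizer (((Q : Subgroup T).map T.subtype : Subgroup G) : Set G)) := by
  set M := Subgroup.normalizer (((Q : Subgroup T).map T.subtype : Subgroup G) : Set G) with hM
  have hsup : M ⊔ T = ⊤ := Sylow.normalizer_sup_eq_top Q
  have h1 : T.index = T.relIndex M := by
    rw [← Subgroup.relIndex_top_right, ← hsup, Subgroup.relIndex_sup_right]
  have h2 : Nat.card (T.subgroupOf M) = Nat.card ↥(T ⊓ M) :=
    (Nat.card_congr (Subgroup.equivMapOfInjective (T.subgroupOf M) _ M.subtype_injective).toEquiv).trans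
      (by rw [Subgroup.subgroupOf_map_subtype])
  rw [h1, ← card_inter_normalizer Q, ← hM, ← h2, mul_comm]
  exact (T.subgroupOf M).card_mul_index

include h in
theorem normalizer_map_le {p : ℕ} [Fact p.Prime] (hp : p = 3 ∨ p = 5) (Q : Sylow p T) (hQ : (Q : Subgroup T) ≠ ⊥)
    (P : Sylow p G) (hle : (Q : Subgroup T).map T.subtype ≤ (P : Subgroup G)) :
    Subgroup.normalizer (((Q : Subgroup T).map T.subtype : Subgroup G) : Set G) ≤
      Subgroup.normalizer ((P : Subgroup G) : Set G) := by
  intro g hg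
  obtain ⟨q, hq, hq1⟩ := (Subgroup.bot_or_exists_ne_one _).resolve_left hQ
  refine mem_normalizer_of_conj_mem h hp P (hle ⟨q, hq, rfl⟩) (fun e => hq1 (Subtype.ext e)) (hle ?_)
  exact (Subgroup.mem_normalizer_iff.mp hg _).mp ⟨q, hq, rfl⟩

include h hTc in
/-- The index of `T` is prime to three and five. -/
theorem index_coprime {p q : ℕ} [Fact p.Prime] [Fact q.Prime] (hp : p = 3 ∨ p = 5) (hq : q = 8 - p)
    (hqT : q ∣ Nat.card T) : ¬ p ∣ T.index := by
  intro hd
  have hq' : q = 3 ∨ q = 5 := by rcases hp with rfl | rfl <;> omega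
  have hqpp : q.Prime := Fact.out
  have hppp : p.Prime := Fact.out
  have hqp : p ≠ q := by rcases hp with rfl | rfl <;> omega
  have h8 : 8 - q = p := by rcases hp with rfl | rfl <;> omega
  obtain ⟨Q⟩ : Nonempty (Sylow q T) := inferInstance
  have hQ : (Q : Subgroup T) ≠ ⊥ := Q.ne_bot_of_dvd_card hqT
  obtain ⟨R, hR⟩ := (Q.isPGroup'.map T.subtype).exists_le_sylow
  have hR1 : (R : Subgroup G) ≠ ⊥ := by
    intro e
    rw [e] at hR
    exact hQ ((Subgroup.map_eq_bot_iff_of_injective _ T.subtype_injective).mp (le_bot_iff.mp hR))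
  set e := (R : Subgroup G).relIndex (Subgroup.normalizer ((R : Subgroup G) : Set G)) with he
  set f := (Q : Subgroup T).relIndex (Subgroup.normalizer ((Q : Subgroup T) : Set T)) with hf
  have hdvd : T.index * (f * Nat.card Q) ∣ e * Nat.card R := by
    rw [frattini_card Q, he, ← card_normalizer_eq R]
    exact Subgroup.card_dvd_of_le (normalizer_map_le h hq' Q hQ R hR)
  obtain ⟨c, hc⟩ := R.isPGroup'.exists_card_eq
  obtain ⟨-, hev, hod⟩ := sylow_normalizer h hq' R hR1
  have hpe : p ∣ e := by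
    refine (Nat.Coprime.dvd_of_dvd_mul_right ?_ ((hd.trans (Dvd.intro _ rfl)).trans hdvd))
    rw [show Nat.card R = q ^ c from hc]
    exact ((Nat.coprime_primes hppp hqpp).mpr hqp).pow_right c
  have he1 : e = p := by
    have h2 : ¬ 2 ∣ e := fun h2 => by
      have h28 := (Nat.prime_dvd_prime_iff_eq hppp Nat.prime_two).mp
        (hppp.dvd_of_dvd_pow (show p ∣ 2 ^ 3 from hpe.trans (hev h2).1))
      omega
    have := hod h2
    rw [h8] at this
    exact Nat.dvd_antisymm this hpe
  have hf1 : f = 1 := by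
    obtain ⟨⟨-, hfd⟩, hfev, hfod⟩ := sylow_normalizer (h.subgroup T) hq' Q hQ
    rw [he1] at hdvd
    have hne2 : ¬ 2 ∣ f := fun h2 => by
      have h1 : 2 ∣ p * Nat.card R := ((h2.trans (Dvd.intro _ rfl)).trans (Dvd.intro_left _ rfl)).trans hdvd
      rw [show Nat.card R = q ^ c from hc] at h1
      rcases Nat.prime_two.dvd_mul.mp h1 with e1 | e1
      · have := (Nat.prime_dvd_prime_iff_eq Nat.prime_two hppp).mp e1; omega
      · have := (Nat.prime_dvd_prime_iff_eq Nat.prime_two hqpp).mp (Nat.prime_two.dvd_of_dvd_pow e1); omega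
    have hfp := hfod hne2
    rw [h8] at hfp
    rcases (Nat.dvd_prime hppp).mp hfp with e1 | e1
    · exact e1
    · exfalso
      have h1 : p * p ∣ p * Nat.card R := by
        refine dvd_trans (Nat.mul_dvd_mul hd ?_) hdvd
        rw [hf, e1]; exact Dvd.intro _ rfl
      have h2 : p ∣ q ^ c := by
        have := Nat.dvd_of_mul_dvd_mul_left hppp.pos h1
        rwa [show Nat.card R = q ^ c from hc] at this
      exact hqp ((Nat.prime_dvd_prime_iff_eq hppp hqpp).mp (hppp.dvd_of_dvd_pow h2))
  exact normalizer_ne (h.subgroup T) hq' Q hQ (sylow_ne_top hTc Q) hf1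

include h hTc in
theorem exists_index_two_pow (h3 : 3 ∣ Nat.card T) (h5 : 5 ∣ Nat.card T) : ∃ n, T.index = 2 ^ n := by
  refine ⟨_, Nat.eq_prime_pow_of_unique_prime_dvd Subgroup.index_ne_zero_of_finite fun {r} hr hrd => ?_⟩
  rcases h.prime_cases hr (hrd.trans T.index_dvd_card) with e | e | e
  · exact e
  · exact absurd (e ▸ hrd) (index_coprime h hTc (p := 3) (q := 5) (Or.inl rfl) rfl h5)
  · exact absurd (e ▸ hrd) (index_coprime h hTc (p := 5) (q := 3) (Or.inr rfl) rfl h3)

/-- A Sylow subgroup of `T` is one of `G` when the index is prime to `p`. -/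
theorem sylow_map_eq {p : ℕ} [hp : Fact p.Prime] (hd : ¬ p ∣ T.index) (Q : Sylow p T) :
    ∃ P : Sylow p G, (P : Subgroup G) = (Q : Subgroup T).map T.subtype := by
  refine ⟨(Q.isPGroup'.map T.subtype).toSylow ?_, IsPGroup.toSylow_coe _ _⟩
  rw [Subgroup.index_map_subtype]
  intro hh
  rcases hp.out.dvd_mul.mp hh with e | e
  · exact Q.not_dvd_index e
  · exact hd e

/-- Cosets of an abelian subgroup of small index meet at most that many conjugates. -/
theorem exists_nonconj {H : Type u} [Group H] [Finite H] (hH : Spec5 H) (S : Sylow 3 H)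
    (hab : ∀ a ∈ (S : Subgroup H), ∀ b ∈ (S : Subgroup H), a * b = b * a)
    (hcard : (S : Subgroup H).relIndex (Subgroup.normalizer ((S : Subgroup H) : Set H)) + 1 < Nat.card S) :
    ∃ a b : H, orderOf a = 3 ∧ orderOf b = 3 ∧ ∀ g : H, g * a * g⁻¹ ≠ b := by
  classical
  haveI := Fintype.ofFinite H
  set N := Subgroup.normalizer ((S : Subgroup H) : Set H) with hN
  set K := (S : Subgroup H).subgroupOf N with hK
  haveI : Fintype (N ⧸ K) := Fintype.ofFinite _
  have hexp : ∀ x ∈ (S : Subgroup H), x ≠ 1 → orderOf x = 3 := fun x hx hx1 =>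
    orderOf_eq_prime (hH.pgroup_pow_eq_one (Or.inl rfl) S.isPGroup' hx) hx1
  obtain ⟨a, ha, ha1⟩ := (Subgroup.bot_or_exists_ne_one (S : Subgroup H)).resolve_left (fun e => by
    have h1 : Nat.card (S : Subgroup H) = 1 := by rw [e, Subgroup.card_bot]
    have h2 : Nat.card (S : Subgroup H) = Nat.card S := rfl
    omega)
  set O := (Finset.univ : Finset (N ⧸ K)).image (fun q => (q.out : H) * a * (q.out : H)⁻¹) with hO
  have hOc : O.card ≤ K.index := by
    refine Finset.card_image_le.trans (le_of_eq ?_)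
    rw [Finset.card_univ, ← Nat.card_eq_fintype_card]; rfl
  obtain ⟨b, hb, hbO⟩ : ∃ b ∈ Finset.univ.filter (fun x => x ∈ (S : Subgroup H)), b ∉ insert (1 : H) O := by
    refine Finset.not_subset.mp fun hsub => ?_
    have h1 := Finset.card_le_card hsub
    have h2 := Finset.card_insert_le (1 : H) O
    have h3 : (Finset.univ.filter (fun x => x ∈ (S : Subgroup H))).card = Nat.card S := by
      rw [Nat.card_eq_fintype_card, Fintype.card_subtype]
    change K.index + 1 < _ at hcard
    omega
  have hbS := (Finset.mem_filter.mp hb).2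
  refine ⟨a, b, hexp a ha ha1, hexp b hbS (fun e => hbO (by simp [e])), fun g hg => ?_⟩
  have hgN : g ∈ N := mem_normalizer_of_conj_mem hH (Or.inl rfl) S ha ha1 (hg ▸ hbS)
  refine hbO (Finset.mem_insert_of_mem (Finset.mem_image.mpr ⟨QuotientGroup.mk ⟨g, hgN⟩, Finset.mem_univ _, ?_⟩))
  set o := (QuotientGroup.mk (⟨g, hgN⟩ : N) : N ⧸ K).out
  have hmem : o⁻¹ * (⟨g, hgN⟩ : N) ∈ K := QuotientGroup.eq.mp (QuotientGroup.out_eq' _)
  have hk : ((o : H))⁻¹ * g ∈ (S : Subgroup H) := Subgroup.mem_subgroupOf.mp hmem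
  rw [← hg]
  calc (o : H) * a * (o : H)⁻¹ = (o : H) * (a * (((o : H))⁻¹ * g)) * g⁻¹ := by group
    _ = (o : H) * ((((o : H))⁻¹ * g) * a) * g⁻¹ := by rw [hab a ha _ hk]
    _ = g * a * g⁻¹ := by group

/-- **The case of a Sylow three-subgroup of order at least nine.** -/
theorem big_case (hB : Big G) : Nonempty (G ≃* alternatingGroup (Fin 6)) := by
  classical
  have h := hB.spec
  obtain ⟨T, hTn, hTs, hTc, hT2, hT3, hT5⟩ := exists_simple_normal hB
  haveI := hTn
  haveI := hTs
  haveI := Fintype.ofFinite T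
  obtain ⟨n, hn⟩ := exists_index_two_pow h hTc hT3 hT5
  have hnd : ∀ p : ℕ, p.Prime → p ≠ 2 → ¬ p ∣ T.index := fun p hp hp2 hd => hp2 (by
    rw [hn] at hd
    exact (Nat.prime_dvd_prime_iff_eq hp Nat.prime_two).mp (hp.dvd_of_dvd_pow hd))
  obtain ⟨Q⟩ : Nonempty (Sylow 3 T) := inferInstance
  obtain ⟨P, hPQ⟩ := sylow_map_eq (hnd 3 Nat.prime_three (by norm_num)) Q
  have hcardPQ : Nat.card P = Nat.card Q := by
    rw [show Nat.card P = Nat.card (P : Subgroup G) from rfl, hPQ]
    exact (Nat.card_congr (Subgroup.equivMapOfInjective _ _ T.subtype_injective).toEquiv).symm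
  have hP9 : 9 ∣ Nat.card P := by
    rw [P.card_eq_multiplicity, show (9 : ℕ) = 3 ^ 2 by norm_num]
    exact pow_dvd_pow 3 ((Nat.Prime.pow_dvd_iff_le_factorization Nat.prime_three Nat.card_pos.ne').mp hB.three)
  obtain ⟨hQ9, heQ⟩ : Nat.card Q = 9 ∧
      ((Q : Subgroup T).relIndex (Subgroup.normalizer ((Q : Subgroup T) : Set T)) = 2 ∨
        (Q : Subgroup T).relIndex (Subgroup.normalizer ((Q : Subgroup T) : Set T)) = 4) := by
    rcases simple_three (h.subgroup T) hTc Q hT2 hT3 hT5 with e | e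
    · rw [hcardPQ, e] at hP9; norm_num at hP9
    · exact e
  have hcomm := IsPGroup.commutative_of_card_eq_prime_sq (p := 3) (G := Q) (by rw [hQ9]; norm_num)
  have hab : ∀ a ∈ (Q : Subgroup T), ∀ b ∈ (Q : Subgroup T), a * b = b * a := fun a ha b hb =>
    congrArg Subtype.val (hcomm ⟨a, ha⟩ ⟨b, hb⟩)
  have hQ1 : (Q : Subgroup T) ≠ ⊥ := Q.ne_bot_of_dvd_card hT3
  obtain ⟨φ⟩ : Nonempty (T ≃* alternatingGroup (Fin 6)) := by
    refine Cfsg.Agent.S3341.result Q (Q : Subgroup T) rfl ⟨⟨fun a b => hcomm a b⟩⟩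
      (fun a ha => (h.subgroup T).pgroup_pow_eq_one (Or.inl rfl) Q.isPGroup' ha) hQ9
      (exists_nonconj (h.subgroup T) Q hab (by rcases heQ with e | e <;> rw [e, hQ9] <;> norm_num)) fun s hs hs1 => ?_
    refine le_antisymm (sylow_centralizer_le (h.subgroup T) (Or.inl rfl) Q s hs hs1) fun x hx => ?_
    rw [Subgroup.mem_centralizer_singleton_iff]
    exact hab x hx s hs
  have hT360 : Nat.card T = 360 := by
    rw [Nat.card_congr φ.toEquiv, Nat.card_eq_fintype_card]
    decide +kernel
  -- the automiser in `T` has order four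
  have heQ4 : (Q : Subgroup T).relIndex (Subgroup.normalizer ((Q : Subgroup T) : Set T)) = 4 := by
    rcases heQ with e | e
    · exfalso
      have h1 := card_eq_index_mul Q
      have h2 := index_normalizer_congr (h.subgroup T) (Or.inl rfl) Q
      rw [hT360, e, hQ9] at h1
      rw [hQ9] at h2
      omega
    · exact e
  -- the index is at most two
  have hidx : T.index ≤ 2 := by
    have h1 := frattini_card Q
    rw [heQ4, hQ9, ← hPQ, card_normalizer_eq P, hcardPQ, hQ9] at h1
    have hP1 : (P : Subgroup G) ≠ ⊥ := by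
      rw [hPQ, Ne, Subgroup.map_eq_bot_iff_of_injective _ T.subtype_injective]; exact hQ1
    obtain ⟨⟨he8, -⟩, -, -⟩ := sylow_normalizer h (Or.inl rfl) P hP1
    omega
  rcases (by have := Subgroup.index_ne_zero_of_finite (H := T); omega : T.index = 1 ∨ T.index = 2) with h1 | h2
  · exact ⟨((MulEquiv.subgroupCongr (Subgroup.index_eq_one.mp h1)).trans Subgroup.topEquiv).symm.trans φ⟩
  exfalso
  -- no involution lies outside `T`
  have hinvT : ∀ u : G, orderOf u = 2 → u ∈ T := by
    intro u hu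
    by_contra huT
    have hu2 : u * u = 1 := mul_self_of_orderOf_two hu
    have hout : (⟨u, Subgroup.mem_top u⟩ : (⊤ : Subgroup G)) ∉ pCore 2 (⊤ : Subgroup G) := by
      intro hmem
      set N := (pCore 2 (⊤ : Subgroup G)).map (Subgroup.topEquiv (G := G)).toMonoidHom with hN
      haveI : N.Normal := Subgroup.Normal.map inferInstance _ (MulEquiv.surjective _)
      have h0 := normal_pgroup_bot hB (M := N) ((CfsgLib.isPGroup_pCore (G := (⊤ : Subgroup G)) 2).map _)
      have huN : u ∈ N := ⟨_, hmem, rfl⟩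
      rw [h0, Subgroup.mem_bot] at huN
      rw [huN, orderOf_one] at hu
      omega
    obtain ⟨t, -, hto, ht1, hinv⟩ := CfsgLib.S3Free.TwoF.exists_inverted_of_not_mem (Subgroup.mem_top u) hu2 hout
    obtain ⟨r, -, hrp, hr2, hri⟩ := CfsgLib.S3Free.TwoF.exists_inverted_prime hto ht1 hinv
    have hr35 : orderOf r = 3 ∨ orderOf r = 5 := by
      have := h.prime_cases hrp (orderOf_dvd_natCard r)
      omega
    haveI := Fact.mk hrp
    obtain ⟨S, hS⟩ := (IsPGroup.of_card (n := 1) (G := Subgroup.zpowers r)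
      (by rw [Nat.card_zpowers, pow_one])).exists_le_sylow
    have hr1 : r ≠ 1 := fun e => hrp.ne_one (by rw [e, orderOf_one])
    have hrS : r ∈ (S : Subgroup G) := hS (Subgroup.mem_zpowers r)
    have hpT : orderOf r ∣ Nat.card T := by rcases hr35 with e | e <;> rw [e] <;> assumption
    have hndx := hnd _ hrp hr2
    -- the Sylow subgroup lies in `T`
    have hST : (S : Subgroup G) ≤ T := by
      intro x hx
      rw [← QuotientGroup.eq_one_iff (N := T), ← orderOf_eq_one_iff]
      obtain ⟨k, hk⟩ := IsPGroup.iff_orderOf.mp S.isPGroup' ⟨x, hx⟩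
      rw [Subgroup.orderOf_mk] at hk
      refine Nat.eq_one_of_dvd_coprimes (a := orderOf r ^ k) (b := T.index)
        (Nat.Coprime.pow_left k (hrp.coprime_iff_not_dvd.mpr hndx))
        (hk ▸ orderOf_map_dvd (QuotientGroup.mk' T) x) ?_
      rw [Subgroup.index_eq_card]
      exact orderOf_dvd_natCard _
    have huN : u ∈ Subgroup.normalizer ((S : Subgroup G) : Set G) :=
      mem_normalizer_of_conj_mem h hr35 S hrS hr1 (by rw [hri]; exact inv_mem hrS)
    have hS1 : (S : Subgroup G) ≠ ⊥ := fun e => hr1 (by simpa [e] using hrS)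
    -- an involution of `T` normalising it
    set S' : Subgroup T := (S : Subgroup G).subgroupOf T with hS'
    have hS'p : IsPGroup (orderOf r) S' := S.isPGroup'.of_equiv (Subgroup.subgroupOfEquivOfLe hST).symm
    have hS'i : ¬ orderOf r ∣ S'.index := fun hd => S.not_dvd_index
      (hd.trans (Subgroup.relIndex_dvd_index_of_le hST))
    set Q' := hS'p.toSylow hS'i with hQ'
    have hQ'1 : (Q' : Subgroup T) ≠ ⊥ := Q'.ne_bot_of_dvd_card hpT
    obtain ⟨-, -, hod⟩ := sylow_normalizer (h.subgroup T) hr35 Q' hQ'1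
    have hev : 2 ∣ (Q' : Subgroup T).relIndex (Subgroup.normalizer ((Q' : Subgroup T) : Set T)) := by
      by_contra hne2
      have hdv := hod hne2
      have hq : (8 - orderOf r).Prime := by rcases hr35 with e | e <;> rw [e] <;> norm_num
      rcases (Nat.dvd_prime hq).mp hdv with e | e
      · exact normalizer_ne (h.subgroup T) hr35 Q' hQ'1 (sylow_ne_top hTc Q') e
      · have hc := card_eq_index_mul Q'
        have hcg := index_normalizer_congr (h.subgroup T) hr35 Q'
        rw [hT360, e, Q'.card_eq_multiplicity, hT360] at hc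
        rw [Q'.card_eq_multiplicity, hT360] at hcg
        have f3 : Nat.factorization 360 3 = 2 := by
          rw [show (360 : ℕ) = 3 ^ 2 * 40 by norm_num, Nat.factorization_mul (by norm_num) (by norm_num),
            Nat.Prime.factorization_pow Nat.prime_three, Finsupp.add_apply, Finsupp.single_eq_same,
            Nat.factorization_eq_zero_of_not_dvd (by norm_num : ¬ 3 ∣ 40)]
        have f5 : Nat.factorization 360 5 = 1 := by
          rw [show (360 : ℕ) = 5 ^ 1 * 72 by norm_num, Nat.factorization_mul (by norm_num) (by norm_num),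
            Nat.Prime.factorization_pow Nat.prime_five, Finsupp.add_apply, Finsupp.single_eq_same,
            Nat.factorization_eq_zero_of_not_dvd (by norm_num : ¬ 5 ∣ 72)]
        generalize (Subgroup.normalizer ((Q' : Subgroup T) : Set T)).index = nn at hc hcg
        rcases hr35 with e' | e' <;> rw [e'] at hc hcg <;> simp only [f3, f5] at hc hcg <;> norm_num at hc hcg <;> omega
    obtain ⟨j, hj⟩ := exists_prime_orderOf_dvd_card' (G := Subgroup.normalizer ((Q' : Subgroup T) : Set T)) 2 (by
      rw [card_normalizer_eq Q']; exact hev.trans (Dvd.intro _ rfl))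
    have hjG : orderOf (((j : T)) : G) = 2 := by rw [Subgroup.orderOf_coe, Subgroup.orderOf_coe, hj]
    have hjN : ((j : T) : G) ∈ Subgroup.normalizer ((S : Subgroup G) : Set G) := by
      refine mem_normalizer_of_conj_mem h hr35 S hrS hr1 ?_
      have hr' : (⟨r, hST hrS⟩ : T) ∈ (Q' : Subgroup T) := by
        rw [hQ', IsPGroup.toSylow_coe]; exact Subgroup.mem_subgroupOf.mpr hrS
      have := (Subgroup.mem_normalizer_iff.mp j.2 _).mp hr'
      exact Subgroup.mem_subgroupOf.mp (show _ ∈ S' from this)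
    obtain ⟨-, hevG, -⟩ := sylow_normalizer h hr35 S hS1
    have hevS : 2 ∣ (S : Subgroup G).relIndex (Subgroup.normalizer ((S : Subgroup G) : Set G)) := by
      obtain ⟨k, hk⟩ := S.isPGroup'.exists_card_eq
      have h1 : 2 ∣ Nat.card (Subgroup.normalizer ((S : Subgroup G) : Set G)) := by
        rw [← hu]; exact Subgroup.orderOf_dvd_natCard _ huN
      rw [card_normalizer_eq S, show Nat.card S = orderOf r ^ k from hk] at h1
      exact Nat.Coprime.dvd_of_dvd_mul_right
        (((Nat.coprime_primes Nat.prime_two hrp).mpr hr2.symm).pow_right k) h1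
    obtain ⟨w, hw, hwe⟩ := (hevG hevS).2 _ u hjN huN hjG hu
    exact huT (hwe ▸ mul_mem (mul_mem (hST hw) (j : T).2) (inv_mem (hST hw)))
  -- elements of order four
  obtain ⟨r, hr4, h90, hrc⟩ := AltSix.facts φ
  haveI := Fintype.ofFinite G
  have hcl : Nat.card {x : G // IsConj (r : G) x} ≤ 90 := by
    rw [← h90]
    have hmem : ∀ x : {x : G // IsConj (r : G) x}, (x : G) ∈ T := fun x => by
      obtain ⟨g, hg⟩ := isConj_iff.mp x.2
      exact hg ▸ hTn.conj_mem _ r.2 g
    refine Nat.card_le_card_of_injective (fun x => ⟨⟨x, hmem x⟩, ?_⟩) fun x y e => Subtype.ext ?_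
    · obtain ⟨g, hg⟩ := isConj_iff.mp x.2
      rw [← Subgroup.orderOf_coe, show (((⟨x, hmem x⟩ : T)) : G) = x from rfl, ← hg, ← hr4, ← Subgroup.orderOf_coe r]
      simpa using orderOf_injective (MulAut.conj g).toMonoidHom (MulEquiv.injective _) (r : G)
    · exact congrArg (fun z : {t : T // orderOf t = 4} => ((z.1 : T) : G)) e
  have hcc := CfsgLib.CharTheory.card_isConj_mul_card_centralizer (r : G)
  have hG720 : Nat.card G = 720 := by rw [← T.card_mul_index, hT360, h2]
  rw [hG720] at hcc
  obtain ⟨a, ha, haT⟩ : ∃ a, a * (r : G) = (r : G) * a ∧ a ∉ T := by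
    by_contra hno
    push Not at hno
    set C := Subgroup.centralizer ({(r : G)} : Set G) with hC
    have hmemT : ∀ x : C, (x : G) ∈ T := fun x => hno x (Subgroup.mem_centralizer_singleton_iff.mp x.2)
    have h4 : Nat.card C ≤ 4 := by
      have hle : Nat.card C ≤ Nat.card {x : T // x = 1 ∨ x = r ∨ x = r ^ 2 ∨ x = r ^ 3} := by
        refine Nat.card_le_card_of_injective (fun x => ⟨⟨x, hmemT x⟩, hrc _ (Subtype.ext ?_)⟩) fun x y e => Subtype.ext ?_
        · exact Subgroup.mem_centralizer_singleton_iff.mp x.2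
        · exact congrArg (fun z : {t : T // t = 1 ∨ t = r ∨ t = r ^ 2 ∨ t = r ^ 3} => ((z.1 : T) : G)) e
      refine hle.trans ?_
      rw [Nat.card_eq_fintype_card, Fintype.card_subtype]
      refine (Finset.card_le_card (t := {1, r, r ^ 2, r ^ 3}) fun x hx => ?_).trans Finset.card_le_four
      simpa using (Finset.mem_filter.mp hx).2
    nlinarith
  have ha4 : a ^ 4 = 1 := by
    have h2m : a ^ 2 ∈ T := by
      rw [← h2]; exact Subgroup.pow_index_mem T a
    have hc2 : (⟨a ^ 2, h2m⟩ : T) * r = r * ⟨a ^ 2, h2m⟩ :=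
      Subtype.ext ((show Commute a (r : G) from ha).pow_left 2).eq
    have h4 : orderOf (a ^ 2 : G) ∣ 4 := by
      have hr' : r ^ 4 = 1 := by rw [← hr4, pow_orderOf_eq_one]
      have : (⟨a ^ 2, h2m⟩ : T) ^ 4 = 1 := by
        rcases hrc _ hc2 with e | e | e | e <;> rw [e] <;> first
          | exact one_pow 4
          | exact hr'
          | (rw [← pow_mul, mul_comm, pow_mul, hr', one_pow])
      exact orderOf_dvd_of_pow_eq_one (congrArg Subtype.val this)
    have h8 : a ^ 8 = 1 := by
      rw [show 8 = 2 * 4 by norm_num, pow_mul]; exact orderOf_dvd_iff_pow_eq_one.mp h4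
    obtain ⟨m, -, hm⟩ := (Nat.dvd_prime_pow Nat.prime_two).mp (show orderOf a ∣ 2 ^ 3 from orderOf_dvd_of_pow_eq_one h8)
    exact h.two_pow_four hm
  have h2m : a ^ 2 ∈ T := by rw [← h2]; exact Subgroup.pow_index_mem T a
  have hc2 : (⟨a ^ 2, h2m⟩ : T) * r = r * ⟨a ^ 2, h2m⟩ :=
    Subtype.ext ((show Commute a (r : G) from ha).pow_left 2).eq
  have hr22 : (r ^ 2) ≠ 1 := fun e => by
    have := orderOf_le_of_pow_eq_one (by norm_num) e
    omega
  have hr' : r ^ 4 = 1 := by rw [← hr4, pow_orderOf_eq_one]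
  have hsq : (⟨a ^ 2, h2m⟩ : T) ^ 2 = 1 := Subtype.ext (by
    rw [Subgroup.coe_pow]; show (a ^ 2) ^ 2 = 1; rw [← pow_mul]; exact ha4)
  rcases hrc _ hc2 with e | e | e | e
  · refine haT (hinvT a (orderOf_eq_prime (congrArg Subtype.val e) fun e1 => haT (e1 ▸ one_mem T)))
  · rw [e] at hsq; exact hr22 hsq
  · -- `a r` is an involution
    have hab : a * (r : G) ∉ T := fun hh => haT (by
      have := mul_mem hh (inv_mem r.2)
      rwa [mul_inv_cancel_right] at this)
    refine hab (hinvT _ (orderOf_eq_prime ?_ fun e1 => hab (e1 ▸ one_mem T)))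
    rw [(show Commute a (r : G) from ha).mul_pow]
    have e' : a ^ 2 = ((r ^ 2 : T) : G) := congrArg Subtype.val e
    rw [e', ← Subgroup.coe_pow, ← Subgroup.coe_mul, ← pow_add, show (2 + 2 : ℕ) = 4 from rfl, hr', Subgroup.coe_one]
  · rw [e, ← pow_mul, show 3 * 2 = 4 + 2 by norm_num, pow_add, hr', one_mul] at hsq
    exact hr22 hsq

end CfsgLib.SpecFive
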